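import Cfsg.Agent.Lib.LocalEven.Basic

/-!
`pCore`, `pCoreOf`, `pPrimeCore`, `pResidual`, `pElementClosure` and Sylow subgroups of subgroups.
-/

set_option autoImplicit false

namespace Cfsg.Agent.Lib.LocalEven

universe u

variable {G : Type u} [Group G] {p : ℕ}

/-! ### pCore -/

theorem pCore_normal (p : ℕ) (G : Type u) [Group G] : (Cfsg.pCore p G).Normal := by
  refine normal_of_conjS_le fun g => ?_
  rw [conjS, Cfsg.pCore, Subgroup.map_le_iff_le_comap]
  refine sSup_le fun N hN => ?_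
  rw [← Subgroup.map_le_iff_le_comap]
  have hn := hN.1
  exact le_trans (conjS_normal g N).le (le_sSup hN)

theorem pCore_isPGroup (p : ℕ) (G : Type u) [Group G] : IsPGroup p (Cfsg.pCore p G) :=
  Sylow.sSup_of_normal _ (fun _ h => h.2) (fun _ h => h.1)

theorem le_pCore {N : Subgroup G} (hn : N.Normal) (hp : IsPGroup p N) : N ≤ Cfsg.pCore p G :=
  le_sSup (show N ∈ {N : Subgroup G | N.Normal ∧ IsPGroup p N} from ⟨hn, hp⟩)

theorem pCore_le_sylow (P : Sylow p G) : Cfsg.pCore p G ≤ P :=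
  sSup_le fun N hN => by
    have := hN.1
    exact hN.2.le_sylow_of_normal P

theorem pCore_characteristic (p : ℕ) (G : Type u) [Group G] : (Cfsg.pCore p G).Characteristic := by
  rw [Subgroup.characteristic_iff_map_le]
  intro e
  exact le_pCore ((pCore_normal p G).map _ e.surjective) ((pCore_isPGroup p G).map _)

theorem map_pCore_le_of_surjective {K : Type*} [Group K] (f : G →* K) (hf : Function.Surjective f) :
    (Cfsg.pCore p G).map f ≤ Cfsg.pCore p K :=
  le_sSup (show _ ∈ {N : Subgroup K | N.Normal ∧ IsPGroup p N} from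
    ⟨(pCore_normal p G).map f hf, (pCore_isPGroup p G).map f⟩)

theorem pCoreOf_le (H : Subgroup G) : Cfsg.pCoreOf p H ≤ H := Subgroup.map_subtype_le _

theorem pCoreOf_isPGroup (H : Subgroup G) : IsPGroup p (Cfsg.pCoreOf p H) :=
  (pCore_isPGroup p H).map _

theorem le_normalizer_pCoreOf (H : Subgroup G) :
    H ≤ Subgroup.normalizer ((Cfsg.pCoreOf p H : Subgroup G) : Set G) :=
  haveI := pCore_normal p H
  map_subtype_le_normalizer _

theorem le_pCoreOf {N H : Subgroup G} (hNH : N ≤ H) (hn : H ≤ Subgroup.normalizer (N : Set G))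
    (hp : IsPGroup p N) : N ≤ Cfsg.pCoreOf p H := by
  have h1 : N.subgroupOf H ≤ Cfsg.pCore p H :=
    le_pCore (subgroupOf_normal_of_le hn) hp.comap_subtype
  have := Subgroup.map_mono (f := H.subtype) h1
  rwa [Subgroup.map_subgroupOf_eq_of_le hNH] at this

theorem subgroupOf_pCoreOf (H : Subgroup G) :
    (Cfsg.pCoreOf p H).subgroupOf H = Cfsg.pCore p H :=
  Subgroup.comap_map_eq_self_of_injective H.subtype_injective _

theorem mem_pCoreOf {H : Subgroup G} {x : G} :
    x ∈ Cfsg.pCoreOf p H ↔ ∃ h : x ∈ H, (⟨x, h⟩ : H) ∈ Cfsg.pCore p H := by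
  constructor
  · rintro ⟨y, hy, rfl⟩; exact ⟨y.2, hy⟩
  · rintro ⟨h, hy⟩; exact ⟨⟨x, h⟩, hy, rfl⟩

theorem pCoreOf_top : Cfsg.pCoreOf p (⊤ : Subgroup G) = Cfsg.pCore p G := by
  refine le_antisymm (le_pCore (normal_of_le_normalizer (le_normalizer_pCoreOf ⊤)) (pCoreOf_isPGroup ⊤)) ?_
  exact le_pCoreOf le_top (normal_top_le_normalizer (pCore_normal p G)) (pCore_isPGroup p G)

theorem conjS_pCoreOf_le (g : G) (H : Subgroup G) :
    conjS g (Cfsg.pCoreOf p H) ≤ Cfsg.pCoreOf p (conjS g H) := by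
  refine le_pCoreOf (conjS_mono g (pCoreOf_le H)) ?_ ((pCoreOf_isPGroup H).map _)
  rw [← conjS_normalizer]
  exact conjS_mono g (le_normalizer_pCoreOf H)

theorem conjS_pCoreOf (g : G) (H : Subgroup G) :
    conjS g (Cfsg.pCoreOf p H) = Cfsg.pCoreOf p (conjS g H) := by
  refine le_antisymm (conjS_pCoreOf_le g H) ?_
  have := conjS_mono g (conjS_pCoreOf_le (p := p) g⁻¹ (conjS g H))
  rwa [conjS_inv_cancel, conjS_cancel_inv] at this

/-! ### Characteristic p -/

/-- `C_H(O_p(H)) ≤ O_p(H)`, phrased inside the ambient group. -/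
theorem charPCore_iff (H : Subgroup G) :
    Subgroup.centralizer (Cfsg.pCore p H : Set H) ≤ Cfsg.pCore p H ↔
      H ⊓ Subgroup.centralizer (Cfsg.pCoreOf p H : Set G) ≤ Cfsg.pCoreOf p H := by
  constructor
  · rintro h x ⟨hx, hc⟩
    refine mem_pCoreOf.2 ⟨hx, h ?_⟩
    rw [Subgroup.mem_centralizer_iff]
    intro y hy
    exact Subtype.ext (Subgroup.mem_centralizer_iff.1 hc (y : G) (Subgroup.mem_map_of_mem H.subtype hy))
  · intro h x hx
    have : (x : G) ∈ Cfsg.pCoreOf p H := by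
      refine h (Subgroup.mem_inf.2 ⟨x.2, ?_⟩)
      rw [Subgroup.mem_centralizer_iff]
      rintro y ⟨z, hz, rfl⟩
      exact congrArg Subtype.val (Subgroup.mem_centralizer_iff.1 hx z hz)
    obtain ⟨_, h2⟩ := mem_pCoreOf.1 this
    exact h2

/-! ### Sylow subgroups of subgroups -/

/-- `T` is a Sylow `p`-subgroup of the subgroup `H`, inside the ambient group. -/
def IsSylowOf (p : ℕ) (T H : Subgroup G) : Prop :=
  T ≤ H ∧ IsPGroup p T ∧ ∀ Q : Subgroup G, Q ≤ H → IsPGroup p Q → T ≤ Q → Q = T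

theorem IsSylowOf.le {T H : Subgroup G} (h : IsSylowOf p T H) : T ≤ H := h.1

theorem IsSylowOf.isPGroup {T H : Subgroup G} (h : IsSylowOf p T H) : IsPGroup p T := h.2.1

theorem IsSylowOf.eq_of_le {T H Q : Subgroup G} (h : IsSylowOf p T H) (h1 : Q ≤ H) (h2 : IsPGroup p Q)
    (h3 : T ≤ Q) : Q = T := h.2.2 Q h1 h2 h3

theorem isSylowOf_map_subtype {H : Subgroup G} (P : Sylow p H) :
    IsSylowOf p ((P : Subgroup H).map H.subtype) H := by
  refine ⟨Subgroup.map_subtype_le _, P.isPGroup'.map _, fun Q hQ hQp hle => ?_⟩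
  have h1 : (P : Subgroup H) ≤ Q.subgroupOf H := Subgroup.map_le_iff_le_comap.1 hle
  have h2 := P.is_maximal' hQp.comap_subtype h1
  rw [← Subgroup.map_subgroupOf_eq_of_le hQ]
  exact congrArg (Subgroup.map H.subtype) h2

theorem IsSylowOf.exists_sylow {T H : Subgroup G} (h : IsSylowOf p T H) :
    ∃ P : Sylow p H, (P : Subgroup H).map H.subtype = T := by
  obtain ⟨P, hP⟩ := h.isPGroup.comap_subtype (K := H) |>.exists_le_sylow
  refine ⟨P, h.eq_of_le (Subgroup.map_subtype_le _) (P.isPGroup'.map _) ?_⟩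
  have := Subgroup.map_mono (f := H.subtype) hP
  rwa [show (Subgroup.comap H.subtype T) = T.subgroupOf H from rfl,
    Subgroup.map_subgroupOf_eq_of_le h.le] at this

theorem exists_isSylowOf_le {A H : Subgroup G} (hA : A ≤ H) (hp : IsPGroup p A) :
    ∃ T, IsSylowOf p T H ∧ A ≤ T := by
  obtain ⟨P, hP⟩ := hp.comap_subtype (K := H) |>.exists_le_sylow
  refine ⟨_, isSylowOf_map_subtype P, ?_⟩
  have := Subgroup.map_mono (f := H.subtype) hP
  rwa [show (Subgroup.comap H.subtype A) = A.subgroupOf H from rfl,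
    Subgroup.map_subgroupOf_eq_of_le hA] at this

theorem exists_isSylowOf (p : ℕ) (H : Subgroup G) : ∃ T, IsSylowOf p T H :=
  ⟨_, isSylowOf_map_subtype (Classical.arbitrary (Sylow p H))⟩

theorem IsSylowOf.conjS {T H : Subgroup G} (h : IsSylowOf p T H) (g : G) :
    IsSylowOf p (LocalEven.conjS g T) (LocalEven.conjS g H) := by
  refine ⟨conjS_mono g h.le, h.isPGroup.map _, fun Q hQ hQp hle => ?_⟩
  have h1 : LocalEven.conjS g⁻¹ Q = T := by
    refine h.eq_of_le ?_ (hQp.map _) ?_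
    · have := conjS_mono g⁻¹ hQ; rwa [conjS_inv_cancel] at this
    · have := conjS_mono g⁻¹ hle; rwa [conjS_inv_cancel] at this
  rw [← h1, conjS_cancel_inv]

theorem IsSylowOf.pCoreOf_le {T H : Subgroup G} (h : IsSylowOf p T H) : Cfsg.pCoreOf p H ≤ T := by
  obtain ⟨P, rfl⟩ := h.exists_sylow
  exact Subgroup.map_mono (pCore_le_sylow P)

theorem IsSylowOf.mono {T H K : Subgroup G} (h : IsSylowOf p T K) (hTH : T ≤ H) (hHK : H ≤ K) :
    IsSylowOf p T H :=
  ⟨hTH, h.isPGroup, fun Q hQ => h.2.2 Q (hQ.trans hHK)⟩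

section Finite

variable [Fact p.Prime]

theorem IsSylowOf.exists_conj {T T' H : Subgroup G} [Finite H] (h : IsSylowOf p T H)
    (h' : IsSylowOf p T' H) : ∃ g ∈ H, LocalEven.conjS g T = T' := by
  obtain ⟨P, rfl⟩ := h.exists_sylow
  obtain ⟨P', rfl⟩ := h'.exists_sylow
  obtain ⟨g, hg⟩ := MulAction.exists_smul_eq H P P'
  refine ⟨g, g.2, ?_⟩
  rw [← hg, Sylow.coe_subgroup_smul]
  ext x
  simp only [mem_conjS, Subgroup.mem_map, Subgroup.mem_pointwise_smul_iff_inv_smul_mem]
  constructor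
  · rintro ⟨y, hy, hyx⟩
    refine ⟨g * y * g⁻¹, ?_, ?_⟩
    · simpa [mul_assoc] using hy
    · simp only [map_mul, map_inv, hyx]; simp [mul_assoc]
  · rintro ⟨y, hy, rfl⟩
    exact ⟨_, hy, by simp [mul_assoc]⟩

theorem IsSylowOf.card_eq {T T' H : Subgroup G} [Finite H] (h : IsSylowOf p T H)
    (h' : IsSylowOf p T' H) : Nat.card T = Nat.card T' := by
  obtain ⟨g, _, rfl⟩ := h.exists_conj h'
  rw [card_conjS]

/-- A `p`-subgroup of the same order as a Sylow `p`-subgroup of `H` is a Sylow `p`-subgroup. -/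
theorem IsSylowOf.of_card {T Q H : Subgroup G} [Finite H] (h : IsSylowOf p T H) (hQ : Q ≤ H)
    (hQp : IsPGroup p Q) (hc : Nat.card T ≤ Nat.card Q) : IsSylowOf p Q H := by
  obtain ⟨T', hT', hle⟩ := exists_isSylowOf_le hQ hQp
  have : Q = T' := by
    have : Finite T' := Finite.of_injective _ (Subgroup.inclusion_injective hT'.le)
    refine Subgroup.eq_of_le_of_card_ge hle ?_
    rw [← h.card_eq hT']; exact hc
  rw [this]; exact hT'

theorem IsSylowOf.exists_conj_le {T A H : Subgroup G} [Finite H] (h : IsSylowOf p T H) (hA : A ≤ H)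
    (hp : IsPGroup p A) : ∃ g ∈ H, LocalEven.conjS g A ≤ T := by
  obtain ⟨T', hT', hle⟩ := exists_isSylowOf_le hA hp
  obtain ⟨g, hg, rfl⟩ := hT'.exists_conj h
  exact ⟨g, hg, conjS_mono g hle⟩

theorem IsSylowOf.eq_of_normal {T Q H : Subgroup G} [Finite H] (h : IsSylowOf p T H)
    (hn : H ≤ Subgroup.normalizer (T : Set G)) (hQ : Q ≤ H) (hQp : IsPGroup p Q) : Q ≤ T := by
  obtain ⟨g, hg, hle⟩ := h.exists_conj_le hQ hQp
  rw [← conjS_eq_self_iff.2 (hn hg), conjS_le_iff] at hle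
  exact hle

theorem IsSylowOf.isPGroup_mem {T H : Subgroup G} [Finite H] (h : IsSylowOf p T H) {x : G}
    (hx : x ∈ T) : ∃ k, orderOf x = p ^ k := by
  have : Finite T := Finite.of_injective _ (Subgroup.inclusion_injective h.le)
  obtain ⟨k, hk⟩ := (IsPGroup.iff_orderOf.1 h.isPGroup) ⟨x, hx⟩
  exact ⟨k, by rw [← hk]; exact (orderOf_injective T.subtype T.subtype_injective ⟨x, hx⟩).symm ▸ rfl⟩

/-- The Frattini argument inside a subgroup. -/
theorem frattini_argument {N H T : Subgroup G} [Finite H] (hNH : N ≤ H)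
    (hn : H ≤ Subgroup.normalizer (N : Set G)) (hT : IsSylowOf p T N) {h : G} (hh : h ∈ H) :
    ∃ a ∈ N, ∃ b ∈ H ⊓ Subgroup.normalizer (T : Set G), h = a * b := by
  have : Finite N := Finite.of_injective _ (Subgroup.inclusion_injective hNH)
  have h2 := hT.conjS h
  rw [conjS_eq_self_iff.2 (hn hh)] at h2
  obtain ⟨a, ha, hEq⟩ := hT.exists_conj h2
  refine ⟨a, ha, a⁻¹ * h, Subgroup.mem_inf.2 ⟨mul_mem (inv_mem (hNH ha)) hh, ?_⟩, by simp⟩
  rw [← conjS_eq_self_iff, LocalEven.conjS_mul, ← hEq, conjS_inv_cancel]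

theorem frattini_argument' {N H T : Subgroup G} [Finite H] (hNH : N ≤ H)
    (hn : H ≤ Subgroup.normalizer (N : Set G)) (hT : IsSylowOf p T N) :
    H = N ⊔ (H ⊓ Subgroup.normalizer (T : Set G)) := by
  refine le_antisymm (fun h hh => ?_) (sup_le hNH inf_le_left)
  obtain ⟨a, ha, b, hb, rfl⟩ := frattini_argument hNH hn hT hh
  exact Subgroup.mul_mem_sup ha hb

end Finite

/-! ### pElementClosure -/

theorem pElementClosure_le (H : Subgroup G) : Cfsg.pElementClosure p H ≤ H :=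
  (Subgroup.closure_le H).2 fun _ hx => hx.1

theorem le_pElementClosure [Fact p.Prime] {A H : Subgroup G} (hA : A ≤ H) (hp : IsPGroup p A) :
    A ≤ Cfsg.pElementClosure p H := by
  intro x hx
  refine Subgroup.subset_closure ⟨hA hx, ?_⟩
  obtain ⟨k, hk⟩ := (IsPGroup.iff_orderOf.1 hp) ⟨x, hx⟩
  refine ⟨k, ?_⟩
  rw [← hk, ← orderOf_injective A.subtype A.subtype_injective ⟨x, hx⟩]; rfl

theorem pElementClosure_mono {A H : Subgroup G} (h : A ≤ H) :
    Cfsg.pElementClosure p A ≤ Cfsg.pElementClosure p H :=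
  Subgroup.closure_mono fun _ hx => ⟨h hx.1, hx.2⟩

theorem conjS_pElementClosure_le (g : G) (H : Subgroup G) :
    conjS g (Cfsg.pElementClosure p H) ≤ Cfsg.pElementClosure p (conjS g H) := by
  rw [conjS, Subgroup.map_le_iff_le_comap, Cfsg.pElementClosure, Subgroup.closure_le]
  rintro x ⟨hx, k, hk⟩
  refine Subgroup.subset_closure ⟨conj_mem_conjS hx, k, ?_⟩
  rw [← hk]; exact (orderOf_injective (MulAut.conj g).toMonoidHom (MulEquiv.injective _) x)

theorem le_normalizer_pElementClosure (H : Subgroup G) :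
    H ≤ Subgroup.normalizer ((Cfsg.pElementClosure p H : Subgroup G) : Set G) := by
  rw [le_normalizer_iff_forall]
  intro g hg
  refine le_antisymm ?_ ?_
  · have := conjS_pElementClosure_le (p := p) g H; rwa [conjS_mem_eq_self hg] at this
  · have := conjS_mono g (conjS_pElementClosure_le (p := p) g⁻¹ H)
    rwa [conjS_mem_eq_self (inv_mem hg), conjS_cancel_inv] at this

theorem pElementClosure_frattini [Fact p.Prime] {T H : Subgroup G} [Finite H] (hT : IsSylowOf p T H)
    {h : G} (hh : h ∈ H) :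
    ∃ a ∈ Cfsg.pElementClosure p H, ∃ b ∈ H ⊓ Subgroup.normalizer (T : Set G), h = a * b :=
  frattini_argument (pElementClosure_le H) (le_normalizer_pElementClosure H)
    (hT.mono (le_pElementClosure hT.le hT.isPGroup) (pElementClosure_le H)) hh

end Cfsg.Agent.Lib.LocalEven
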