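import Cfsg.Agent.Lib.LocalEven.PCore
import Cfsg.Prelude.Def_PLocal

/-!
`pResidual`, and coprime elements stabilising chains of `p`-subgroups.
-/

set_option autoImplicit false

open scoped commutatorElement

namespace Cfsg.Agent.Lib.LocalEven

universe u

variable {G : Type u} [Group G] {p : ℕ}

theorem coprime_orderOf_mem_pResidual {g : G} (h : Nat.Coprime (orderOf g) p) :
    g ∈ Cfsg.pResidual p G := Subgroup.subset_closure h

theorem pResidual_characteristic (p : ℕ) (G : Type u) [Group G] :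
    (Cfsg.pResidual p G).Characteristic := by
  rw [Subgroup.characteristic_iff_map_le]
  intro e
  rw [Subgroup.map_le_iff_le_comap, Cfsg.pResidual, Subgroup.closure_le]
  intro g hg
  refine Subgroup.subset_closure ?_
  show Nat.Coprime (orderOf (e g)) p
  rw [MulEquiv.orderOf_eq]; exact hg

theorem pResidual_normal (p : ℕ) (G : Type u) [Group G] : (Cfsg.pResidual p G).Normal :=
  haveI := pResidual_characteristic p G
  inferInstance

theorem pow_mem_pResidual [Finite G] [hp : Fact p.Prime] (g : G) :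
    ∃ k, g ^ p ^ k ∈ Cfsg.pResidual p G := by
  have hn : orderOf g ≠ 0 := (orderOf_pos g).ne'
  refine ⟨(orderOf g).factorization p, coprime_orderOf_mem_pResidual ?_⟩
  rw [orderOf_pow, Nat.gcd_eq_right (Nat.ordProj_dvd _ _)]
  exact (Nat.coprime_ordCompl hp.out hn).symm

theorem quotient_pResidual_isPGroup [Finite G] [Fact p.Prime] (N : Subgroup G) [N.Normal]
    (h : Cfsg.pResidual p G ≤ N) : IsPGroup p (G ⧸ N) := by
  rw [isPGroup_iff_pow_pow_eq_one]
  intro q
  induction q using QuotientGroup.induction_on with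
  | H g =>
    obtain ⟨k, hk⟩ := pow_mem_pResidual (p := p) g
    exact ⟨k, by rw [← QuotientGroup.mk_pow, QuotientGroup.eq_one_iff]; exact h hk⟩

theorem eq_one_of_coprime_of_pow {g : G} (h : Nat.Coprime (orderOf g) p) {k : ℕ}
    (hk : g ^ p ^ k = 1) : g = 1 := by
  have h2 := orderOf_dvd_of_pow_eq_one hk
  have : orderOf g = 1 := Nat.eq_one_of_dvd_coprimes (Nat.Coprime.pow_right k h) dvd_rfl h2
  exact orderOf_eq_one_iff.1 this

theorem pResidual_le_of_isPGroup_quotient {N : Subgroup G} [N.Normal] (h : IsPGroup p (G ⧸ N)) :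
    Cfsg.pResidual p G ≤ N := by
  rw [Cfsg.pResidual, Subgroup.closure_le]
  intro g hg
  obtain ⟨k, hk⟩ := (isPGroup_iff_pow_pow_eq_one.1 h) (g : G ⧸ N)
  rw [SetLike.mem_coe, ← QuotientGroup.eq_one_iff]
  exact eq_one_of_coprime_of_pow (Nat.Coprime.coprime_dvd_left (orderOf_map_dvd (QuotientGroup.mk' N) g) hg) hk

theorem mem_of_coprime_of_isPGroup_quotient {N : Subgroup G} [N.Normal] (h : IsPGroup p (G ⧸ N))
    {g : G} (hg : Nat.Coprime (orderOf g) p) : g ∈ N :=
  pResidual_le_of_isPGroup_quotient h (coprime_orderOf_mem_pResidual hg)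

theorem sup_sylow_of_pResidual_le [Finite G] [Fact p.Prime] (P : Sylow p G) (N : Subgroup G) [N.Normal]
    (h : Cfsg.pResidual p G ≤ N) : N ⊔ (P : Subgroup G) = ⊤ := by
  have hq := quotient_pResidual_isPGroup N h
  let f := QuotientGroup.mk' N
  have hf : Function.Surjective f := QuotientGroup.mk'_surjective N
  have h1 : ((P.mapSurjective hf : Sylow p (G ⧸ N)) : Subgroup (G ⧸ N)) = ⊤ :=
    ((P.mapSurjective hf).is_maximal' (hq.to_subgroup ⊤) le_top).symm
  rw [Sylow.coe_mapSurjective] at h1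
  have := congrArg (Subgroup.comap f) h1
  rw [Subgroup.comap_map_eq, Subgroup.comap_top, QuotientGroup.ker_mk'] at this
  rw [sup_comm]; exact this

theorem pResidual_sup_sylow [Finite G] [Fact p.Prime] (P : Sylow p G) :
    Cfsg.pResidual p G ⊔ (P : Subgroup G) = ⊤ :=
  haveI := pResidual_normal p G
  sup_sylow_of_pResidual_le P _ le_rfl

theorem map_pResidual_le {K : Type u} [Group K] (f : G →* K) :
    (Cfsg.pResidual p G).map f ≤ Cfsg.pResidual p K := by
  rw [Subgroup.map_le_iff_le_comap, Cfsg.pResidual, Subgroup.closure_le]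
  intro g hg
  exact coprime_orderOf_mem_pResidual (Nat.Coprime.coprime_dvd_left (orderOf_map_dvd f g) hg)

theorem map_pResidual_of_surjective {K : Type u} [Group K] [Finite G] [Fact p.Prime] (f : G →* K)
    (hf : Function.Surjective f) : (Cfsg.pResidual p G).map f = Cfsg.pResidual p K := by
  refine le_antisymm (map_pResidual_le f) ?_
  have := (pResidual_normal p G).map f hf
  refine pResidual_le_of_isPGroup_quotient (N := (Cfsg.pResidual p G).map f) ?_
  rw [isPGroup_iff_pow_pow_eq_one]
  intro q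
  induction q using QuotientGroup.induction_on with
  | H y =>
    obtain ⟨g, rfl⟩ := hf y
    obtain ⟨k, hk⟩ := pow_mem_pResidual (p := p) g
    refine ⟨k, ?_⟩
    rw [← QuotientGroup.mk_pow, QuotientGroup.eq_one_iff, ← map_pow]
    exact Subgroup.mem_map_of_mem f hk

/-! ### The residual of a subgroup, inside the ambient group -/

/-- `O^p(H)` inside the ambient group. -/
def pResOf (p : ℕ) (H : Subgroup G) : Subgroup G := (Cfsg.pResidual p ↥H).map H.subtype

theorem pResOf_eq_closure (H : Subgroup G) :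
    pResOf p H = Subgroup.closure {x : G | x ∈ H ∧ Nat.Coprime (orderOf x) p} := by
  rw [pResOf, Cfsg.pResidual, MonoidHom.map_closure]
  congr 1
  ext x
  simp only [Set.mem_image, Set.mem_ofPred_eq, Subgroup.coe_subtype]
  constructor
  · rintro ⟨y, hy, rfl⟩; exact ⟨y.2, by rwa [Subgroup.orderOf_coe]⟩
  · rintro ⟨hx, hc⟩; exact ⟨⟨x, hx⟩, by rwa [← Subgroup.orderOf_coe], rfl⟩

theorem pResOf_le (H : Subgroup G) : pResOf p H ≤ H := Subgroup.map_subtype_le _

theorem mem_pResOf_of_coprime {H : Subgroup G} {x : G} (hx : x ∈ H) (h : Nat.Coprime (orderOf x) p) :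
    x ∈ pResOf p H := by
  rw [pResOf_eq_closure]; exact Subgroup.subset_closure ⟨hx, h⟩

theorem pResOf_le_iff {H K : Subgroup G} :
    pResOf p H ≤ K ↔ ∀ x ∈ H, Nat.Coprime (orderOf x) p → x ∈ K := by
  rw [pResOf_eq_closure, Subgroup.closure_le]
  exact ⟨fun h x hx hc => h ⟨hx, hc⟩, fun h x hx => h x hx.1 hx.2⟩

theorem pResOf_mono {H K : Subgroup G} (h : H ≤ K) : pResOf p H ≤ pResOf p K :=
  pResOf_le_iff.2 fun _ hx hc => mem_pResOf_of_coprime (h hx) hc

theorem pResOf_top : pResOf p (⊤ : Subgroup G) = Cfsg.pResidual p G := by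
  rw [pResOf_eq_closure]; simp [Cfsg.pResidual]

theorem conjS_pResOf_le (g : G) (H : Subgroup G) :
    conjS g (pResOf p H) ≤ pResOf p (conjS g H) := by
  rw [conjS, Subgroup.map_le_iff_le_comap, pResOf_le_iff]
  intro x hx hc
  refine mem_pResOf_of_coprime (conj_mem_conjS hx) ?_
  rwa [orderOf_injective (MulAut.conj g).toMonoidHom (MulEquiv.injective _)]

theorem conjS_pResOf (g : G) (H : Subgroup G) :
    conjS g (pResOf p H) = pResOf p (conjS g H) := by
  refine le_antisymm (conjS_pResOf_le g H) ?_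
  have := conjS_mono g (conjS_pResOf_le (p := p) g⁻¹ (conjS g H))
  rwa [conjS_inv_cancel, conjS_cancel_inv] at this

theorem le_normalizer_pResOf {A H : Subgroup G} (h : A ≤ Subgroup.normalizer (H : Set G)) :
    A ≤ Subgroup.normalizer ((pResOf p H : Subgroup G) : Set G) := by
  rw [le_normalizer_iff_forall] at *
  intro a ha; rw [conjS_pResOf, h a ha]

theorem self_le_normalizer_pResOf (H : Subgroup G) :
    H ≤ Subgroup.normalizer ((pResOf p H : Subgroup G) : Set G) :=
  le_normalizer_pResOf Subgroup.le_normalizer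

theorem pResOf_pResOf (H : Subgroup G) : pResOf p (pResOf p H) = pResOf p H :=
  le_antisymm (pResOf_le _)
    (pResOf_le_iff.2 fun _ hx hc => mem_pResOf_of_coprime (mem_pResOf_of_coprime hx hc) hc)

theorem pResOf_sup_sylow [Fact p.Prime] {T H : Subgroup G} [Finite H] (hT : IsSylowOf p T H) :
    pResOf p H ⊔ T = H := by
  obtain ⟨P, rfl⟩ := hT.exists_sylow
  rw [pResOf, ← Subgroup.map_sup, pResidual_sup_sylow P, ← MonoidHom.range_eq_map,
    Subgroup.range_subtype]

theorem pResOf_le_of_normalized {N H : Subgroup G} (hNH : N ≤ H)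
    (hn : H ≤ Subgroup.normalizer (N : Set G)) (h : ∀ x ∈ H, ∃ k, x ^ p ^ k ∈ N) :
    pResOf p H ≤ N := by
  have := subgroupOf_normal_of_le hn
  have h2 : Cfsg.pResidual p ↥H ≤ N.subgroupOf H := by
    refine pResidual_le_of_isPGroup_quotient ?_
    rw [isPGroup_iff_pow_pow_eq_one]
    intro q
    induction q using QuotientGroup.induction_on with
    | H y =>
      obtain ⟨k, hk⟩ := h y y.2
      exact ⟨k, by rw [← QuotientGroup.mk_pow, QuotientGroup.eq_one_iff]; exact hk⟩
  rw [← Subgroup.map_subgroupOf_eq_of_le hNH]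
  exact Subgroup.map_mono h2

theorem pResOf_eq_bot_of_isPGroup {H : Subgroup G} (hH : IsPGroup p H) : pResOf p H = ⊥ := by
  rw [eq_bot_iff, pResOf_le_iff]
  intro x hx hc
  obtain ⟨k, hk⟩ := hH ⟨x, hx⟩
  rw [Subgroup.mem_bot]
  exact eq_one_of_coprime_of_pow hc (congrArg Subtype.val hk)

theorem isPGroup_of_pResOf_eq_bot [Fact p.Prime] {H : Subgroup G} [Finite H]
    (h : pResOf p H = ⊥) : IsPGroup p H := by
  obtain ⟨T, hT⟩ := exists_isSylowOf p H
  have := pResOf_sup_sylow hT
  rw [h, bot_sup_eq] at this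
  rw [← this]; exact hT.isPGroup

/-! ### Coprime elements stabilising chains -/

/-- If the `p`-element `[x,a]` commutes with the element `x` of order prime to `p`, it is trivial. -/
theorem commute_of_coprime_stab {a x : G} (hx : Nat.Coprime (orderOf x) p)
    (hc : Commute x (x * a * x⁻¹ * a⁻¹)) {k : ℕ} (hk : (x * a * x⁻¹ * a⁻¹) ^ p ^ k = 1) :
    Commute x a := by
  set c := x * a * x⁻¹ * a⁻¹ with hcdef
  have h1 : ∀ n : ℕ, x ^ n * a * (x ^ n)⁻¹ = c ^ n * a := by
    intro n
    induction n with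
    | zero => simp
    | succ n ih =>
      have e : x * a * x⁻¹ = c * a := by rw [hcdef]; simp [mul_assoc]
      calc x ^ (n + 1) * a * (x ^ (n + 1))⁻¹ = x * (x ^ n * a * (x ^ n)⁻¹) * x⁻¹ := by
            rw [pow_succ']; simp [mul_assoc]
        _ = x * (c ^ n * a) * x⁻¹ := by rw [ih]
        _ = c ^ n * (x * a * x⁻¹) := by rw [← mul_assoc x, (hc.pow_right n).eq]; simp [mul_assoc]
        _ = c ^ (n + 1) * a := by rw [e, pow_succ]; exact (mul_assoc (c ^ n) c a).symm
  have h2 := h1 (orderOf x)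
  rw [pow_orderOf_eq_one] at h2
  simp only [one_mul, inv_one, mul_one] at h2
  have h3 : c ^ orderOf x = 1 := mul_right_cancel (b := a) (by rw [one_mul, ← h2])
  have h4 : c = 1 := eq_one_of_coprime_of_pow
    (Nat.Coprime.coprime_dvd_left (orderOf_dvd_of_pow_eq_one h3) hx) hk
  have := h4
  rw [hcdef, mul_inv_eq_one, mul_inv_eq_iff_eq_mul] at this
  exact this

theorem commute_mem_of_coprime_stab {P : Subgroup G} (hP : IsPGroup p P) {a x : G}
    (hx : Nat.Coprime (orderOf x) p) (hc : x * a * x⁻¹ * a⁻¹ ∈ P)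
    (hcc : x * a * x⁻¹ * a⁻¹ ∈ Subgroup.centralizer ({x} : Set G)) : Commute x a := by
  obtain ⟨k, hk⟩ := hP ⟨_, hc⟩
  exact commute_of_coprime_stab hx (Subgroup.mem_centralizer_singleton_iff.1 hcc).symm
    (congrArg Subtype.val hk)

/-- A coprime element which maps each term of a chain into the previous one centralises all of it. -/
theorem centralizes_chain {x : G} (hx : Nat.Coprime (orderOf x) p) {P : Subgroup G} (hP : IsPGroup p P)
    (A : ℕ → Subgroup G) (h0 : A 0 = ⊥) (hAP : ∀ i, A i ≤ P) (n : ℕ)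
    (h : ∀ i < n, ∀ a ∈ A (i + 1), x * a * x⁻¹ * a⁻¹ ∈ A i) :
    A n ≤ Subgroup.centralizer ({x} : Set G) := by
  induction n with
  | zero => rw [h0]; exact bot_le
  | succ n ih =>
    intro a ha
    have h1 := h n (Nat.lt_succ_self n) a ha
    have := commute_mem_of_coprime_stab hP hx (hAP n h1) (ih (fun i hi => h i (hi.trans (Nat.lt_succ_self n))) h1)
    exact Subgroup.mem_centralizer_singleton_iff.2 this.eq.symm

theorem pResOf_le_centralizer {H P : Subgroup G}
    (h : ∀ x ∈ H, Nat.Coprime (orderOf x) p → P ≤ Subgroup.centralizer ({x} : Set G)) :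
    pResOf p H ≤ Subgroup.centralizer (P : Set G) := by
  rw [pResOf_le_iff]
  intro x hx hc
  rw [Subgroup.mem_centralizer_iff]
  intro y hy
  exact Subgroup.mem_centralizer_singleton_iff.1 (h x hx hc hy)

theorem iterCommutator_le {R L : Subgroup G} (hL : L ≤ Subgroup.normalizer (R : Set G)) (n : ℕ) :
    Cfsg.iterCommutator R L n ≤ R := by
  induction n with
  | zero => exact le_rfl
  | succ n ih =>
    exact le_trans (Subgroup.commutator_mono ih le_rfl) (commutator_le_of_le_normalizer hL)

theorem nilpotent_action_coprime_centralizes {R L : Subgroup G} (hR : IsPGroup p R)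
    (hL : L ≤ Subgroup.normalizer (R : Set G)) {n : ℕ} (h : Cfsg.iterCommutator R L n = ⊥) :
    pResOf p L ≤ Subgroup.centralizer (R : Set G) := by
  refine pResOf_le_centralizer fun x hxL hx => ?_
  have := centralizes_chain hx hR (fun i => Cfsg.iterCommutator R L (n - i)) (by simpa using h)
    (fun i => iterCommutator_le hL _) n ?_
  · simpa [Cfsg.iterCommutator] using this
  · intro i hi a ha
    have e : n - i = (n - (i + 1)) + 1 := by omega
    simp only [e, Cfsg.iterCommutator]
    have h2 := Subgroup.commutator_mem_commutator ha hxL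
    have e2 : x * a * x⁻¹ * a⁻¹ = (⁅a, x⁆)⁻¹ := by simp [commutatorElement_def, mul_assoc]
    rw [e2]; exact inv_mem h2

end Cfsg.Agent.Lib.LocalEven
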