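import Cfsg.Agent.Lib.LocalEven.Residual
import Cfsg.Agent.Lib.PGroups.Commutator
import Cfsg.Agent.Lib.PGroups.Subnormal
import Cfsg.Agent.Lib.Coprime.Action
import Cfsg.Prelude.Def_LocalStructure

/-!
Three-subgroup lemma with normalizers, coprime operators on `p`-groups, subnormal closures.
-/

set_option autoImplicit false

open scoped commutatorElement

namespace Cfsg.Agent.Lib.LocalEven

universe u

variable {G : Type u} [Group G] {p : ℕ}

/-- Three-subgroup lemma modulo a subgroup normalized by the three subgroups. -/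
theorem three_subgroup {A B C N : Subgroup G} (hA : A ≤ Subgroup.normalizer (N : Set G))
    (hB : B ≤ Subgroup.normalizer (N : Set G)) (hC : C ≤ Subgroup.normalizer (N : Set G))
    (h1 : ⁅⁅B, C⁆, A⁆ ≤ N) (h2 : ⁅⁅C, A⁆, B⁆ ≤ N) : ⁅⁅A, B⁆, C⁆ ≤ N := by
  set H := Subgroup.normalizer (N : Set G) with hH
  haveI : (N.subgroupOf H).Normal := subgroupOf_normal_of_le le_rfl
  have key : ∀ X Y Z : Subgroup G, X ≤ H → Y ≤ H → Z ≤ H →
      (⁅⁅X.subgroupOf H, Y.subgroupOf H⁆, Z.subgroupOf H⁆).map H.subtype = ⁅⁅X, Y⁆, Z⁆ := by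
    intro X Y Z hX hY hZ
    rw [Subgroup.map_commutator, Subgroup.map_commutator, Subgroup.map_subgroupOf_eq_of_le hX,
      Subgroup.map_subgroupOf_eq_of_le hY, Subgroup.map_subgroupOf_eq_of_le hZ]
  have hiff : ∀ X Y Z : Subgroup G, X ≤ H → Y ≤ H → Z ≤ H →
      (⁅⁅X.subgroupOf H, Y.subgroupOf H⁆, Z.subgroupOf H⁆ ≤ N.subgroupOf H ↔ ⁅⁅X, Y⁆, Z⁆ ≤ N) := by
    intro X Y Z hX hY hZ
    rw [← key X Y Z hX hY hZ, Subgroup.map_le_iff_le_comap]
    rfl
  rw [← hiff _ _ _ hA hB hC]
  exact PGroups.three_subgroup_normal ((hiff _ _ _ hB hC hA).2 h1) ((hiff _ _ _ hC hA hB).2 h2)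

theorem commutator_sup_le {H K B N : Subgroup G} (hH : H ≤ Subgroup.normalizer (N : Set G))
    (hK : K ≤ Subgroup.normalizer (N : Set G)) (h1 : ⁅H, B⁆ ≤ N) (h2 : ⁅K, B⁆ ≤ N) :
    ⁅H ⊔ K, B⁆ ≤ N := by
  let S : Subgroup G :=
    { carrier := {w | w ∈ Subgroup.normalizer (N : Set G) ∧ ∀ b ∈ B, ⁅w, b⁆ ∈ N}
      one_mem' := ⟨one_mem _, fun b _ => by simp⟩
      mul_mem' := fun {x y} hx hy => ⟨mul_mem hx.1 hy.1, fun b hb => by
        rw [show ⁅x * y, b⁆ = x * ⁅y, b⁆ * x⁻¹ * ⁅x, b⁆ by simp [commutatorElement_def, mul_assoc]]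
        exact mul_mem ((Subgroup.mem_normalizer_iff.1 hx.1 _).1 (hy.2 b hb)) (hx.2 b hb)⟩
      inv_mem' := fun {x} hx => ⟨inv_mem hx.1, fun b hb => by
        rw [show ⁅x⁻¹, b⁆ = x⁻¹ * ⁅x, b⁆⁻¹ * x⁻¹⁻¹ by simp [commutatorElement_def, mul_assoc]]
        exact (Subgroup.mem_normalizer_iff.1 (inv_mem hx.1) _).1 (inv_mem (hx.2 b hb))⟩ }
  have h : H ⊔ K ≤ S := sup_le
    (fun x hx => ⟨hH hx, fun b hb => h1 (Subgroup.commutator_mem_commutator hx hb)⟩)
    (fun x hx => ⟨hK hx, fun b hb => h2 (Subgroup.commutator_mem_commutator hx hb)⟩)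
  rw [Subgroup.commutator_le]
  exact fun w hw b hb => (h hw).2 b hb

/-- A `p'`-operator group commuting with a `p`-group `A` with `[P, B] ≤ [P, A]` centralizes `P`. -/
theorem commutator_eq_bot_of_le_commutator [Finite G] [Fact p.Prime] {P A B : Subgroup G}
    (hP : IsPGroup p P) (hA : IsPGroup p A) (hB : (Nat.card B).Coprime p)
    (hnA : A ≤ Subgroup.normalizer (P : Set G)) (hnB : B ≤ Subgroup.normalizer (P : Set G))
    (hAB : ⁅A, B⁆ = ⊥) (hcomm : ⁅P, B⁆ ≤ ⁅P, A⁆) : ⁅P, B⁆ = ⊥ := by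
  set W := P ⊔ A with hW
  haveI := hP.isNilpotent
  have hcop : (Nat.card B).Coprime (Nat.card P) := by
    obtain ⟨n, hn⟩ := IsPGroup.iff_card.mp hP
    exact hn ▸ hB.pow_right n
  have hPB : ⁅⁅P, B⁆, B⁆ = ⁅P, B⁆ :=
    Coprime.commutator_commutator_eq hnB hcop (Or.inr inferInstance)
  have hBW : B ≤ Subgroup.normalizer (W : Set G) := le_normalizer_sup hnB
    ((Subgroup.le_centralizer_iff.1 (le_centralizer_iff_commutator.2 hAB)).trans
      (Subgroup.centralizer_le_normalizer _))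
  have hWW : W ≤ Subgroup.normalizer (P : Set G) := sup_le Subgroup.le_normalizer hnA
  let U : ℕ → Subgroup G := fun i => Nat.rec P (fun _ X => ⁅(X : Subgroup G), W⁆) i
  have hU0 : U 0 = P := rfl
  have hUs : ∀ i, U (i + 1) = ⁅(U i : Subgroup G), W⁆ := fun i => rfl
  have hWU : ∀ i, W ≤ Subgroup.normalizer (SetLike.coe (U i)) := by
    intro i
    induction i with
    | zero => exact hWW
    | succ i ih => exact le_normalizer_commutator ih Subgroup.le_normalizer
  have hBU : ∀ i, B ≤ Subgroup.normalizer (SetLike.coe (U i)) := by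
    intro i
    induction i with
    | zero => exact hnB
    | succ i ih => exact le_normalizer_commutator ih hBW
  have hUW : ∀ i, U i ≤ W := by
    intro i
    induction i with
    | zero => exact le_sup_left
    | succ i ih => rw [hUs]; exact (Subgroup.commutator_mono ih le_rfl).trans (Subgroup.commutator_le_self W)
  have hU1 : ⁅P, B⁆ ≤ U 1 := hcomm.trans (Subgroup.commutator_mono le_rfl le_sup_right)
  have hW1 : ⁅W, B⁆ ≤ U 1 := commutator_sup_le (le_sup_left.trans (hWU 1)) (le_sup_right.trans (hWU 1))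
    hU1 (by rw [hAB]; exact bot_le)
  have step : ∀ i, ⁅U i, B⁆ ≤ U (i + 1) := by
    intro i
    induction i with
    | zero => exact hU1
    | succ i ih =>
      have h12 : ⁅U 1, U i⁆ ≤ U (i + 2) := by
        show ⁅⁅P, W⁆, U i⁆ ≤ U (i + 2)
        refine three_subgroup (le_sup_left.trans (hWU (i + 2))) (hWU (i + 2)) ((hUW i).trans (hWU (i + 2))) ?_ ?_
        · rw [Subgroup.commutator_comm W, hUs (i + 1), hUs i]
          exact Subgroup.commutator_mono le_rfl le_sup_left
        · rw [hUs (i + 1), hUs i]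
          exact Subgroup.commutator_mono (Subgroup.commutator_mono le_rfl le_sup_left) le_rfl
      rw [hUs i]
      refine three_subgroup ((hUW i).trans (hWU (i + 1 + 1))) (hWU (i + 1 + 1)) (hBU (i + 1 + 1)) ?_ ?_
      · exact (Subgroup.commutator_mono hW1 le_rfl).trans h12
      · rw [Subgroup.commutator_comm B, hUs (i + 1)]
        exact Subgroup.commutator_mono ih le_rfl
  have hle : ∀ i, ⁅P, B⁆ ≤ U i := by
    intro i
    induction i with
    | zero => exact commutator_le_of_le_normalizer hnB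
    | succ i ih => rw [← hPB]; exact (Subgroup.commutator_mono ih le_rfl).trans (step i)
  have hWp : IsPGroup p W := hP.to_sup_of_normal_left' hA hnA
  haveI : Group.IsNilpotent W := hWp.isNilpotent
  obtain ⟨n, hn⟩ := (Subgroup.isNilpotent_iff_lowerCentralSeries _).mp ‹Group.IsNilpotent W›
  have hlcs : ∀ i, U i ≤ W.lowerCentralSeries i := by
    intro i
    induction i with
    | zero => exact le_sup_left
    | succ i ih =>
      rw [hUs, Subgroup.lowerCentralSeries_succ]
      exact Subgroup.commutator_mono ih le_rfl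
  exact le_bot_iff.1 ((hle n).trans (hn ▸ hlcs n))

/-! ### The subnormal closure -/

theorem isSubnormal_finset_inf [Finite G] (s : Finset (Subgroup G)) (h : ∀ K ∈ s, K.IsSubnormal) :
    (s.inf id).IsSubnormal := by
  classical
  induction s using Finset.induction_on with
  | empty => exact Subgroup.IsSubnormal.top
  | insert a s ha ih =>
    rw [Finset.inf_insert]
    exact (h a (Finset.mem_insert_self a s)).inf (ih fun K hK => h K (Finset.mem_insert_of_mem hK))

theorem subnormalClosure_isSubnormal [Finite G] (A : Subgroup G) :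
    (Cfsg.subnormalClosure A).IsSubnormal := by
  classical
  have hf : {K : Subgroup G | A ≤ K ∧ K.IsSubnormal}.Finite := Set.toFinite _
  rw [Cfsg.subnormalClosure, ← hf.coe_toFinset, ← Finset.inf_id_eq_sInf]
  exact isSubnormal_finset_inf _ fun K hK => (hf.mem_toFinset.1 hK).2

theorem le_subnormalClosure (A : Subgroup G) : A ≤ Cfsg.subnormalClosure A :=
  le_sInf fun _ hK => hK.1

theorem subnormalClosure_le {A K : Subgroup G} (h : A ≤ K) (hK : K.IsSubnormal) :
    Cfsg.subnormalClosure A ≤ K :=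
  sInf_le (show K ∈ {K : Subgroup G | A ≤ K ∧ K.IsSubnormal} from ⟨h, hK⟩)

end Cfsg.Agent.Lib.LocalEven
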