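import Cfsg.Agent.Lib.LocalEven.Residual
import Mathlib.GroupTheory.Frattini
import Mathlib.GroupTheory.IsSubnormal

/-!
Subnormal `p`-subgroups, subnormal subgroups of `p`-power index, Frattini subgroups of `p`-groups.
-/

set_option autoImplicit false

open scoped commutatorElement

namespace Cfsg.Agent.Lib.LocalEven

universe u

variable {G : Type u} [Group G] {p : ℕ}

theorem pCoreOf_le_pCore_of_subnormal {K : Subgroup G} (hK : K.IsSubnormal) :
    Cfsg.pCoreOf p K ≤ Cfsg.pCore p G := by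
  induction hK with
  | top => rw [pCoreOf_top]
  | step A B hle hB hn ih =>
    refine le_trans (le_pCoreOf ((pCoreOf_le A).trans hle) ?_ (pCoreOf_isPGroup A)) ih
    rw [le_normalizer_iff_forall]
    intro g hg
    rw [conjS_pCoreOf, conjS_eq_self_iff.2 (le_normalizer_of_subgroupOf_normal hle hn hg)]

theorem le_pCore_of_subnormal {A : Subgroup G} (hA : A.IsSubnormal) (hp : IsPGroup p A) :
    A ≤ Cfsg.pCore p G :=
  le_trans (le_pCoreOf le_rfl Subgroup.le_normalizer hp) (pCoreOf_le_pCore_of_subnormal hA)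

theorem card_mul_relIndex' {H K : Subgroup G} (h : H ≤ K) :
    Nat.card H * H.relIndex K = Nat.card K := by
  rw [← Subgroup.relIndex_bot_left, ← Subgroup.relIndex_bot_left, Subgroup.relIndex_mul_relIndex ⊥ H K bot_le h]

theorem coprime_mem_of_subnormal_index [hp : Fact p.Prime] {B : Subgroup G} (hB : B.IsSubnormal)
    (hidx : ∃ n, B.index = p ^ n) {g : G} (hg : Nat.Coprime (orderOf g) p) : g ∈ B := by
  induction hB with
  | top => trivial
  | step A K hle hK hn ih =>
    obtain ⟨n, hn'⟩ := hidx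
    have h1 : A.relIndex K * K.index = p ^ n := by rw [Subgroup.relIndex_mul_index hle, hn']
    obtain ⟨k, -, hk⟩ := (Nat.dvd_prime_pow hp.out).1 ⟨_, h1.symm⟩
    have h2 : K.index ∣ p ^ n := ⟨A.relIndex K, by rw [← h1, mul_comm]⟩
    obtain ⟨m, -, hm⟩ := (Nat.dvd_prime_pow hp.out).1 h2
    have hgK := ih ⟨m, hm⟩
    have := hn
    have hq : IsPGroup p (K ⧸ A.subgroupOf K) := by
      refine IsPGroup.of_card (n := k) ?_
      rw [← Subgroup.index_eq_card]; exact hk
    exact mem_of_coprime_of_isPGroup_quotient hq (g := (⟨g, hgK⟩ : K))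
      (by rwa [← Subgroup.orderOf_coe])

/-- `O_p(G)` normalizes every subnormal subgroup `B` with `B = O^p(B)`. -/
theorem pCore_le_normalizer_of_subnormal [Finite G] [hp : Fact p.Prime] {B : Subgroup G}
    (hB : B.IsSubnormal) :
    Cfsg.pCore p G ≤ Subgroup.normalizer ((pResOf p B : Subgroup G) : Set G) ∧
      pResOf p (Cfsg.pCore p G ⊔ B) ≤ pResOf p B := by
  have := pCore_normal p G
  set P := Cfsg.pCore p G with hP
  have hsn : (B.subgroupOf (P ⊔ B)).IsSubnormal := hB.subgroupOf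
  have hidx : ∃ n, (B.subgroupOf (P ⊔ B)).index = p ^ n := by
    show ∃ n, B.relIndex (P ⊔ B) = p ^ n
    obtain ⟨n, hn⟩ := IsPGroup.iff_card.1 (pCore_isPGroup p G)
    rw [← hP] at hn
    have e1 : Nat.card B * B.relIndex (P ⊔ B) = Nat.card ↥(P ⊔ B) :=
      card_mul_relIndex' le_sup_right
    have e2 : Nat.card P * P.relIndex (P ⊔ B) = Nat.card ↥(P ⊔ B) :=
      card_mul_relIndex' le_sup_left
    rw [sup_comm, Subgroup.relIndex_sup_right, sup_comm] at e2
    have e3 : Nat.card ↥(P ⊓ B) * P.relIndex B = Nat.card B := by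
      rw [← Subgroup.inf_relIndex_right]; exact card_mul_relIndex' inf_le_right
    have hne : P.relIndex B ≠ 0 := by
      intro h0; rw [h0, mul_zero] at e3; exact Nat.card_pos.ne e3
    have e4 : Nat.card ↥(P ⊓ B) * B.relIndex (P ⊔ B) = Nat.card P := by
      refine mul_right_cancel₀ hne ?_
      rw [e2, ← e1, ← e3]; ring
    obtain ⟨k, -, hk⟩ := (Nat.dvd_prime_pow hp.out).1
      (⟨Nat.card ↥(P ⊓ B), by rw [← hn, ← e4, mul_comm]⟩ : B.relIndex (P ⊔ B) ∣ p ^ n)
    exact ⟨k, hk⟩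
  have key : pResOf p (P ⊔ B) ≤ pResOf p B := by
    rw [pResOf_le_iff]
    intro x hx hc
    refine mem_pResOf_of_coprime ?_ hc
    exact coprime_mem_of_subnormal_index hsn hidx (g := (⟨x, hx⟩ : ↥(P ⊔ B)))
      (by rwa [← Subgroup.orderOf_coe])
  have e : pResOf p (P ⊔ B) = pResOf p B := le_antisymm key (pResOf_mono le_sup_right)
  refine ⟨?_, key⟩
  rw [← e]
  exact le_sup_left.trans (self_le_normalizer_pResOf _)

/-! ### Frattini subgroups and homomorphisms to elementary abelian groups -/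

theorem frattini_le_of_quotient_elementary [Finite G] [hp : Fact p.Prime] {N : Subgroup G}
    (hcomm : commutator G ≤ N) (hpow : ∀ x : G, x ^ p ∈ N) : frattini G ≤ N := by
  intro x hx
  by_contra hxN
  obtain ⟨B, ⟨hNB, hxB⟩, hmax⟩ : ∃ B, Maximal (fun B : Subgroup G => N ≤ B ∧ x ∉ B) B :=
    (Set.toFinite {B : Subgroup G | N ≤ B ∧ x ∉ B}).exists_maximal ⟨N, le_rfl, hxN⟩
  refine hxB (frattini_le_coatom ⟨fun hT => hxB (by rw [hT]; trivial), fun C hC => ?_⟩ hx)
  have hBn : B.Normal := Subgroup.Normal.of_commutator_le G (hcomm.trans hNB)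
  have hxC : x ∈ C := by
    by_contra hxC
    exact hC.not_ge (hmax ⟨hNB.trans hC.le, hxC⟩ hC.le)
  rw [eq_top_iff]
  intro d _
  by_cases hd : d ∈ B
  · exact hC.le hd
  have hxd : x ∈ B ⊔ Subgroup.zpowers d := by
    by_contra hxd
    exact hd (hmax ⟨hNB.trans le_sup_left, hxd⟩ le_sup_left (Subgroup.mem_sup_right (Subgroup.mem_zpowers d)))
  obtain ⟨b, hb, y, hy, hbyx⟩ := Subgroup.mem_sup_of_normal_left.1 hxd
  obtain ⟨j, rfl⟩ := Subgroup.mem_zpowers_iff.1 hy
  have hdp : d ^ (p : ℤ) ∈ B := by rw [zpow_natCast]; exact hNB (hpow d)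
  have hj : ¬ (p : ℤ) ∣ j := by
    rintro ⟨c, rfl⟩
    refine hxB (hbyx ▸ mul_mem hb ?_)
    rw [zpow_mul]; exact Subgroup.zpow_mem _ hdp c
  have hcop : IsCoprime (p : ℤ) j := (Prime.coprime_iff_not_dvd (Nat.prime_iff_prime_int.1 hp.out)).2 hj
  obtain ⟨a, c, hac⟩ := hcop
  have hdj : d ^ j ∈ C := by
    have : d ^ j = b⁻¹ * x := by rw [← hbyx]; simp
    rw [this]; exact mul_mem (hC.le (inv_mem hb)) hxC
  have : d = (d ^ (p : ℤ)) ^ a * (d ^ j) ^ c := by
    rw [← zpow_mul, ← zpow_mul, ← zpow_add, mul_comm (p : ℤ), mul_comm j, hac, zpow_one]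
  rw [this]
  exact mul_mem (Subgroup.zpow_mem _ (hC.le hdp) a) (Subgroup.zpow_mem _ hdj c)

/-- The Frattini subgroup of `P ≤ G`, inside `G`, lies in any subgroup containing the commutators and
`p`-th powers of `P`. -/
theorem frattini_map_le [hp : Fact p.Prime] {P N : Subgroup G} [Finite P]
    (hcomm : ∀ a ∈ P, ∀ b ∈ P, a * b * a⁻¹ * b⁻¹ ∈ N) (hpow : ∀ a ∈ P, a ^ p ∈ N) :
    (frattini ↥P).map P.subtype ≤ N := by
  rw [Subgroup.map_le_iff_le_comap]
  refine frattini_le_of_quotient_elementary ?_ (fun x => hpow x x.2)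
  rw [commutator_def, Subgroup.commutator_le]
  intro a _ b _
  exact hcomm a a.2 b b.2

/-- An abelian subgroup generated by `p`-elements is a `p`-group. -/
theorem isPGroup_closure_of_commute [Fact p.Prime] {S : Set G}
    (hS : ∀ x ∈ S, ∃ k, x ^ p ^ k = 1)
    (hcomm : ∀ x ∈ Subgroup.closure S, ∀ y ∈ Subgroup.closure S, Commute x y) :
    IsPGroup p (Subgroup.closure S) := by
  rw [isPGroup_iff_pow_pow_eq_one]
  rintro ⟨x, hx⟩
  suffices ∃ k, x ^ p ^ k = 1 by
    obtain ⟨k, hk⟩ := this; exact ⟨k, Subtype.ext hk⟩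
  induction hx using Subgroup.closure_induction with
  | mem x hx => exact hS x hx
  | one => exact ⟨0, one_pow _⟩
  | mul a b ha hb iha ihb =>
    obtain ⟨k, hk⟩ := iha
    obtain ⟨l, hl⟩ := ihb
    refine ⟨k + l, ?_⟩
    rw [(hcomm a ha b hb).mul_pow, pow_add, pow_mul a, hk, one_pow, one_mul, mul_comm, pow_mul, hl, one_pow]
  | inv a ha iha =>
    obtain ⟨k, hk⟩ := iha
    exact ⟨k, by rw [inv_pow, hk, inv_one]⟩

end Cfsg.Agent.Lib.LocalEven
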