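import Cfsg.Prelude.Def_LocalEven
import Cfsg.Prelude.Def_PLocal
import Cfsg.Agent.Lib.LocalEven.PCore
import Mathlib.LinearAlgebra.Matrix.SpecialLinearGroup
import Mathlib.GroupTheory.PGroup

/-!
The affine group `qdOver F = F² ⋊ SL₂(F)`.
-/

set_option autoImplicit false

open Matrix

namespace Cfsg.Agent.Lib.LocalEven.Qd

variable {F : Type*} [Field F]

/-- The affine map `x ↦ g x + v` as a `3 × 3` matrix. -/
def aff (g : SpecialLinearGroup (Fin 2) F) (v : Fin 2 → F) : SpecialLinearGroup (Fin 3) F :=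
  ⟨!![g.1 0 0, g.1 0 1, v 0; g.1 1 0, g.1 1 1, v 1; 0, 0, 1], by
    have h := g.2
    rw [det_fin_two] at h
    simp [det_fin_three]
    linear_combination h⟩

theorem aff_mul (g h : SpecialLinearGroup (Fin 2) F) (v w : Fin 2 → F) :
    aff g v * aff h w = aff (g * h) (g.1 *ᵥ w + v) := by
  refine Subtype.ext ?_
  show (aff g v).1 * (aff h w).1 = _
  ext i j
  fin_cases i <;> fin_cases j <;>
    simp [aff, Matrix.mul_apply, Fin.sum_univ_three, Fin.sum_univ_two, Matrix.mulVec, dotProduct, add_assoc]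

theorem aff_one : aff (1 : SpecialLinearGroup (Fin 2) F) 0 = 1 := by
  refine Subtype.ext ?_
  ext i j
  fin_cases i <;> fin_cases j <;> simp [aff]

theorem aff_mem (g : SpecialLinearGroup (Fin 2) F) (v : Fin 2 → F) : aff g v ∈ Cfsg.qdOver F :=
  Subgroup.subset_closure ⟨by simp [aff], by simp [aff], by simp [aff]⟩

theorem exists_aff {M : SpecialLinearGroup (Fin 3) F} (hM : M ∈ Cfsg.qdOver F) :
    ∃ g v, M = aff g v := by
  induction hM using Subgroup.closure_induction with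
  | mem M hM =>
    obtain ⟨h0, h1, h2⟩ := hM
    refine ⟨⟨!![M.1 0 0, M.1 0 1; M.1 1 0, M.1 1 1], ?_⟩, ![M.1 0 2, M.1 1 2], ?_⟩
    · have h := M.2
      rw [det_fin_three, h0, h1, h2] at h
      rw [det_fin_two]
      simp
      linear_combination h
    · refine Subtype.ext ?_
      ext i j
      fin_cases i <;> fin_cases j <;> simp [aff, h0, h1, h2]
  | one => exact ⟨1, 0, aff_one.symm⟩
  | mul x y _ _ hx hy =>
    obtain ⟨g, v, rfl⟩ := hx
    obtain ⟨h, w, rfl⟩ := hy
    exact ⟨_, _, aff_mul g h v w⟩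
  | inv x _ hx =>
    obtain ⟨g, v, rfl⟩ := hx
    refine ⟨g⁻¹, -((g⁻¹).1 *ᵥ v), inv_eq_of_mul_eq_one_right ?_⟩
    rw [aff_mul, mul_inv_cancel, Matrix.mulVec_neg, Matrix.mulVec_mulVec, ← Matrix.SpecialLinearGroup.coe_mul,
      mul_inv_cancel, Matrix.SpecialLinearGroup.coe_one, Matrix.one_mulVec, neg_add_cancel, aff_one]

theorem aff_injective {g h : SpecialLinearGroup (Fin 2) F} {v w : Fin 2 → F}
    (e : aff g v = aff h w) : g = h ∧ v = w := by
  have h' := fun i j => congrFun (congrFun (congrArg Subtype.val e) i) j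
  refine ⟨Subtype.ext (Matrix.ext fun i j => ?_), funext fun i => ?_⟩
  · fin_cases i <;> fin_cases j
    · simpa [aff] using h' 0 0
    · simpa [aff] using h' 0 1
    · simpa [aff] using h' 1 0
    · simpa [aff] using h' 1 1
  · fin_cases i
    · simpa [aff] using h' 0 2
    · simpa [aff] using h' 1 2

/-- An element of `qdOver F`. -/
def el (g : SpecialLinearGroup (Fin 2) F) (v : Fin 2 → F) : Cfsg.qdOver F := ⟨aff g v, aff_mem g v⟩

theorem el_mul (g h : SpecialLinearGroup (Fin 2) F) (v w : Fin 2 → F) :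
    el g v * el h w = el (g * h) (g.1 *ᵥ w + v) := Subtype.ext (aff_mul g h v w)

theorem el_one : el (1 : SpecialLinearGroup (Fin 2) F) 0 = 1 := Subtype.ext aff_one

theorem el_surj (M : Cfsg.qdOver F) : ∃ g v, M = el g v := by
  obtain ⟨g, v, h⟩ := exists_aff M.2
  exact ⟨g, v, Subtype.ext h⟩

theorem det_linear (M : Cfsg.qdOver F) :
    (!![M.1.1 0 0, M.1.1 0 1; M.1.1 1 0, M.1.1 1 1] : Matrix (Fin 2) (Fin 2) F).det = 1 := by
  obtain ⟨g, v, rfl⟩ := el_surj M
  have h := g.2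
  rw [det_fin_two] at h ⊢
  simpa [el, aff] using h

/-- The linear part, as a function. -/
def projFun (M : Cfsg.qdOver F) : SpecialLinearGroup (Fin 2) F :=
  ⟨!![M.1.1 0 0, M.1.1 0 1; M.1.1 1 0, M.1.1 1 1], det_linear M⟩

theorem projFun_el (g : SpecialLinearGroup (Fin 2) F) (v : Fin 2 → F) : projFun (el g v) = g := by
  refine Subtype.ext (Matrix.ext fun i j => ?_)
  fin_cases i <;> fin_cases j <;> simp [projFun, el, aff]

/-- The linear part. -/
def proj : Cfsg.qdOver F →* SpecialLinearGroup (Fin 2) F :=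
  MonoidHom.mk' projFun (by
    intro M N
    obtain ⟨g, v, rfl⟩ := el_surj M
    obtain ⟨h, w, rfl⟩ := el_surj N
    rw [el_mul, projFun_el, projFun_el, projFun_el])

@[simp] theorem proj_el (g : SpecialLinearGroup (Fin 2) F) (v : Fin 2 → F) : proj (el g v) = g :=
  projFun_el g v

theorem el_inv (g : SpecialLinearGroup (Fin 2) F) (v : Fin 2 → F) :
    (el g v)⁻¹ = el g⁻¹ (-((g⁻¹).1 *ᵥ v)) := by
  refine inv_eq_of_mul_eq_one_right ?_
  rw [el_mul, mul_inv_cancel, Matrix.mulVec_neg, Matrix.mulVec_mulVec, ← Matrix.SpecialLinearGroup.coe_mul,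
    mul_inv_cancel, Matrix.SpecialLinearGroup.coe_one, Matrix.one_mulVec, neg_add_cancel, el_one]

theorem conj_trans (g : SpecialLinearGroup (Fin 2) F) (v w : Fin 2 → F) :
    el g w * el 1 v * (el g w)⁻¹ = el 1 (g.1 *ᵥ v) := by
  rw [el_inv, el_mul, el_mul, mul_one, mul_inv_cancel, Matrix.mulVec_neg, Matrix.mulVec_mulVec,
    ← Matrix.SpecialLinearGroup.coe_mul, mul_inv_cancel, Matrix.SpecialLinearGroup.coe_one, Matrix.one_mulVec]
  congr 1
  abel

theorem trans_mul (v w : Fin 2 → F) : el 1 v * el 1 w = el 1 (v + w) := by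
  rw [el_mul, one_mul, Matrix.SpecialLinearGroup.coe_one, Matrix.one_mulVec, add_comm]

theorem trans_pow (v : Fin 2 → F) (n : ℕ) : el 1 v ^ n = el 1 ((n : F) • v) := by
  induction n with
  | zero => simp [el_one]
  | succ n ih => rw [pow_succ, ih, trans_mul, Nat.cast_succ, add_smul, one_smul]

theorem mem_ker_proj_iff {M : Cfsg.qdOver F} : M ∈ (proj (F := F)).ker ↔ ∃ v, M = el 1 v := by
  rw [MonoidHom.mem_ker]
  constructor
  · intro h
    obtain ⟨g, v, rfl⟩ := el_surj M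
    rw [proj_el] at h
    exact ⟨v, by rw [h]⟩
  · rintro ⟨v, rfl⟩; simp

theorem proj_surjective : Function.Surjective (proj (F := F)) := fun g => ⟨el g 0, proj_el g 0⟩

theorem card_ker [Finite F] : Nat.card (proj (F := F)).ker = Nat.card F ^ 2 := by
  have e : (Fin 2 → F) ≃ (proj (F := F)).ker :=
    Equiv.ofBijective (fun v => ⟨el 1 v, mem_ker_proj_iff.2 ⟨v, rfl⟩⟩)
      ⟨fun v w h => (aff_injective (congrArg (fun z : (proj (F := F)).ker => z.1.1) h)).2,
       fun z => by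
        obtain ⟨v, hv⟩ := mem_ker_proj_iff.1 z.2
        exact ⟨v, Subtype.ext hv.symm⟩⟩
  rw [← Nat.card_congr e, Nat.card_fun, Nat.card_fin]

section PCore

variable [Finite F] {p : ℕ} [Fact p.Prime] [CharP F p]

theorem isPGroup_ker : IsPGroup p (proj (F := F)).ker := by
  intro z
  refine ⟨1, Subtype.ext ?_⟩
  obtain ⟨v, hv⟩ := mem_ker_proj_iff.1 z.2
  simp [hv, trans_pow, el_one]

/-- A normal `p`-subgroup of `SL₂` in characteristic `p` is trivial. -/
theorem eq_bot_of_normal_pGroup (N : Subgroup (SpecialLinearGroup (Fin 2) F)) [N.Normal]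
    (hN : IsPGroup p N) : N = ⊥ := by
  classical
  haveI := Fintype.ofFinite F
  letI : MulAction N (Fin 2 → F) :=
    { smul := fun n v => n.1.1 *ᵥ v
      one_smul := fun v => by show (1 : SpecialLinearGroup (Fin 2) F).1 *ᵥ v = v; simp
      mul_smul := fun m n v => by
        show (m.1 * n.1).1 *ᵥ v = m.1.1 *ᵥ (n.1.1 *ᵥ v)
        rw [Matrix.mulVec_mulVec]; rfl }
  have hdvd : p ∣ Nat.card (Fin 2 → F) := by
    rw [Nat.card_fun, Nat.card_fin, Nat.card_eq_fintype_card]
    obtain ⟨n, -, hn⟩ := FiniteField.card F p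
    rw [hn, ← pow_mul]
    exact dvd_pow_self p (by positivity)
  obtain ⟨v, hv, hv0⟩ := hN.exists_fixed_point_of_prime_dvd_card_of_fixed_point (Fin 2 → F) hdvd
    (a := 0) (fun n => Matrix.mulVec_zero _)
  have hfix : ∀ n ∈ N, n.1 *ᵥ v = v := fun n hn => hv ⟨n, hn⟩
  have hmove : ∀ (g : SpecialLinearGroup (Fin 2) F) (u : Fin 2 → F), (∀ n ∈ N, n.1 *ᵥ u = u) →
      ∀ n ∈ N, n.1 *ᵥ (g.1 *ᵥ u) = g.1 *ᵥ u := by
    intro g u hu n hn
    have h := hu _ (Subgroup.Normal.conj_mem ‹N.Normal› n hn g⁻¹)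
    rw [inv_inv] at h
    conv_rhs => rw [← h]
    rw [Matrix.mulVec_mulVec, Matrix.mulVec_mulVec, ← Matrix.SpecialLinearGroup.coe_mul,
      ← Matrix.SpecialLinearGroup.coe_mul]
    simp [mul_assoc]
  let lo : SpecialLinearGroup (Fin 2) F := ⟨!![1, 0; 1, 1], by simp [det_fin_two]⟩
  let up : SpecialLinearGroup (Fin 2) F := ⟨!![1, 1; 0, 1], by simp [det_fin_two]⟩
  have he1 : ∀ n ∈ N, n.1 *ᵥ (![0, 1] : Fin 2 → F) = ![0, 1] := by
    intro n hn
    by_cases h0 : v 0 = 0
    · have h1 : v 1 ≠ 0 := fun h1 => hv0 (funext fun i => by fin_cases i <;> simp [h0, h1])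
      have : (![0, 1] : Fin 2 → F) = (v 1)⁻¹ • v := by
        funext i; fin_cases i <;> simp [h0, h1]
      rw [this, Matrix.mulVec_smul, hfix n hn]
    · have : (![0, 1] : Fin 2 → F) = (v 0)⁻¹ • (lo.1 *ᵥ v - v) := by
        funext i; fin_cases i <;> simp [lo, h0, Matrix.vecHead, Matrix.vecTail]
      rw [this, Matrix.mulVec_smul, Matrix.mulVec_sub, hmove lo v hfix n hn, hfix n hn]
  have he0 : ∀ n ∈ N, n.1 *ᵥ (![1, 0] : Fin 2 → F) = ![1, 0] := by
    intro n hn
    have : (![1, 0] : Fin 2 → F) = up.1 *ᵥ ![0, 1] - ![0, 1] := by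
      funext i; fin_cases i <;> simp [up]
    rw [this, Matrix.mulVec_sub, hmove up _ he1 n hn, he1 n hn]
  refine (Subgroup.eq_bot_iff_forall _).2 fun n hn => Subtype.ext (Matrix.ext fun i j => ?_)
  have a0 := congrFun (he0 n hn) i
  have a1 := congrFun (he1 n hn) i
  fin_cases i <;> fin_cases j <;> simp [Matrix.mulVec, dotProduct, Fin.sum_univ_two] at a0 a1 ⊢ <;>
    assumption

theorem pCore_eq_ker : Cfsg.pCore p (Cfsg.qdOver F) = (proj (F := F)).ker := by
  refine le_antisymm ?_ ?_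
  · rw [← MonoidHom.comap_bot, ← Subgroup.map_le_iff_le_comap, le_bot_iff]
    haveI := Subgroup.Normal.map (H := Cfsg.pCore p (Cfsg.qdOver F)) inferInstance proj proj_surjective
    exact eq_bot_of_normal_pGroup _ ((pCore_isPGroup p _).map proj)
  · exact le_pCore inferInstance isPGroup_ker

end PCore

end Cfsg.Agent.Lib.LocalEven.Qd
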