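import Cfsg.Agent.Lib.LocalEven.PReduced
import Cfsg.Agent.Lib.Solvable.Nilpotent

/-!
Characteristic `p` of subnormal subgroups, and Kieler's lemma.
-/

set_option autoImplicit false

open scoped commutatorElement

namespace Cfsg.Agent.Lib.LocalEven

universe u

variable {G : Type u} [Group G] {p : ℕ}

theorem IsSylowOf.inf_subnormal [Finite G] [Fact p.Prime] {T K : Subgroup G}
    (hT : IsSylowOf p T (⊤ : Subgroup G)) (hK : K.IsSubnormal) : IsSylowOf p (T ⊓ K) K := by
  induction hK with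
  | top => rwa [inf_top_eq]
  | step H K hHK _ hn ih =>
    have := ih.inf_normal hHK (le_normalizer_of_subgroupOf_normal hHK hn)
    rwa [inf_assoc, inf_eq_right.2 hHK] at this

theorem IsSylowOf.mem_of_centralizer [Finite G] [hp : Fact p.Prime] {T H : Subgroup G}
    (hT : IsSylowOf p T H) {d : G} (hd : d ∈ H) (hc : d ∈ Subgroup.centralizer (T : Set G))
    (hdp : d ^ p = 1) : d ∈ T := by
  have h1 : IsPGroup p (Subgroup.zpowers d) := by
    rintro ⟨x, hx⟩
    obtain ⟨n, rfl⟩ := Subgroup.mem_zpowers_iff.1 hx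
    refine ⟨1, Subtype.ext ?_⟩
    show (d ^ n) ^ p ^ 1 = 1
    rw [pow_one, ← zpow_natCast, ← zpow_mul, mul_comm, zpow_mul, zpow_natCast, hdp, one_zpow]
  have h2 : Subgroup.zpowers d ≤ Subgroup.normalizer (T : Set G) :=
    Subgroup.zpowers_le.2 (Subgroup.centralizer_le_normalizer _ hc)
  have h3 := hT.eq_of_le (sup_le (Subgroup.zpowers_le.2 hd) hT.le)
    (h1.to_sup_of_normal_right' hT.isPGroup h2) le_sup_right
  rw [← h3]
  exact Subgroup.mem_sup_left (Subgroup.mem_zpowers d)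

theorem mem_omZ_of {T : Subgroup G} {d : G} (hd : d ∈ T)
    (hc : d ∈ Subgroup.centralizer (T : Set G)) (hdp : d ^ p = 1) : d ∈ omZ p T :=
  Subgroup.subset_closure ⟨Subgroup.mem_inf.2 ⟨hd, hc⟩, hdp⟩

theorem exists_ne_one_mem_centralizer [Finite G] [hp : Fact p.Prime] {T K : Subgroup G}
    (hT : IsPGroup p T) (hK : IsPGroup p K) (hn : T ≤ Subgroup.normalizer (K : Set G)) (hne : K ≠ ⊥) :
    ∃ b ∈ K, b ≠ 1 ∧ b ∈ Subgroup.centralizer (T : Set G) := by
  have hP : IsPGroup p ↥(T ⊔ K) := hT.to_sup_of_normal_right' hK hn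
  haveI := hP.isNilpotent
  haveI : (K.subgroupOf (T ⊔ K)).Normal :=
    subgroupOf_normal_of_le (sup_le hn Subgroup.le_normalizer)
  have h := Solvable.inf_center_ne_bot (N := K.subgroupOf (T ⊔ K)) (by
    rw [Ne, Subgroup.subgroupOf_eq_bot, disjoint_iff, inf_eq_left.2 (le_sup_right : K ≤ T ⊔ K)]
    exact hne)
  haveI := (Subgroup.nontrivial_iff_ne_bot _).2 h
  obtain ⟨⟨⟨b, hbP⟩, hb⟩, hb'⟩ :=
    exists_ne (1 : ↥(K.subgroupOf (T ⊔ K) ⊓ Subgroup.center ↥(T ⊔ K)))
  exact ⟨b, hb.1, fun e => hb' (Subtype.ext (Subtype.ext e)), Subgroup.mem_centralizer_iff.2 fun t ht =>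
    congrArg Subtype.val (Subgroup.mem_center_iff.1 hb.2 ⟨t, Subgroup.mem_sup_left ht⟩)⟩

theorem hch_of_normal [Finite G] [hp : Fact p.Prime] {H L : Subgroup G}
    (hch : H ⊓ Subgroup.centralizer (Cfsg.pCoreOf p H : Set G) ≤ Cfsg.pCoreOf p H)
    (hLH : L ≤ H) (hn : H ≤ Subgroup.normalizer (L : Set G)) :
    L ⊓ Subgroup.centralizer (Cfsg.pCoreOf p L : Set G) ≤ Cfsg.pCoreOf p L := by
  refine le_pCoreOf inf_le_left
    (le_normalizer_inf Subgroup.le_normalizer (le_normalizer_centralizer (le_normalizer_pCoreOf L))) ?_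
  refine isPGroup_of_pResOf_eq_bot ?_
  rw [eq_bot_iff, pResOf_le_iff]
  intro x hx hc
  obtain ⟨hxL, hxC⟩ := Subgroup.mem_inf.1 hx
  have hxP : x ∈ Subgroup.centralizer (Cfsg.pCoreOf p H : Set G) := by
    rw [Subgroup.mem_centralizer_iff]
    intro a ha
    have hm : x * a * x⁻¹ * a⁻¹ ∈ Cfsg.pCoreOf p H :=
      mul_mem ((Subgroup.mem_normalizer_iff.1 (le_normalizer_pCoreOf H (hLH hxL)) a).1 ha) (inv_mem ha)
    have hmL : x * a * x⁻¹ * a⁻¹ ∈ L := by
      rw [mul_assoc, mul_assoc, ← mul_assoc a]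
      exact mul_mem hxL ((Subgroup.mem_normalizer_iff.1 (hn (pCoreOf_le H ha)) _).1 (inv_mem hxL))
    have hO : x * a * x⁻¹ * a⁻¹ ∈ Cfsg.pCoreOf p L :=
      le_pCoreOf (N := Cfsg.pCoreOf p H ⊓ L) inf_le_right
        (le_normalizer_inf (hLH.trans (le_normalizer_pCoreOf H)) Subgroup.le_normalizer)
        (pCoreOf_isPGroup H).to_inf_left (Subgroup.mem_inf.2 ⟨hm, hmL⟩)
    have hcc : x * a * x⁻¹ * a⁻¹ ∈ Subgroup.centralizer ({x} : Set G) :=
      Subgroup.mem_centralizer_singleton_iff.2 (Subgroup.mem_centralizer_iff.1 hxC _ hO)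
    exact (commute_mem_of_coprime_stab (pCoreOf_isPGroup L) hc hO hcc).symm
  obtain ⟨k, hk⟩ := pCoreOf_isPGroup (p := p) H ⟨x, hch (Subgroup.mem_inf.2 ⟨hLH hxL, hxP⟩)⟩
  exact eq_one_of_coprime_of_pow hc (congrArg Subtype.val hk)

theorem hch_of_subnormal [Finite G] [Fact p.Prime]
    (hch : (⊤ : Subgroup G) ⊓ Subgroup.centralizer (Cfsg.pCoreOf p (⊤ : Subgroup G) : Set G) ≤
      Cfsg.pCoreOf p (⊤ : Subgroup G)) {K : Subgroup G} (hK : K.IsSubnormal) :
    K ⊓ Subgroup.centralizer (Cfsg.pCoreOf p K : Set G) ≤ Cfsg.pCoreOf p K := by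
  induction hK with
  | top => exact hch
  | step H K hHK _ hn ih => exact hch_of_normal ih hHK (le_normalizer_of_subgroupOf_normal hHK hn)

theorem NormData.map_one' {L S U : Subgroup G} (D : NormData L S U) : D.N 1 = 1 := by
  have := D.map_mul 1 (one_mem _) 1 (one_mem _)
  rwa [one_mul, left_eq_mul] at this

theorem NormData.map_inv' {L S U : Subgroup G} (D : NormData L S U) {w : G}
    (hw : w ∈ U ⊓ Subgroup.centralizer (S : Set G)) : D.N w⁻¹ = (D.N w)⁻¹ := by
  have := D.map_mul w⁻¹ (inv_mem hw) w hw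
  rw [inv_mul_cancel, D.map_one'] at this
  exact eq_inv_of_mul_eq_one_left this.symm

theorem NormData.map_pow' {L S U : Subgroup G} (D : NormData L S U) {w : G}
    (hw : w ∈ U ⊓ Subgroup.centralizer (S : Set G)) (n : ℕ) : D.N (w ^ n) = (D.N w) ^ n := by
  induction n with
  | zero => rw [pow_zero, pow_zero, D.map_one']
  | succ n ih => rw [pow_succ, D.map_mul _ (pow_mem hw n) _ hw, ih, pow_succ]

/-- Kieler's lemma for a normal subgroup. -/
theorem kieler_normal [Finite G] [hp : Fact p.Prime] {H L T : Subgroup G}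
    (hch : H ⊓ Subgroup.centralizer (Cfsg.pCoreOf p H : Set G) ≤ Cfsg.pCoreOf p H)
    (hT : IsSylowOf p T H) (hLH : L ≤ H) (hn : H ≤ Subgroup.normalizer (L : Set G)) :
    L ⊓ Subgroup.centralizer (omZ p T : Set G) =
      L ⊓ Subgroup.centralizer (omZ p (T ⊓ L) : Set G) := by
  have hS : IsSylowOf p (T ⊓ L) L := hT.inf_normal hLH hn
  set S := T ⊓ L with hSdef
  refine le_antisymm ?_ ?_
  · set L1 := L ⊓ Subgroup.centralizer (omZ p T : Set G) with hL1
    have hTc : T ≤ Subgroup.centralizer (omZ p T : Set G) :=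
      Subgroup.le_centralizer_iff.1 (omZ_le_centralizer T)
    have hS1 : IsSylowOf p S L1 := hS.mono (le_inf hS.le (inf_le_left.trans hTc)) inf_le_left
    have hTL : T ≤ Subgroup.normalizer (L : Set G) := hT.le.trans hn
    set U := omZ p (Cfsg.pCoreOf p L) with hU
    have hnU : ∀ A : Subgroup G, A ≤ Subgroup.normalizer (L : Set G) →
        A ≤ Subgroup.normalizer (U : Set G) := by
      intro A hA
      rw [le_normalizer_iff_forall] at hA ⊢
      intro a ha
      rw [hU, conjS_omZ, conjS_pCoreOf, hA a ha]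
    obtain ⟨D⟩ := exists_normData hS1.le (inf_le_left.trans (hnU L Subgroup.le_normalizer))
      (elemAb_iff.1 (omZ_elemAb (p := p) (Cfsg.pCoreOf p L))).1
    have hTS : T ≤ Subgroup.normalizer (S : Set G) := le_normalizer_inf Subgroup.le_normalizer hTL
    have hTW : T ≤ Subgroup.normalizer ((U ⊓ Subgroup.centralizer (S : Set G) : Subgroup G) : Set G) :=
      le_normalizer_inf (hnU T hTL) (le_normalizer_centralizer hTS)
    let K0 : Subgroup G :=
      { carrier := {w | w ∈ U ⊓ Subgroup.centralizer (S : Set G) ∧ D.N w = 1}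
        one_mem' := ⟨one_mem _, D.map_one'⟩
        mul_mem' := fun {a b} ha hb =>
          ⟨mul_mem ha.1 hb.1, by rw [D.map_mul a ha.1 b hb.1, ha.2, hb.2, one_mul]⟩
        inv_mem' := fun {a} ha => ⟨inv_mem ha.1, by rw [D.map_inv' ha.1, ha.2, inv_one]⟩ }
    have hTK : T ≤ Subgroup.normalizer (K0 : Set G) := by
      have key : ∀ t ∈ T, ∀ w ∈ K0, t * w * t⁻¹ ∈ K0 := by
        intro t ht w hw
        refine ⟨(Subgroup.mem_normalizer_iff.1 (hTW ht) w).1 hw.1, ?_⟩
        rw [D.equivariant w hw.1 t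
          ((le_normalizer_inf hTL (le_normalizer_centralizer (hTc.trans (Subgroup.centralizer_le_normalizer _)))) ht)
          (hTS ht) (hnU T hTL ht), hw.2, mul_one, mul_inv_cancel]
      intro t ht
      rw [Subgroup.mem_normalizer_iff]
      refine fun w => ⟨key t ht w, fun hw => ?_⟩
      simpa [mul_assoc] using key t⁻¹ (inv_mem ht) _ hw
    have hK0 : K0 = ⊥ := by
      by_contra hne
      obtain ⟨b, hb, hb1, hbT⟩ := exists_ne_one_mem_centralizer hT.isPGroup
        ((elemAb_isPGroup (omZ_elemAb (Cfsg.pCoreOf p L))).to_le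
          (show K0 ≤ U from fun w hw => (Subgroup.mem_inf.1 hw.1).1)) hTK hne
      have hbp : b ^ p = 1 := (omZ_elemAb (p := p) (Cfsg.pCoreOf p L)).2 b hb.1.1
      have hbZ : b ∈ omZ p T := mem_omZ_of
        (hT.mem_of_centralizer (hLH (pCoreOf_le L (omZ_le _ hb.1.1))) hbT hbp) hbT hbp
      have hbF : b ∈ U ⊓ Subgroup.centralizer (L1 : Set G) := Subgroup.mem_inf.2
        ⟨hb.1.1, Subgroup.le_centralizer_iff.1 (inf_le_right : L1 ≤ _) hbZ⟩
      have := D.fixed b hbF
      rw [hb.2] at this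
      exact hb1 (eq_one_of_pow_eq_one_of_not_dvd hS1.not_dvd_relIndex hbp this.symm)
    refine le_inf inf_le_left (Subgroup.le_centralizer_iff.1 ?_)
    intro w hw
    have hchL := hch_of_normal hch hLH hn
    have hwU : w ∈ U := by
      refine mem_omZ_of (omZ_le_pCoreOf hchL hS hw) ?_ ((omZ_elemAb S).2 w hw)
      exact Subgroup.centralizer_le hS.pCoreOf_le (omZ_le_centralizer S hw)
    have hwW : w ∈ U ⊓ Subgroup.centralizer (S : Set G) :=
      Subgroup.mem_inf.2 ⟨hwU, omZ_le_centralizer S hw⟩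
    have hN := D.mem w hwW
    have hNW : D.N w ∈ U ⊓ Subgroup.centralizer (S : Set G) :=
      inf_le_inf_left _ (Subgroup.centralizer_le hS1.le) hN
    have hk : (w ^ S.relIndex L1)⁻¹ * D.N w ∈ K0 := by
      refine ⟨mul_mem (inv_mem (pow_mem hwW _)) hNW, ?_⟩
      rw [D.map_mul _ (inv_mem (pow_mem hwW _)) _ hNW, D.map_inv' (pow_mem hwW _), D.map_pow' hwW,
        D.fixed _ hN, inv_mul_cancel]
    rw [hK0, Subgroup.mem_bot, inv_mul_eq_one] at hk
    refine mem_of_pow_mem_of_not_dvd hS1.not_dvd_relIndex ((omZ_elemAb S).2 w hw) ?_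
    rw [hk]
    exact hN.2
  · set L0 := L ⊓ Subgroup.centralizer (omZ p S : Set G) with hL0
    have hS0 : IsSylowOf p S L0 :=
      hS.mono (le_inf hS.le (Subgroup.le_centralizer_iff.1 (omZ_le_centralizer S))) inf_le_left
    have hV := sylowCenterClosure_redIn hch
    have key := inf_centralizer_le_of_norm hS0 ((inf_le_left.trans hLH).trans hV.normal)
      (elemAb_iff.1 hV.elem).1 hV.elem.2
    refine le_inf inf_le_left (Subgroup.le_centralizer_iff.1 ?_)
    intro z hz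
    have hz1 : z ∈ Cfsg.sylowCenterClosure p H ⊓ Subgroup.centralizer (S : Set G) :=
      Subgroup.mem_inf.2 ⟨omZ_le_sylowCenterClosure hT hz,
        Subgroup.centralizer_le (inf_le_left : T ⊓ L ≤ T) (omZ_le_centralizer T hz)⟩
    refine (show _ ≤ Subgroup.centralizer (L0 : Set G) from sup_le inf_le_right ?_) (key hz1)
    intro d hd
    obtain ⟨hd1, hd2, hd3⟩ := hd.1, (Subgroup.mem_inf.1 hd.2).1, (Subgroup.mem_inf.1 hd.2).2
    have hdL : d ∈ L := (Subgroup.commutator_mono le_rfl inf_le_left).trans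
      (commutator_le_of_le_normalizer' (hV.le.trans hn)) hd1
    exact Subgroup.le_centralizer_iff.1 (inf_le_right : L0 ≤ _)
      (mem_omZ_of (hS.mem_of_centralizer hdL hd3 (hV.elem.2 d hd2)) hd3 (hV.elem.2 d hd2))

/-- Kieler's lemma. -/
theorem kieler [Finite G] [Fact p.Prime]
    (hch : (⊤ : Subgroup G) ⊓ Subgroup.centralizer (Cfsg.pCoreOf p (⊤ : Subgroup G) : Set G) ≤
      Cfsg.pCoreOf p (⊤ : Subgroup G)) {T L : Subgroup G}
    (hT : IsSylowOf p T (⊤ : Subgroup G)) (hL : L.IsSubnormal) :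
    L ⊓ Subgroup.centralizer (omZ p T : Set G) =
      L ⊓ Subgroup.centralizer (omZ p (T ⊓ L) : Set G) := by
  induction hL with
  | top => rw [inf_top_eq]
  | step H K hHK hKsn hn ih =>
    have h1 := kieler_normal (hch_of_subnormal hch hKsn) (hT.inf_subnormal hKsn) hHK
      (le_normalizer_of_subgroupOf_normal hHK hn)
    rw [inf_assoc, inf_eq_right.2 hHK] at h1
    rw [← h1, ← inf_eq_left.2 hHK, inf_assoc, ih, ← inf_assoc]

end Cfsg.Agent.Lib.LocalEven
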