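import Cfsg.Prelude.Def_Amalgam

/-!
Basic API of the coset graph of a pair of subgroups.
-/

set_option autoImplicit false

namespace Cfsg.Agent.Lib.LocalEven

variable {X : Type*} [Group X] {M₁ M₂ : Subgroup X}

theorem cosetGraph_adj {a b : Cfsg.CosetVertex M₁ M₂} :
    (Cfsg.cosetGraph M₁ M₂).Adj a b ↔
      (∃ x : X, a = Sum.inl (x : X ⧸ M₁) ∧ b = Sum.inr (x : X ⧸ M₂)) ∨
      (∃ x : X, b = Sum.inl (x : X ⧸ M₁) ∧ a = Sum.inr (x : X ⧸ M₂)) := by
  unfold Cfsg.cosetGraph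
  rw [SimpleGraph.fromRel_adj]
  constructor
  · exact fun h => h.2
  · intro h
    refine ⟨?_, h⟩
    rcases h with ⟨x, rfl, rfl⟩ | ⟨x, rfl, rfl⟩ <;> simp

theorem adj_inl_inr (x : X) :
    (Cfsg.cosetGraph M₁ M₂).Adj (Sum.inl (x : X ⧸ M₁)) (Sum.inr (x : X ⧸ M₂)) :=
  cosetGraph_adj.2 (Or.inl ⟨x, rfl, rfl⟩)

theorem smul_inl (g x : X) :
    g • (Sum.inl (x : X ⧸ M₁) : Cfsg.CosetVertex M₁ M₂) = Sum.inl ((g * x : X) : X ⧸ M₁) := rfl

theorem smul_inr (g x : X) :
    g • (Sum.inr (x : X ⧸ M₂) : Cfsg.CosetVertex M₁ M₂) = Sum.inr ((g * x : X) : X ⧸ M₂) := rfl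

theorem adj_smul {g : X} {a b : Cfsg.CosetVertex M₁ M₂} (h : (Cfsg.cosetGraph M₁ M₂).Adj a b) :
    (Cfsg.cosetGraph M₁ M₂).Adj (g • a) (g • b) := by
  rcases cosetGraph_adj.1 h with ⟨x, rfl, rfl⟩ | ⟨x, rfl, rfl⟩
  · exact adj_inl_inr (g * x)
  · exact (adj_inl_inr (g * x)).symm

theorem adj_smul_iff {g : X} {a b : Cfsg.CosetVertex M₁ M₂} :
    (Cfsg.cosetGraph M₁ M₂).Adj (g • a) (g • b) ↔ (Cfsg.cosetGraph M₁ M₂).Adj a b := by
  refine ⟨fun h => ?_, adj_smul⟩
  simpa using adj_smul (g := g⁻¹) h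

/-- Translation by a group element, as a graph automorphism. -/
def translateIso (M₁ M₂ : Subgroup X) (g : X) :
    Cfsg.cosetGraph M₁ M₂ ≃g Cfsg.cosetGraph M₁ M₂ where
  toEquiv := MulAction.toPerm g
  map_rel_iff' := adj_smul_iff

theorem translateIso_apply (g : X) (a : Cfsg.CosetVertex M₁ M₂) :
    translateIso M₁ M₂ g a = g • a := rfl

theorem reachable_smul {g : X} {a b : Cfsg.CosetVertex M₁ M₂}
    (h : (Cfsg.cosetGraph M₁ M₂).Reachable a b) :
    (Cfsg.cosetGraph M₁ M₂).Reachable (g • a) (g • b) :=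
  h.map (translateIso M₁ M₂ g).toHom

theorem reachable_of_mem_sup {g : X} (hg : g ∈ M₁ ⊔ M₂) :
    (Cfsg.cosetGraph M₁ M₂).Reachable (Sum.inl ((1 : X) : X ⧸ M₁)) (Sum.inl (g : X ⧸ M₁)) := by
  rw [Subgroup.sup_eq_closure] at hg
  induction hg using Subgroup.closure_induction with
  | mem x hx =>
    rcases hx with hx | hx
    · have : ((x : X) : X ⧸ M₁) = ((1 : X) : X ⧸ M₁) := by
        rw [QuotientGroup.eq]; simpa using hx
      rw [this]
    · have e : ((x : X) : X ⧸ M₂) = ((1 : X) : X ⧸ M₂) := by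
        rw [QuotientGroup.eq]; simpa using hx
      have h1 : (Cfsg.cosetGraph M₁ M₂).Reachable (Sum.inl ((1 : X) : X ⧸ M₁)) (Sum.inr ((1 : X) : X ⧸ M₂)) :=
        (adj_inl_inr 1).reachable
      have h2 : (Cfsg.cosetGraph M₁ M₂).Reachable (Sum.inl (x : X ⧸ M₁)) (Sum.inr ((1 : X) : X ⧸ M₂)) := by
        rw [← e]; exact (adj_inl_inr x).reachable
      exact h1.trans h2.symm
  | one => exact SimpleGraph.Reachable.refl _
  | mul a b _ _ ha hb =>
    have := reachable_smul (g := a) hb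
    rw [smul_inl, smul_inl, mul_one] at this
    exact ha.trans this
  | inv a _ ha =>
    have := reachable_smul (g := a⁻¹) ha
    rw [smul_inl, smul_inl, mul_one, inv_mul_cancel] at this
    exact this.symm

theorem cosetGraph_connected (hgen : M₁ ⊔ M₂ = ⊤) : (Cfsg.cosetGraph M₁ M₂).Connected := by
  rw [SimpleGraph.connected_iff_exists_forall_reachable]
  refine ⟨Sum.inl ((1 : X) : X ⧸ M₁), ?_⟩
  have base : ∀ g : X, (Cfsg.cosetGraph M₁ M₂).Reachable (Sum.inl ((1 : X) : X ⧸ M₁)) (Sum.inl (g : X ⧸ M₁)) :=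
    fun g => reachable_of_mem_sup (by rw [hgen]; trivial)
  intro v
  rcases v with v | v
  · induction v using QuotientGroup.induction_on with
    | H g => exact base g
  · induction v using QuotientGroup.induction_on with
    | H g => exact (base g).trans (adj_inl_inr g).reachable

theorem stabilizer_inl (x : X) :
    MulAction.stabilizer X (Sum.inl (x : X ⧸ M₁) : Cfsg.CosetVertex M₁ M₂) =
      M₁.map (MulAut.conj x).toMonoidHom := by
  ext g
  rw [MulAction.mem_stabilizer_iff, smul_inl, Sum.inl.injEq, eq_comm, QuotientGroup.eq,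
    Subgroup.mem_map_equiv]
  simp [MulAut.conj_symm_apply, mul_assoc]

theorem stabilizer_inr (x : X) :
    MulAction.stabilizer X (Sum.inr (x : X ⧸ M₂) : Cfsg.CosetVertex M₁ M₂) =
      M₂.map (MulAut.conj x).toMonoidHom := by
  ext g
  rw [MulAction.mem_stabilizer_iff, smul_inr, Sum.inr.injEq, eq_comm, QuotientGroup.eq,
    Subgroup.mem_map_equiv]
  simp [MulAut.conj_symm_apply, mul_assoc]

theorem neighbours_transitive {δ μ μ' : Cfsg.CosetVertex M₁ M₂}
    (hμ : (Cfsg.cosetGraph M₁ M₂).Adj δ μ) (hμ' : (Cfsg.cosetGraph M₁ M₂).Adj δ μ') :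
    ∃ g ∈ MulAction.stabilizer X δ, g • μ = μ' := by
  rcases cosetGraph_adj.1 hμ with ⟨x, rfl, rfl⟩ | ⟨x, rfl, rfl⟩ <;>
    rcases cosetGraph_adj.1 hμ' with ⟨y, h, rfl⟩ | ⟨y, rfl, h⟩
  · refine ⟨y * x⁻¹, ?_, ?_⟩
    · rw [MulAction.mem_stabilizer_iff, smul_inl, inv_mul_cancel_right, ← h]
    · rw [smul_inr, inv_mul_cancel_right]
  · simp at h
  · simp at h
  · refine ⟨y * x⁻¹, ?_, ?_⟩
    · rw [MulAction.mem_stabilizer_iff, smul_inr, inv_mul_cancel_right, ← h]
    · rw [smul_inl, inv_mul_cancel_right]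

theorem exists_neighbour (δ : Cfsg.CosetVertex M₁ M₂) :
    ∃ μ, (Cfsg.cosetGraph M₁ M₂).Adj δ μ := by
  rcases δ with v | v
  · induction v using QuotientGroup.induction_on with
    | H g => exact ⟨_, adj_inl_inr g⟩
  · induction v using QuotientGroup.induction_on with
    | H g => exact ⟨_, (adj_inl_inr g).symm⟩

/-- A subgroup fixing every vertex is trivial when no nontrivial normal subgroup lies in the meet. -/
theorem eq_bot_of_fixes_all (h : ∀ N : Subgroup X, N ≤ M₁ ⊓ M₂ → N.Normal → N = ⊥) (U : Subgroup X)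
    (hU : ∀ v : Cfsg.CosetVertex M₁ M₂, U ≤ MulAction.stabilizer X v) : U = ⊥ := by
  let K : Subgroup X := (MulAction.toPermHom X (Cfsg.CosetVertex M₁ M₂)).ker
  have hK : K ≤ M₁ ⊓ M₂ := by
    intro g hg
    rw [MonoidHom.mem_ker, Equiv.Perm.ext_iff] at hg
    have a := hg (Sum.inl ((1 : X) : X ⧸ M₁))
    have b := hg (Sum.inr ((1 : X) : X ⧸ M₂))
    rw [MulAction.toPermHom_apply, MulAction.toPerm_apply, Equiv.Perm.one_apply] at a b
    rw [smul_inl, Sum.inl.injEq, mul_one, eq_comm, QuotientGroup.eq] at a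
    rw [smul_inr, Sum.inr.injEq, mul_one, eq_comm, QuotientGroup.eq] at b
    exact ⟨by simpa using a, by simpa using b⟩
  have hKn : K.Normal := MonoidHom.normal_ker _
  have hUK : U ≤ K := by
    intro g hg
    rw [MonoidHom.mem_ker]
    ext v : 1
    exact hU v hg
  rw [h K hK hKn] at hUK
  exact le_bot_iff.1 hUK

/-- If `H` is transitive on the neighbours at both ends of an edge and fixes `U`, and `U` fixes both ends,
then `U` fixes every vertex of the (connected) graph. -/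
theorem fixes_all_of_edge_transitive (hgen : M₁ ⊔ M₂ = ⊤) {δ μ : Cfsg.CosetVertex M₁ M₂}
    (hadj : (Cfsg.cosetGraph M₁ M₂).Adj δ μ) (U H : Subgroup X)
    (hHU : H ≤ Subgroup.normalizer (U : Set X))
    (hδ : U ≤ MulAction.stabilizer X δ) (hμ : U ≤ MulAction.stabilizer X μ)
    (htδ : ∀ ν ν', (Cfsg.cosetGraph M₁ M₂).Adj δ ν → (Cfsg.cosetGraph M₁ M₂).Adj δ ν' →
      ∃ g ∈ H, g • δ = δ ∧ g • ν = ν')
    (htμ : ∀ ν ν', (Cfsg.cosetGraph M₁ M₂).Adj μ ν → (Cfsg.cosetGraph M₁ M₂).Adj μ ν' →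
      ∃ g ∈ H, g • μ = μ ∧ g • ν = ν') :
    ∀ v : Cfsg.CosetVertex M₁ M₂, U ≤ MulAction.stabilizer X v := by
  have key : ∀ {a b : Cfsg.CosetVertex M₁ M₂}, (Cfsg.cosetGraph M₁ M₂).Walk a b →
      (∃ g ∈ H, g • δ = a ∨ g • μ = a) → ∃ g ∈ H, g • δ = b ∨ g • μ = b := by
    intro a b w
    induction w with
    | nil => exact id
    | @cons a c b hadj' w ih =>
      intro ha
      refine ih ?_
      obtain ⟨g, hg, rfl | rfl⟩ := ha
      · have : (Cfsg.cosetGraph M₁ M₂).Adj δ (g⁻¹ • c) := by simpa using adj_smul (g := g⁻¹) hadj'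
        obtain ⟨k, hk, _, hk2⟩ := htδ μ _ hadj this
        exact ⟨g * k, mul_mem hg hk, Or.inr (by rw [mul_smul, hk2, smul_inv_smul])⟩
      · have : (Cfsg.cosetGraph M₁ M₂).Adj μ (g⁻¹ • c) := by simpa using adj_smul (g := g⁻¹) hadj'
        obtain ⟨k, hk, _, hk2⟩ := htμ δ _ hadj.symm this
        exact ⟨g * k, mul_mem hg hk, Or.inl (by rw [mul_smul, hk2, smul_inv_smul])⟩
  intro v u hu
  obtain ⟨w⟩ := (cosetGraph_connected hgen).preconnected δ v
  obtain ⟨g, hg, hgv⟩ := key w ⟨1, one_mem _, Or.inl (one_smul _ _)⟩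
  have hu' : g⁻¹ * u * g ∈ U := by
    have := (Subgroup.mem_normalizer_iff.1 (hHU (inv_mem hg)) u).1 hu
    simpa using this
  rw [MulAction.mem_stabilizer_iff]
  rcases hgv with rfl | rfl
  · have := hδ hu'
    rw [MulAction.mem_stabilizer_iff, mul_smul, mul_smul, inv_smul_eq_iff] at this
    exact this
  · have := hμ hu'
    rw [MulAction.mem_stabilizer_iff, mul_smul, mul_smul, inv_smul_eq_iff] at this
    exact this

end Cfsg.Agent.Lib.LocalEven
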