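import Cfsg.Agent.Lib.LocalEven.PCore
import Cfsg.Agent.Lib.LocalEven.CosetGraph

/-!
Characteristic `p` amalgam pairs: Sylow subgroups of edge stabilizers, `Z_δ ≤ Q_δ ≤ G_δ^{(1)}`, critical pairs.
-/

set_option autoImplicit false

namespace Cfsg.Agent.Lib.LocalEven

universe u

variable {X : Type u} [Group X] {M₁ M₂ : Subgroup X} {p : ℕ}

/-- `Ω₁(Z(T))`. -/
def omZ (p : ℕ) (T : Subgroup X) : Subgroup X :=
  Cfsg.omegaOne p (T ⊓ Subgroup.centralizer (T : Set X))

theorem omegaOne_le (H : Subgroup X) : Cfsg.omegaOne p H ≤ H :=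
  (Subgroup.closure_le H).2 fun _ hx => hx.1

theorem omegaOne_mono {H K : Subgroup X} (h : H ≤ K) : Cfsg.omegaOne p H ≤ Cfsg.omegaOne p K :=
  Subgroup.closure_mono fun _ hx => ⟨h hx.1, hx.2⟩

theorem conjS_omegaOne_le (g : X) (H : Subgroup X) :
    conjS g (Cfsg.omegaOne p H) ≤ Cfsg.omegaOne p (conjS g H) := by
  rw [conjS, Subgroup.map_le_iff_le_comap, Cfsg.omegaOne, Subgroup.closure_le]
  rintro x ⟨hx, hx2⟩
  refine Subgroup.subset_closure ⟨conj_mem_conjS hx, ?_⟩
  rw [← map_pow, hx2, map_one]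

theorem conjS_omegaOne (g : X) (H : Subgroup X) :
    conjS g (Cfsg.omegaOne p H) = Cfsg.omegaOne p (conjS g H) := by
  refine le_antisymm (conjS_omegaOne_le g H) ?_
  have := conjS_mono g (conjS_omegaOne_le (p := p) g⁻¹ (conjS g H))
  rwa [conjS_inv_cancel, conjS_cancel_inv] at this

theorem conjS_omZ (g : X) (T : Subgroup X) : conjS g (omZ p T) = omZ p (conjS g T) := by
  rw [omZ, omZ, conjS_omegaOne, conjS_inf, conjS_centralizer]

theorem omZ_le (T : Subgroup X) : omZ p T ≤ T := (omegaOne_le _).trans inf_le_left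

theorem omZ_le_centralizer (T : Subgroup X) : omZ p T ≤ Subgroup.centralizer (T : Set X) :=
  (omegaOne_le _).trans inf_le_right

theorem sylowCenterClosure_eq (H : Subgroup X) :
    Cfsg.sylowCenterClosure p H = ⨆ T : {T : Subgroup X // IsSylowOf p T H}, omZ p (T : Subgroup X) := by
  unfold Cfsg.sylowCenterClosure
  refine le_antisymm (iSup_le fun S => ?_) (iSup_le fun T => ?_)
  · exact le_iSup (fun T : {T : Subgroup X // IsSylowOf p T H} => omZ p (T : Subgroup X))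
      ⟨_, isSylowOf_map_subtype S⟩
  · obtain ⟨P, hP⟩ := T.2.exists_sylow
    refine le_trans ?_ (le_iSup _ P)
    rw [omZ, ← hP]

theorem omZ_le_sylowCenterClosure {T H : Subgroup X} (hT : IsSylowOf p T H) :
    omZ p T ≤ Cfsg.sylowCenterClosure p H := by
  rw [sylowCenterClosure_eq]
  exact le_iSup (fun T : {T : Subgroup X // IsSylowOf p T H} => omZ p (T : Subgroup X)) ⟨T, hT⟩

theorem conjS_iSup {ι : Sort*} (g : X) (f : ι → Subgroup X) :
    conjS g (⨆ i, f i) = ⨆ i, conjS g (f i) := Subgroup.map_iSup _ _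

theorem le_normalizer_sylowCenterClosure (H : Subgroup X) :
    H ≤ Subgroup.normalizer ((Cfsg.sylowCenterClosure p H : Subgroup X) : Set X) := by
  rw [le_normalizer_iff_forall]
  have key : ∀ g ∈ H, conjS g (Cfsg.sylowCenterClosure p H) ≤ Cfsg.sylowCenterClosure p H := by
    intro g hg
    rw [sylowCenterClosure_eq, conjS_iSup, ← sylowCenterClosure_eq]
    refine iSup_le fun T => ?_
    rw [conjS_omZ]
    have := T.2.conjS g
    rw [conjS_mem_eq_self hg] at this
    exact omZ_le_sylowCenterClosure this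
  intro g hg
  refine le_antisymm (key g hg) ?_
  have := conjS_mono g (key g⁻¹ (inv_mem hg))
  rwa [conjS_cancel_inv] at this

/-- In a group of characteristic `p`, `Ω₁(Z(T)) ≤ O_p`. -/
theorem omZ_le_pCoreOf {T H : Subgroup X}
    (hch : H ⊓ Subgroup.centralizer (Cfsg.pCoreOf p H : Set X) ≤ Cfsg.pCoreOf p H)
    (hT : IsSylowOf p T H) : omZ p T ≤ Cfsg.pCoreOf p H :=
  le_trans (le_inf ((omZ_le T).trans hT.le)
    ((omZ_le_centralizer T).trans (Subgroup.centralizer_le hT.pCoreOf_le))) hch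

theorem sylowCenterClosure_le_pCoreOf {H : Subgroup X}
    (hch : H ⊓ Subgroup.centralizer (Cfsg.pCoreOf p H : Set X) ≤ Cfsg.pCoreOf p H) :
    Cfsg.sylowCenterClosure p H ≤ Cfsg.pCoreOf p H := by
  rw [sylowCenterClosure_eq]
  exact iSup_le fun T => omZ_le_pCoreOf hch T.2

theorem adj_iff_exists_conj {δ μ : Cfsg.CosetVertex M₁ M₂} (hadj : (Cfsg.cosetGraph M₁ M₂).Adj δ μ) :
    ∃ x : X, (MulAction.stabilizer X δ = conjS x M₁ ∧ MulAction.stabilizer X μ = conjS x M₂) ∨
      (MulAction.stabilizer X δ = conjS x M₂ ∧ MulAction.stabilizer X μ = conjS x M₁) := by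
  rcases cosetGraph_adj.1 hadj with ⟨x, rfl, rfl⟩ | ⟨x, rfl, rfl⟩
  · exact ⟨x, Or.inl ⟨stabilizer_inl x, stabilizer_inr x⟩⟩
  · exact ⟨x, Or.inr ⟨stabilizer_inr x, stabilizer_inl x⟩⟩

variable (h : Cfsg.IsCharPAmalgamPair p M₁ M₂)
include h

theorem stabilizer_finite (δ : Cfsg.CosetVertex M₁ M₂) : Finite (MulAction.stabilizer X δ) := by
  have := h.2.1
  have := h.2.2.1
  rcases δ with v | v
  · induction v using QuotientGroup.induction_on with
    | H g =>
      rw [stabilizer_inl]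
      exact Finite.of_equiv _ (M₁.equivMapOfInjective _ (MulEquiv.injective (MulAut.conj g))).toEquiv
  · induction v using QuotientGroup.induction_on with
    | H g =>
      rw [stabilizer_inr]
      exact Finite.of_equiv _ (M₂.equivMapOfInjective _ (MulEquiv.injective (MulAut.conj g))).toEquiv

theorem stabilizer_charP (δ : Cfsg.CosetVertex M₁ M₂) :
    MulAction.stabilizer X δ ⊓ Subgroup.centralizer (Cfsg.vertexQ p δ : Set X) ≤ Cfsg.vertexQ p δ := by
  have key : ∀ (H : Subgroup X) (g : X),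
      H ⊓ Subgroup.centralizer (Cfsg.pCoreOf p H : Set X) ≤ Cfsg.pCoreOf p H →
      conjS g H ⊓ Subgroup.centralizer (Cfsg.pCoreOf p (conjS g H) : Set X) ≤
        Cfsg.pCoreOf p (conjS g H) := by
    intro H g hH
    rw [← conjS_pCoreOf, ← conjS_centralizer, ← conjS_inf]
    exact conjS_mono g hH
  rcases δ with v | v
  · induction v using QuotientGroup.induction_on with
    | H g =>
      unfold Cfsg.vertexQ
      rw [stabilizer_inl]
      exact key M₁ g ((charPCore_iff M₁).1 h.2.2.2.2.2.2.1)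
  · induction v using QuotientGroup.induction_on with
    | H g =>
      unfold Cfsg.vertexQ
      rw [stabilizer_inr]
      exact key M₂ g ((charPCore_iff M₂).1 h.2.2.2.2.2.2.2)

theorem vertexZ_le_vertexQ (δ : Cfsg.CosetVertex M₁ M₂) : Cfsg.vertexZ p δ ≤ Cfsg.vertexQ p δ :=
  sylowCenterClosure_le_pCoreOf (stabilizer_charP h δ)

variable [Fact p.Prime]

theorem base_isSylowOf {T : Subgroup X} (hT : IsSylowOf p T (M₁ ⊓ M₂)) :
    IsSylowOf p T M₁ ∧ IsSylowOf p T M₂ := by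
  obtain ⟨-, hf1, hf2, -, -, hc, -⟩ := h
  obtain ⟨S, hS⟩ := hT.exists_sylow
  obtain ⟨T1, hT1⟩ := exists_isSylowOf p M₁
  obtain ⟨T2, hT2⟩ := exists_isSylowOf p M₂
  obtain ⟨P1, hP1⟩ := hT1.exists_sylow
  obtain ⟨P2, hP2⟩ := hT2.exists_sylow
  have cardT : Nat.card T = Nat.card S := by
    rw [← hS]; exact Subgroup.card_map_of_injective (Subgroup.subtype_injective _)
  have card1 : Nat.card T1 = Nat.card P1 := by
    rw [← hP1]; exact Subgroup.card_map_of_injective (Subgroup.subtype_injective _)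
  have card2 : Nat.card T2 = Nat.card P2 := by
    rw [← hP2]; exact Subgroup.card_map_of_injective (Subgroup.subtype_injective _)
  obtain ⟨c1, c2⟩ := hc S P1 P2
  exact ⟨hT1.of_card (hT.le.trans inf_le_left) hT.isPGroup (by omega),
    hT2.of_card (hT.le.trans inf_le_right) hT.isPGroup (by omega)⟩

theorem edge_isSylowOf {δ μ : Cfsg.CosetVertex M₁ M₂} (hadj : (Cfsg.cosetGraph M₁ M₂).Adj δ μ)
    {T : Subgroup X} (hT : IsSylowOf p T (Cfsg.edgeStabilizer δ μ)) :
    IsSylowOf p T (MulAction.stabilizer X δ) ∧ IsSylowOf p T (MulAction.stabilizer X μ) := by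
  unfold Cfsg.edgeStabilizer at hT
  obtain ⟨x, ⟨e1, e2⟩ | ⟨e1, e2⟩⟩ := adj_iff_exists_conj hadj
  · rw [e1, e2] at hT ⊢
    have h0 := hT.conjS x⁻¹
    rw [conjS_inf, conjS_inv_cancel, conjS_inv_cancel] at h0
    obtain ⟨a, b⟩ := base_isSylowOf h h0
    have a' := a.conjS x; have b' := b.conjS x
    rw [conjS_cancel_inv] at a' b'
    exact ⟨a', b'⟩
  · rw [e1, e2] at hT ⊢
    have h0 := hT.conjS x⁻¹
    rw [conjS_inf, conjS_inv_cancel, conjS_inv_cancel, inf_comm] at h0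
    obtain ⟨a, b⟩ := base_isSylowOf h h0
    have a' := a.conjS x; have b' := b.conjS x
    rw [conjS_cancel_inv] at a' b'
    exact ⟨b', a'⟩

theorem vertexQ_le_neighbourKernel (δ : Cfsg.CosetVertex M₁ M₂) :
    Cfsg.vertexQ p δ ≤ Cfsg.neighbourKernel δ := by
  refine le_inf (pCoreOf_le _) (le_iInf₂ fun μ hμ => ?_)
  obtain ⟨T, hT⟩ := exists_isSylowOf p (Cfsg.edgeStabilizer δ μ)
  exact ((edge_isSylowOf h hμ hT).1.pCoreOf_le).trans (hT.le.trans inf_le_right)

end Cfsg.Agent.Lib.LocalEven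

namespace Cfsg.Agent.Lib.LocalEven

universe v

variable {X : Type v} [Group X] {M₁ M₂ : Subgroup X} {p : ℕ}

theorem neighbourKernel_le_adj {δ μ : Cfsg.CosetVertex M₁ M₂}
    (hadj : (Cfsg.cosetGraph M₁ M₂).Adj δ μ) :
    Cfsg.neighbourKernel δ ≤ MulAction.stabilizer X μ :=
  inf_le_right.trans (iInf₂_le μ hadj)

theorem vertexZ_le_kernel_of_dist_lt {δ μ : Cfsg.CosetVertex M₁ M₂}
    (hd : (Cfsg.cosetGraph M₁ M₂).dist δ μ < Cfsg.criticalDistance p M₁ M₂) :
    Cfsg.vertexZ p δ ≤ Cfsg.neighbourKernel μ := by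
  by_contra hc
  exact Nat.notMem_of_lt_sInf hd ⟨δ, μ, rfl, hc⟩

theorem criticalPair_ne [Fact p.Prime] (h : Cfsg.IsCharPAmalgamPair p M₁ M₂)
    {α α' : Cfsg.CosetVertex M₁ M₂} (hc : Cfsg.IsCriticalPair p α α') : α ≠ α' := by
  rintro rfl
  exact hc.1 ((vertexZ_le_vertexQ h α).trans (vertexQ_le_neighbourKernel h α))

theorem exists_step_of_connected {a b : Cfsg.CosetVertex M₁ M₂}
    (hconn : (Cfsg.cosetGraph M₁ M₂).Connected) (hab : a ≠ b) :
    ∃ c, (Cfsg.cosetGraph M₁ M₂).Adj a c ∧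
      (Cfsg.cosetGraph M₁ M₂).dist c b < (Cfsg.cosetGraph M₁ M₂).dist a b := by
  obtain ⟨w, hw⟩ := hconn.exists_walk_length_eq_dist a b
  cases w with
  | nil => exact absurd rfl hab
  | @cons _ c _ hadj w' =>
    refine ⟨c, hadj, ?_⟩
    rw [← hw, SimpleGraph.Walk.length_cons]
    exact Nat.lt_succ_of_le (SimpleGraph.dist_le w')

end Cfsg.Agent.Lib.LocalEven
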