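import Cfsg.Agent.Lib.LocalEven.Irreducible
import Cfsg.Agent.Lib.Coprime.Action
import Cfsg.Agent.Lib.Cores.Frattini

/-!
The basic property `IsInFrakM` and operators on Frattini quotients.
-/

set_option autoImplicit false

open scoped commutatorElement

namespace Cfsg.Agent.Lib.LocalEven

universe u

variable {G : Type u} [Group G] {p : ℕ}

theorem le_normalizer_frattini {A B : Subgroup G} (h : B ≤ Subgroup.normalizer (A : Set G)) :
    B ≤ Subgroup.normalizer (((frattini ↥A).map A.subtype : Subgroup G) : Set G) := by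
  rw [le_normalizer_iff_forall]
  have key : ∀ g : G, g ∈ B → conjS g ((frattini ↥A).map A.subtype) ≤ (frattini ↥A).map A.subtype := by
    intro g hg x hx
    obtain ⟨y, hy, hyx⟩ := mem_conjS.1 hx
    let e : ↥A ≃* ↥A :=
      { toFun := fun a => ⟨g * a * g⁻¹, (Subgroup.mem_normalizer_iff.1 (h hg) a).1 a.2⟩
        invFun := fun a => ⟨g⁻¹ * a * g, by
          have := (Subgroup.mem_normalizer_iff.1 (inv_mem (h hg)) a).1 a.2
          simpa using this⟩
        left_inv := fun a => Subtype.ext (by simp [mul_assoc])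
        right_inv := fun a => Subtype.ext (by simp [mul_assoc])
        map_mul' := fun a b => Subtype.ext (by simp [mul_assoc]) }
    refine ⟨e y, Cores.map_frattini_le e.toMonoidHom e.surjective (Subgroup.mem_map_of_mem _ hy), ?_⟩
    show g * (y : G) * g⁻¹ = x
    rw [show (y : G) = g⁻¹ * x * g from hyx]
    group
  intro g hg
  refine le_antisymm (key g hg) ?_
  have := conjS_mono g (key g⁻¹ (inv_mem hg))
  rwa [conjS_cancel_inv] at this

/-- The elements of `L` acting on `B` trivially modulo `N`. -/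
def trivialMod (L B N : Subgroup G) (hLN : L ≤ Subgroup.normalizer (N : Set G)) : Subgroup G where
  carrier := {x | x ∈ L ∧ ∀ b ∈ B, ⁅x, b⁆ ∈ N}
  one_mem' := ⟨one_mem _, fun b _ => by simp⟩
  mul_mem' := fun {x y} hx hy => ⟨mul_mem hx.1 hy.1, fun b hb => by
    rw [show ⁅x * y, b⁆ = x * ⁅y, b⁆ * x⁻¹ * ⁅x, b⁆ by simp [commutatorElement_def, mul_assoc]]
    exact mul_mem ((Subgroup.mem_normalizer_iff.1 (hLN hx.1) _).1 (hy.2 b hb)) (hx.2 b hb)⟩
  inv_mem' := fun {x} hx => ⟨inv_mem hx.1, fun b hb => by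
    rw [show ⁅x⁻¹, b⁆ = x⁻¹ * ⁅x, b⁆⁻¹ * x⁻¹⁻¹ by simp [commutatorElement_def, mul_assoc]]
    exact (Subgroup.mem_normalizer_iff.1 (inv_mem (hLN hx.1)) _).1 (inv_mem (hx.2 b hb))⟩

theorem trivialMod_le {L B N : Subgroup G} (hLN : L ≤ Subgroup.normalizer (N : Set G)) :
    trivialMod L B N hLN ≤ L := fun _ hx => hx.1

theorem le_trivialMod {L B N A : Subgroup G} (hLN : L ≤ Subgroup.normalizer (N : Set G))
    (h1 : A ≤ L) (h2 : ⁅A, B⁆ ≤ N) : A ≤ trivialMod L B N hLN :=
  fun _ ha => ⟨h1 ha, fun _ hb => h2 (Subgroup.commutator_mem_commutator ha hb)⟩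

theorem commutator_trivialMod_le {L B N : Subgroup G} (hLN : L ≤ Subgroup.normalizer (N : Set G)) :
    ⁅trivialMod L B N hLN, B⁆ ≤ N :=
  Subgroup.commutator_le.2 fun _ hx b hb => hx.2 b hb

theorem le_normalizer_trivialMod {L B N : Subgroup G} (hLN : L ≤ Subgroup.normalizer (N : Set G))
    (hLB : L ≤ Subgroup.normalizer (B : Set G)) :
    L ≤ Subgroup.normalizer ((trivialMod L B N hLN : Subgroup G) : Set G) := by
  have key : ∀ g ∈ L, conjS g (trivialMod L B N hLN) ≤ trivialMod L B N hLN := by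
    intro g hg x hx
    have hy := mem_conjS.1 hx
    refine ⟨?_, fun b hb => ?_⟩
    · have := mul_mem (mul_mem hg hy.1) (inv_mem hg)
      simpa [mul_assoc] using this
    · have h1 := hy.2 (g⁻¹ * b * g) (by
        simpa using (Subgroup.mem_normalizer_iff.1 (hLB (inv_mem hg)) b).1 hb)
      have h2 := (Subgroup.mem_normalizer_iff.1 (hLN hg) _).1 h1
      convert h2 using 1
      simp [commutatorElement_def, mul_assoc]
  rw [le_normalizer_iff_forall]
  intro g hg
  refine le_antisymm (key g hg) ?_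
  have := conjS_mono g (key g⁻¹ (inv_mem hg))
  rwa [conjS_cancel_inv] at this

theorem pCoreOf_le_pCoreOf_of_normalized {N L : Subgroup G} (hNL : N ≤ L)
    (hn : L ≤ Subgroup.normalizer (N : Set G)) : Cfsg.pCoreOf p N ≤ Cfsg.pCoreOf p L := by
  refine le_pCoreOf ((pCoreOf_le N).trans hNL) ?_ (pCoreOf_isPGroup N)
  rw [le_normalizer_iff_forall]
  intro g hg
  rw [conjS_pCoreOf, conjS_eq_self_iff.2 (hn hg)]

theorem mem_charPSubgroups_iff {L : Subgroup G} : L ∈ Cfsg.charPSubgroups p G ↔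
    Cfsg.pCoreOf p L ≠ ⊥ ∧
      Subgroup.centralizer (Cfsg.pCoreOf p L : Set G) ≤ Cfsg.pCoreOf p L := by
  rw [pCoreOf_ne_bot_iff]
  rfl

theorem le_dagger [Finite G] {M X : Subgroup G} (hM : Cfsg.IsInFrakM p M)
    (hX : X ∈ Cfsg.charPSubgroups p G) (hMX : M ≤ X) :
    X ≤ M ⊔ Subgroup.centralizer (Cfsg.largestPReducedOf p M : Set G) := by
  classical
  haveI : Finite (Subgroup G) := inferInstance
  set s := {Z : Subgroup G | Z ∈ Cfsg.charPSubgroups p G ∧ X ≤ Z} with hs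
  obtain ⟨Z, hZ, hmax⟩ := Set.exists_max_image s (fun Z => Nat.card Z) (Set.toFinite _) ⟨X, hX, le_rfl⟩
  refine hZ.2.trans (hM.2.2.1 Z ⟨hZ.1, fun W hW hle => ?_⟩ (hMX.trans hZ.2)).le
  exact (Subgroup.eq_of_le_of_card_ge hle (hmax W ⟨hW, hZ.2.trans hle⟩)).symm

theorem mem_charPSubgroups_normalizer [Finite G] [Fact p.Prime] {Q : Subgroup G} (h : Cfsg.IsLarge Q)
    (hQ : IsPGroup p Q) (S : Sylow p G) {I : Subgroup G} (hI : IsPGroup p I) (hI1 : I ≠ ⊥)
    (hS : (S : Subgroup G) ≤ Subgroup.normalizer (I : Set G)) :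
    Subgroup.normalizer (I : Set G) ∈ Cfsg.charPSubgroups p G := by
  have hne : Cfsg.pCoreOf p (Subgroup.normalizer (I : Set G)) ≠ ⊥ := fun e =>
    hI1 (le_bot_iff.1 (e ▸ le_pCoreOf Subgroup.le_normalizer le_rfl hI))
  exact mem_charPSubgroups_iff.2 ⟨hne, large_parabolic h hQ ⟨S, hS⟩ hne⟩

end Cfsg.Agent.Lib.LocalEven
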