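import Cfsg.Agent.Lib.LocalEven.WeaklyClosed
import Cfsg.Agent.Lib.LocalEven.FrakM

/-!
Members of `𝔐` whose `Y_M` is asymmetric: `O_p(M)` is weakly closed.
-/

set_option autoImplicit false

open scoped commutatorElement

namespace Cfsg.Agent.Lib.LocalEven

universe u

variable {G : Type u} [Group G] {p : ℕ} [hp : Fact p.Prime] [Finite G]

theorem frakM_dagger_le_normalizer {M : Subgroup G} :
    M ⊔ Subgroup.centralizer (Cfsg.largestPReducedOf p M : Set G) ≤
      Subgroup.normalizer (Cfsg.largestPReducedOf p M : Set G) :=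
  sup_le (largestPReducedOf_redIn M).normal (Subgroup.centralizer_le_normalizer _)

/-- `O_p(M)` is a Sylow subgroup of the centralizer of `Y_M`. -/
theorem frakM_isSylowOf_centralizer (S : Sylow p G) {M : Subgroup G} (hSM : (S : Subgroup G) ≤ M)
    (hM : Cfsg.IsInFrakM p M) :
    IsSylowOf p (Cfsg.pCoreOf p M) (Subgroup.centralizer (Cfsg.largestPReducedOf p M : Set G)) := by
  set Y := Cfsg.largestPReducedOf p M with hY
  set C := Subgroup.centralizer (Y : Set G) with hC
  set O := Cfsg.pCoreOf p M with hO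
  have hYr : RedIn p Y M := largestPReducedOf_redIn M
  have hSs : IsSylowOf p (S : Subgroup G) M := (isSylowOf_top S).mono hSM le_top
  have hcl : Cfsg.IsPClosed p ↥(M ⊓ C) := hM.2.2.2.2.1
  have hnMC : M ≤ Subgroup.normalizer ((M ⊓ C : Subgroup G) : Set G) :=
    le_normalizer_inf Subgroup.le_normalizer (le_normalizer_centralizer hYr.normal)
  have hs : IsSylowOf p ((S : Subgroup G) ⊓ (M ⊓ C)) (M ⊓ C) := hSs.inf_normal inf_le_left hnMC
  have h1 : (S : Subgroup G) ⊓ (M ⊓ C) ≤ O := by
    obtain ⟨P, hP⟩ := hs.exists_sylow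
    have hPn : (P : Subgroup ↥(M ⊓ C)).Normal := hcl P
    rw [← hP]
    refine le_trans ?_ (le_pCoreOf (N := Cfsg.pCoreOf p (M ⊓ C)) (H := M)
      ((pCoreOf_le _).trans inf_le_left) ?_ (pCoreOf_isPGroup _))
    · exact Subgroup.map_mono (le_pCore hPn P.isPGroup')
    · rw [le_normalizer_iff_forall]
      intro g hg
      rw [conjS_pCoreOf, conjS_eq_self_iff.2 (hnMC hg)]
  have hOeq : O = (S : Subgroup G) ⊓ C :=
    le_antisymm (le_inf hSs.pCoreOf_le hYr.pCoreOf_le_centralizer)
      (le_trans (le_inf inf_le_left (le_inf (inf_le_left.trans hSM) inf_le_right)) h1)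
  rw [hOeq]
  have hSK : IsSylowOf p (S : Subgroup G) (M ⊔ C) :=
    (isSylowOf_top S).mono (hSM.trans le_sup_left) le_top
  exact hSK.inf_normal le_sup_right
    (le_normalizer_centralizer frakM_dagger_le_normalizer)

theorem frakM_normalizer_pCoreOf_le (S : Sylow p G) {Q M : Subgroup G} (hQ : Cfsg.IsLarge Q)
    (hQp : IsPGroup p Q) (hSM : (S : Subgroup G) ≤ M) (hM : Cfsg.IsInFrakM p M) :
    Subgroup.normalizer (Cfsg.pCoreOf p M : Set G) ≤
      M ⊔ Subgroup.centralizer (Cfsg.largestPReducedOf p M : Set G) :=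
  le_dagger hM (mem_charPSubgroups_normalizer hQ hQp S (pCoreOf_isPGroup M)
    (mem_charPSubgroups_iff.1 hM.1).1 (hSM.trans (le_normalizer_pCoreOf M))) (le_normalizer_pCoreOf M)

theorem asym_normalizer_le_of_le_dagger (S : Sylow p G) {Q M R : Subgroup G} (hQ : Cfsg.IsLarge Q)
    (hQp : IsPGroup p Q) (hSM : (S : Subgroup G) ≤ M) (hM : Cfsg.IsInFrakM p M)
    (hasym : ¬ Cfsg.IsSymmetricIn (Cfsg.largestPReducedOf p M)) (hR : IsPGroup p R)
    (hOR : Cfsg.pCoreOf p M ≤ R)
    (hRK : R ≤ M ⊔ Subgroup.centralizer (Cfsg.largestPReducedOf p M : Set G)) :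
    Subgroup.normalizer (R : Set G) ≤ Subgroup.normalizer (Cfsg.pCoreOf p M : Set G) := by
  set Y := Cfsg.largestPReducedOf p M with hY
  set C := Subgroup.centralizer (Y : Set G) with hC
  set O := Cfsg.pCoreOf p M with hO
  set K := M ⊔ C with hK
  have hYr : RedIn p Y M := largestPReducedOf_redIn M
  have hKY : K ≤ Subgroup.normalizer (Y : Set G) := frakM_dagger_le_normalizer
  have hsC : IsSylowOf p O C := frakM_isSylowOf_centralizer S hSM hM
  have hRC : R ⊓ C = O := hsC.eq_of_le inf_le_right hR.to_inf_left (le_inf hOR hsC.le)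
  suffices hNK : Subgroup.normalizer (R : Set G) ≤ K by
    intro n hn
    rw [← conjS_eq_self_iff, ← hRC, conjS_inf, conjS_eq_self_iff.2 hn,
      conjS_eq_self_iff.2 (le_normalizer_centralizer hKY (hNK hn))]
  by_cases hY1 : Y = ⊥
  · intro n _
    refine le_sup_right (a := M) ?_
    rw [hC, hY1, Subgroup.mem_centralizer_iff]
    intro y hy
    rw [Subgroup.mem_bot.1 hy, one_mul, mul_one]
  set s : Set G := (M : Set G) ∪ (Subgroup.normalizer (R : Set G) : Set G) with hs
  have hsinv : ∀ a ∈ s, a⁻¹ ∈ s := by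
    rintro a (ha | ha)
    · exact Or.inl (M.inv_mem ha)
    · exact Or.inr ((Subgroup.normalizer (R : Set G)).inv_mem ha)
  have key : ∀ k, ∀ l : List G, l.length ≤ k → (∀ a ∈ l, a ∈ s) → conjS l.prod Y ≤ O := by
    intro k
    induction k with
    | zero =>
      intro l hl _
      rw [List.length_eq_zero_iff.1 (Nat.le_zero.1 hl), List.prod_nil, conjS_one]
      exact hYr.le_pCoreOf
    | succ k ih =>
      have hstep : ∀ l : List G, l.length ≤ k + 1 → (∀ a ∈ l, a ∈ s) → conjS l.prod Y ≤ R := by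
        rintro (_ | ⟨a, t⟩) hl hl'
        · rw [List.prod_nil, conjS_one]
          exact hYr.le_pCoreOf.trans hOR
        · rw [List.prod_cons, conjS_mul]
          refine (conjS_mono a (ih t (by simpa using hl) fun b hb => hl' b (List.mem_cons_of_mem _ hb))).trans ?_
          rcases hl' a (List.mem_cons_self ..) with ha | ha
          · exact (conjS_eq_self_iff.2 (le_normalizer_pCoreOf M ha)).le.trans hOR
          · exact (conjS_mono a hOR).trans (conjS_eq_self_iff.2 ha).le
      intro l hl hl'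
      have h1 := hstep l hl hl'
      have h2 : conjS (l.prod)⁻¹ Y ≤ R := by
        rw [List.prod_inv_reverse]
        refine hstep _ (by simpa using hl) fun a ha => ?_
        simp only [List.mem_reverse, List.mem_map] at ha
        obtain ⟨b, hb, rfl⟩ := ha
        exact hsinv b (hl' b hb)
      have h3 : Y ≤ Subgroup.normalizer (conjS l.prod Y : Set G) := by
        have := conjS_mono l.prod (h2.trans (hRK.trans hKY))
        rwa [conjS_cancel_inv, conjS_normalizer] at this
      have h4 : ⁅Y, conjS l.prod Y⁆ = ⊥ := by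
        by_contra hne
        exact hasym ⟨l.prod, hne, le_inf (commutator_le_of_le_normalizer (h1.trans (hRK.trans hKY)))
          (commutator_le_of_le_normalizer' h3)⟩
      refine le_trans (le_inf h1 ?_) hRC.le
      rw [hC, le_centralizer_iff_commutator, Subgroup.commutator_comm]
      exact h4
  have hlist : ∀ g ∈ Subgroup.closure s, ∃ l : List G, (∀ a ∈ l, a ∈ s) ∧ g = l.prod := by
    intro g hg
    induction hg using Subgroup.closure_induction with
    | mem x hx => exact ⟨[x], by simpa using hx, by simp⟩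
    | one => exact ⟨[], by simp, by simp⟩
    | mul x y _ _ ihx ihy =>
      obtain ⟨a, ha, rfl⟩ := ihx
      obtain ⟨b, hb, rfl⟩ := ihy
      refine ⟨a ++ b, fun z hz => ?_, by simp⟩
      rcases List.mem_append.1 hz with h | h
      · exact ha z h
      · exact hb z h
    | inv x _ ihx =>
      obtain ⟨a, ha, rfl⟩ := ihx
      refine ⟨(a.map fun z => z⁻¹).reverse, fun z hz => ?_, List.prod_inv_reverse a⟩
      simp only [List.mem_reverse, List.mem_map] at hz
      obtain ⟨b, hb, rfl⟩ := hz
      exact hsinv b (ha b hb)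
  set V : Subgroup G := ⨆ g : Subgroup.closure s, conjS (g : G) Y with hV
  have hVO : V ≤ O := iSup_le fun g => by
    obtain ⟨l, hl, e⟩ := hlist g g.2
    rw [e]
    exact key l.length l le_rfl hl
  have hYV : Y ≤ V := by
    refine le_trans (conjS_one Y).ge ?_
    exact le_iSup (fun g : Subgroup.closure s => conjS (g : G) Y) 1
  have hVn : Subgroup.closure s ≤ Subgroup.normalizer (V : Set G) := by
    rw [le_normalizer_iff_forall]
    have hle : ∀ a ∈ Subgroup.closure s, conjS a V ≤ V := by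
      intro a ha
      rw [hV, conjS_iSup]
      refine iSup_le fun g => ?_
      rw [← conjS_mul]
      exact le_iSup (fun g : Subgroup.closure s => conjS (g : G) Y) ⟨a * g, mul_mem ha g.2⟩
    intro a ha
    refine le_antisymm (hle a ha) ?_
    have := conjS_mono a (hle a⁻¹ (inv_mem ha))
    rwa [conjS_cancel_inv] at this
  have hMV : M ≤ Subgroup.normalizer (V : Set G) :=
    fun x hx => hVn (Subgroup.subset_closure (Or.inl hx))
  have hch := mem_charPSubgroups_normalizer hQ hQp S ((pCoreOf_isPGroup (p := p) M).to_le hVO)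
    (fun e => hY1 (le_bot_iff.1 (e ▸ hYV))) (hSM.trans hMV)
  exact fun n hn => le_dagger hM hch hMV (hVn (Subgroup.subset_closure (Or.inr hn)))

theorem asym_le_normalizer_pCoreOf (S : Sylow p G) {Q M R : Subgroup G} (hQ : Cfsg.IsLarge Q)
    (hQp : IsPGroup p Q) (hSM : (S : Subgroup G) ≤ M) (hM : Cfsg.IsInFrakM p M)
    (hasym : ¬ Cfsg.IsSymmetricIn (Cfsg.largestPReducedOf p M)) (hR : IsPGroup p R)
    (hOR : Cfsg.pCoreOf p M ≤ R) : R ≤ Subgroup.normalizer (Cfsg.pCoreOf p M : Set G) := by
  set O := Cfsg.pCoreOf p M with hO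
  by_contra hne
  haveI : Group.IsNilpotent R := hR.isNilpotent
  set R1 := R ⊓ Subgroup.normalizer (O : Set G) with hR1
  have hlt : R1.subgroupOf R < ⊤ := lt_top_iff_ne_top.2 fun e =>
    hne ((Subgroup.subgroupOf_eq_top.1 e).trans inf_le_right)
  obtain ⟨x, hx, hxn⟩ := SetLike.exists_of_lt (Group.normalizerCondition_of_isNilpotent _ hlt)
  have hxR1 : (x : G) ∈ Subgroup.normalizer (R1 : Set G) := by
    rw [Subgroup.mem_normalizer_iff]
    intro y
    by_cases hy : y ∈ R
    · exact Subgroup.mem_normalizer_iff.1 hx ⟨y, hy⟩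
    · constructor
      · exact fun hy' => absurd (Subgroup.mem_inf.1 hy').1 hy
      · intro hy'
        refine absurd ?_ hy
        have := mul_mem (mul_mem (inv_mem x.2) (Subgroup.mem_inf.1 hy').1) x.2
        simpa [mul_assoc] using this
  refine hxn (Subgroup.mem_subgroupOf.2 (Subgroup.mem_inf.2 ⟨x.2, ?_⟩))
  exact asym_normalizer_le_of_le_dagger S hQ hQp hSM hM hasym hR.to_inf_left
    (le_inf hOR Subgroup.le_normalizer)
    (inf_le_right.trans (frakM_normalizer_pCoreOf_le S hQ hQp hSM hM)) hxR1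

theorem asym_normalizer_le (S : Sylow p G) {Q M R : Subgroup G} (hQ : Cfsg.IsLarge Q)
    (hQp : IsPGroup p Q) (hSM : (S : Subgroup G) ≤ M) (hM : Cfsg.IsInFrakM p M)
    (hasym : ¬ Cfsg.IsSymmetricIn (Cfsg.largestPReducedOf p M)) (hR : IsPGroup p R)
    (hOR : Cfsg.pCoreOf p M ≤ R) :
    Subgroup.normalizer (R : Set G) ≤ Subgroup.normalizer (Cfsg.pCoreOf p M : Set G) :=
  asym_normalizer_le_of_le_dagger S hQ hQp hSM hM hasym hR hOR
    ((asym_le_normalizer_pCoreOf S hQ hQp hSM hM hasym hR hOR).trans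
      (frakM_normalizer_pCoreOf_le S hQ hQp hSM hM))

theorem asym_wc (S : Sylow p G) {Q M : Subgroup G} (hQ : Cfsg.IsLarge Q)
    (hQp : IsPGroup p Q) (hSM : (S : Subgroup G) ≤ M) (hM : Cfsg.IsInFrakM p M)
    (hasym : ¬ Cfsg.IsSymmetricIn (Cfsg.largestPReducedOf p M)) : Wc p (Cfsg.pCoreOf p M) :=
  wc_of_normalizer (pCoreOf_isPGroup M) fun _ hR hOR => asym_normalizer_le S hQ hQp hSM hM hasym hR hOR

end Cfsg.Agent.Lib.LocalEven
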