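import Cfsg.Agent.Lib.LocalEven.AmalgamP
import Cfsg.Agent.Lib.LocalEven.Asymmetric
import Cfsg.Agent.S2750

/-!
`V_δ^{(n)}` is never acted on trivially modulo a subgroup of `V_μ^{(n-1)}`.
-/

set_option autoImplicit false

open scoped commutatorElement

namespace Cfsg.Agent.Lib.LocalEven

universe u

variable {X : Type u} [Group X] {M₁ M₂ : Subgroup X} {p : ℕ}

theorem dist_smul_le (hconn : (Cfsg.cosetGraph M₁ M₂).Connected) (g : X) (a b : Cfsg.CosetVertex M₁ M₂) :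
    (Cfsg.cosetGraph M₁ M₂).dist (g • a) (g • b) ≤ (Cfsg.cosetGraph M₁ M₂).dist a b := by
  obtain ⟨w, hw⟩ := hconn.exists_walk_length_eq_dist a b
  rw [← hw]
  refine (SimpleGraph.dist_le (w.map (translateIso M₁ M₂ g).toHom)).trans ?_
  exact (SimpleGraph.Walk.length_map _ _).le

theorem conjS_stabilizer (g : X) (v : Cfsg.CosetVertex M₁ M₂) :
    conjS g (MulAction.stabilizer X v) = MulAction.stabilizer X (g • v) :=
  (MulAction.stabilizer_smul_eq_stabilizer_map_conj g v).symm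

theorem conjS_sylowCenterClosure_le (g : X) (H : Subgroup X) :
    conjS g (Cfsg.sylowCenterClosure p H) ≤ Cfsg.sylowCenterClosure p (conjS g H) := by
  rw [sylowCenterClosure_eq, conjS_iSup]
  refine iSup_le fun T => ?_
  rw [conjS_omZ]
  exact omZ_le_sylowCenterClosure (T.2.conjS g)

theorem vertexVIter_conj_le (hconn : (Cfsg.cosetGraph M₁ M₂).Connected) (g : X) (n : ℕ)
    (v : Cfsg.CosetVertex M₁ M₂) :
    conjS g (Cfsg.vertexVIter p M₁ M₂ n v) ≤ Cfsg.vertexVIter p M₁ M₂ n (g • v) := by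
  rw [Cfsg.vertexVIter, conjS_iSup]
  refine iSup_le fun ρ => (conjS_sylowCenterClosure_le g _).trans ?_
  rw [conjS_stabilizer]
  exact le_iSup (fun ρ : {ρ : Cfsg.CosetVertex M₁ M₂ // (Cfsg.cosetGraph M₁ M₂).dist (g • v) ρ ≤ n} =>
    Cfsg.vertexZ p (ρ : Cfsg.CosetVertex M₁ M₂)) ⟨g • (ρ : Cfsg.CosetVertex M₁ M₂), (dist_smul_le hconn g v ρ).trans ρ.2⟩

theorem stabilizer_le_normalizer_vertexVIter (hconn : (Cfsg.cosetGraph M₁ M₂).Connected) (n : ℕ)
    (v : Cfsg.CosetVertex M₁ M₂) :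
    MulAction.stabilizer X v ≤ Subgroup.normalizer ((Cfsg.vertexVIter p M₁ M₂ n v : Subgroup X) : Set X) := by
  rw [le_normalizer_iff_forall]
  have key : ∀ g ∈ MulAction.stabilizer X v,
      conjS g (Cfsg.vertexVIter p M₁ M₂ n v) ≤ Cfsg.vertexVIter p M₁ M₂ n v := by
    intro g hg
    have := vertexVIter_conj_le (p := p) hconn g n v
    rwa [MulAction.mem_stabilizer_iff.1 hg] at this
  intro g hg
  refine le_antisymm (key g hg) ?_
  have := conjS_mono g (key g⁻¹ (inv_mem hg))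
  rwa [conjS_cancel_inv] at this

theorem vertexZ_le_vertexVIter (hconn : (Cfsg.cosetGraph M₁ M₂).Connected) {n : ℕ}
    {v ρ : Cfsg.CosetVertex M₁ M₂} (h : (Cfsg.cosetGraph M₁ M₂).dist v ρ ≤ n) :
    Cfsg.vertexZ p ρ ≤ Cfsg.vertexVIter p M₁ M₂ n v :=
  le_iSup (fun ρ : {ρ : Cfsg.CosetVertex M₁ M₂ // (Cfsg.cosetGraph M₁ M₂).dist v ρ ≤ n} =>
    Cfsg.vertexZ p (ρ : Cfsg.CosetVertex M₁ M₂)) ⟨ρ, h⟩

variable [Fact p.Prime]

theorem vertexZ_ne_bot (h : Cfsg.IsCharPAmalgamPair p M₁ M₂) (v : Cfsg.CosetVertex M₁ M₂) :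
    Cfsg.vertexZ p v ≠ ⊥ := by
  obtain ⟨w, hw⟩ := exists_neighbour v
  have hne : MulAction.stabilizer X v ≠ ⊥ := by
    intro e
    have hM : ∀ (Mi : Subgroup X) (x : X), conjS x Mi = ⊥ → p ∣ Nat.card Mi → False := by
      intro Mi x e hd
      rw [← card_conjS x, e, Subgroup.card_bot] at hd
      exact (Fact.out : p.Prime).not_dvd_one hd
    obtain ⟨x, ⟨e1, -⟩ | ⟨e1, -⟩⟩ := adj_iff_exists_conj hw
    · exact hM M₁ x (e1.symm.trans e) h.2.2.2.1
    · exact hM M₂ x (e1.symm.trans e) h.2.2.2.2.1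
  have := stabilizer_finite h v
  have hQ : Cfsg.vertexQ p v ≠ ⊥ := by
    intro e
    refine hne (le_bot_iff.1 ?_)
    have := stabilizer_charP h v
    rw [e] at this
    refine le_trans (le_inf le_rfl ?_) this
    intro y _
    rw [Subgroup.mem_centralizer_iff]
    intro b hb
    rw [Subgroup.mem_bot.1 hb, one_mul, mul_one]
  obtain ⟨T, hT⟩ := exists_isSylowOf p (MulAction.stabilizer X v)
  haveI : Finite T := Finite.of_injective _ (Subgroup.inclusion_injective hT.le)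
  have hnt : Nontrivial T := (Subgroup.nontrivial_iff_ne_bot T).2 fun e =>
    hQ (le_bot_iff.1 (hT.pCoreOf_le.trans e.le))
  haveI := hT.isPGroup.center_nontrivial
  obtain ⟨c, hc⟩ := exists_ne (1 : Subgroup.center T)
  obtain ⟨k, hk⟩ := hT.isPGroup (c : T)
  have hcc : ∀ j, ((c : T) : X) ^ j ∈ T ⊓ Subgroup.centralizer (T : Set X) := fun j =>
    pow_mem (Subgroup.mem_inf.2 ⟨(c : T).2, Subgroup.mem_centralizer_iff.2 fun t ht =>
      congrArg Subtype.val (Subgroup.mem_center_iff.1 c.2 ⟨t, ht⟩)⟩) j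
  -- an element of order `p` in the centre
  have hne1 : ((c : T) : X) ≠ 1 := fun e => hc (Subtype.ext (Subtype.ext e))
  have hex : ∃ j, ((c : T) : X) ^ p ^ j = 1 := ⟨k, congrArg Subtype.val hk⟩
  classical
  have hj := Nat.find_spec hex
  have hj0 : Nat.find hex ≠ 0 := fun e => hne1 (by rw [e, pow_zero, pow_one] at hj; exact hj)
  obtain ⟨j, hjj⟩ := Nat.exists_eq_succ_of_ne_zero hj0
  intro e
  refine Nat.find_min hex (hjj ▸ Nat.lt_succ_self j : j < Nat.find hex) (Subgroup.mem_bot.1 (e ▸ ?_))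
  refine omZ_le_sylowCenterClosure hT (Subgroup.subset_closure ⟨hcc _, ?_⟩)
  rw [← pow_mul, ← pow_succ, ← Nat.succ_eq_add_one, ← hjj]
  exact hj

/-- The common argument: no `U ≤ V_μ^{(n)}` has `[V_λ^{(n+1)}, O^p(L_λ)]` inside it. -/
theorem not_commutator_le (h : Cfsg.IsSpeAmalgamPair p M₁ M₂) {lam mu : Cfsg.CosetVertex M₁ M₂}
    (hadj : (Cfsg.cosetGraph M₁ M₂).Adj lam mu) (n : ℕ)
    (hVQ : Cfsg.vertexVIter p M₁ M₂ (n + 1) lam ≤ Cfsg.vertexQ p lam) :
    ¬ ⁅Cfsg.vertexVIter p M₁ M₂ (n + 1) lam, pResOf p (Cfsg.pElementClosure p (MulAction.stabilizer X lam))⁆ ≤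
      Cfsg.vertexVIter p M₁ M₂ n mu := by
  intro hc
  have hch := h.1
  have hconn := cosetGraph_connected hch.1.1
  set V := Cfsg.vertexVIter p M₁ M₂ (n + 1) lam with hV
  set W := Cfsg.vertexVIter p M₁ M₂ n mu with hW
  set L := Cfsg.pElementClosure p (MulAction.stabilizer X lam) with hL
  have hfin := stabilizer_finite hch lam
  haveI : Finite L := Finite.of_injective _ (Subgroup.inclusion_injective (pElementClosure_le _))
  obtain ⟨T, hT⟩ := exists_isSylowOf p (Cfsg.edgeStabilizer lam mu)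
  obtain ⟨hTl, hTm⟩ := edge_isSylowOf hch hadj hT
  obtain ⟨S, hS⟩ := hT.exists_sylow
  have hWV : W ≤ V := iSup_le fun ρ => vertexZ_le_vertexVIter hconn <| by
    have := hconn.dist_triangle (u := lam) (v := mu) (w := (ρ : Cfsg.CosetVertex M₁ M₂))
    have h1 : (Cfsg.cosetGraph M₁ M₂).dist lam mu = 1 := SimpleGraph.dist_eq_one_iff_adj.2 hadj
    have h2 := ρ.2
    omega
  have hWT : W ≤ T := hWV.trans (hVQ.trans hTl.pCoreOf_le)
  have hTW : T ≤ Subgroup.normalizer (W : Set X) := hTm.le.trans (stabilizer_le_normalizer_vertexVIter hconn n mu)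
  have hTL : T ≤ L := le_pElementClosure hTl.le hTl.isPGroup
  have hTL' : IsSylowOf p T L := hTl.mono hTL (pElementClosure_le _)
  have hLW : L ≤ Subgroup.normalizer (W : Set X) := by
    refine (pResOf_sup_sylow hTL').ge.trans (sup_le ?_ hTW)
    exact le_normalizer_of_commutator_le ((Subgroup.commutator_mono hWV le_rfl).trans hc)
  have hWbot := Cfsg.Agent.S2750.result M₁ M₂ h lam mu hadj S T hS.symm W hWT hLW
    ((pElementClosure_le _).trans (stabilizer_le_normalizer_vertexVIter hconn n mu))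
  refine vertexZ_ne_bot hch mu (le_bot_iff.1 ?_)
  rw [← hWbot]
  exact vertexZ_le_vertexVIter hconn (by rw [SimpleGraph.dist_self]; exact Nat.zero_le n)

theorem normalizer_le_adj (h : Cfsg.IsSpeAmalgamPair p M₁ M₂) {lam mu : Cfsg.CosetVertex M₁ M₂}
    (hadj : (Cfsg.cosetGraph M₁ M₂).Adj lam mu) {T : Subgroup X}
    (hTe : IsSylowOf p T (Cfsg.edgeStabilizer lam mu)) :
    MulAction.stabilizer X lam ⊓ Subgroup.normalizer (T : Set X) ≤ MulAction.stabilizer X mu := by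
  obtain ⟨-, hnorm, -, -⟩ := h
  have base : ∀ T0 : Subgroup X, IsSylowOf p T0 (M₁ ⊓ M₂) →
      M₁ ⊓ Subgroup.normalizer (T0 : Set X) ≤ M₂ ∧ M₂ ⊓ Subgroup.normalizer (T0 : Set X) ≤ M₁ := by
    intro T0 hT0
    obtain ⟨S0, hS0⟩ := hT0.exists_sylow
    obtain ⟨a, b⟩ := hnorm S0
    rw [hS0] at a b
    exact ⟨b.trans inf_le_right, (a ▸ b).trans inf_le_left⟩
  unfold Cfsg.edgeStabilizer at hTe
  obtain ⟨x, ⟨e1, e2⟩ | ⟨e1, e2⟩⟩ := adj_iff_exists_conj hadj <;> rw [e1, e2] at hTe ⊢ <;>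
    have h0 := hTe.conjS x⁻¹ <;> rw [conjS_inf, conjS_inv_cancel, conjS_inv_cancel] at h0
  · have a' := conjS_mono x (base _ h0).1
    rwa [conjS_inf, conjS_normalizer, conjS_cancel_inv] at a'
  · rw [inf_comm] at h0
    have b' := conjS_mono x (base _ h0).2
    rwa [conjS_inf, conjS_normalizer, conjS_cancel_inv] at b'

theorem le_of_nilpotent_step {V W O : Subgroup X} [Finite ↥(V ⊔ O)]
    (hVO : IsPGroup p ↥(V ⊔ O)) (hW : V ⊔ O ≤ Subgroup.normalizer (W : Set X))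
    (h : V ≤ W ⊔ ⁅V, O⁆) : V ≤ W := by
  haveI := hVO.isNilpotent
  obtain ⟨n, hn⟩ := (Subgroup.isNilpotent_iff_lowerCentralSeries (V ⊔ O)).1 inferInstance
  suffices hs : ∀ n, V ≤ W ⊔ (V ⊔ O).lowerCentralSeries n by
    have := hs n
    rwa [hn, sup_bot_eq] at this
  intro n
  induction n with
  | zero => exact le_sup_left.trans le_sup_right
  | succ n ih =>
    have hWn : V ⊔ O ≤ Subgroup.normalizer ((W ⊔ (V ⊔ O).lowerCentralSeries (n + 1) : Subgroup X) : Set X) :=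
      le_normalizer_sup hW (Subgroup.self_le_normalizer_lowerCentralSeries _ _)
    refine h.trans (sup_le le_sup_left ?_)
    refine (Subgroup.commutator_mono ih (le_sup_right : O ≤ V ⊔ O)).trans (commutator_sup_le ?_ ?_ ?_ ?_)
    · exact le_sup_left.trans Subgroup.le_normalizer
    · exact (Subgroup.lowerCentralSeries_antitone _ (Nat.zero_le n)).trans hWn
    · exact (commutator_le_of_le_normalizer hW).trans le_sup_left
    · exact (le_of_eq (Subgroup.lowerCentralSeries_succ (V ⊔ O) n).symm).trans le_sup_right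

end Cfsg.Agent.Lib.LocalEven
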