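import Mathlib.GroupTheory.Sylow
import Mathlib.GroupTheory.Subgroup.Centralizer
import Mathlib.GroupTheory.Commutator.Basic
import Cfsg.Prelude.Def_Amalgam

/-!
Basic facts about `pCore`, `pCoreOf`, `pResidual`, `pElementClosure` and Sylow subgroups of subgroups,
used by the local analysis statements.
-/

set_option autoImplicit false

namespace Cfsg.Agent.Lib.LocalEven

open scoped commutatorElement

universe u

variable {G : Type u} [Group G] {p : ℕ}

/-! ### Conjugation of subgroups -/

/-- The conjugate `g H g⁻¹`. -/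
def conjS (g : G) (H : Subgroup G) : Subgroup G := H.map (MulAut.conj g).toMonoidHom

theorem map_conj_eq (g : G) (H : Subgroup G) : H.map (MulAut.conj g).toMonoidHom = conjS g H := rfl

theorem mem_conjS {g x : G} {H : Subgroup G} : x ∈ conjS g H ↔ g⁻¹ * x * g ∈ H := by
  rw [conjS, Subgroup.mem_map_equiv]; simp [MulAut.conj_symm_apply]

theorem conj_mem_conjS {g x : G} {H : Subgroup G} (hx : x ∈ H) : g * x * g⁻¹ ∈ conjS g H := by
  rw [mem_conjS]; simpa [mul_assoc] using hx

theorem conjS_one (H : Subgroup G) : conjS 1 H = H := by ext; simp [mem_conjS]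

theorem conjS_mul (a b : G) (H : Subgroup G) : conjS (a * b) H = conjS a (conjS b H) := by
  ext; simp [mem_conjS, mul_assoc]

theorem conjS_mono (g : G) {H K : Subgroup G} (h : H ≤ K) : conjS g H ≤ conjS g K :=
  Subgroup.map_mono h

theorem conjS_inv_cancel (g : G) (H : Subgroup G) : conjS g⁻¹ (conjS g H) = H := by
  rw [← conjS_mul, inv_mul_cancel, conjS_one]

theorem conjS_cancel_inv (g : G) (H : Subgroup G) : conjS g (conjS g⁻¹ H) = H := by
  rw [← conjS_mul, mul_inv_cancel, conjS_one]

theorem conjS_le_iff {g : G} {H K : Subgroup G} : conjS g H ≤ conjS g K ↔ H ≤ K :=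
  Subgroup.map_le_map_iff_of_injective (MulEquiv.injective _)

theorem card_conjS (g : G) (H : Subgroup G) : Nat.card (conjS g H) = Nat.card H :=
  (Nat.card_congr (H.equivMapOfInjective _ (MulEquiv.injective _)).toEquiv).symm

theorem conjS_eq_self_iff {g : G} {H : Subgroup G} :
    conjS g H = H ↔ g ∈ Subgroup.normalizer (H : Set G) := by
  constructor
  · intro h
    rw [Subgroup.mem_normalizer_iff]
    intro x
    constructor
    · intro hx
      have := conj_mem_conjS (g := g) hx
      rwa [h] at this
    · intro hx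
      rw [← h, mem_conjS] at hx
      simpa [mul_assoc] using hx
  · intro h
    ext x
    rw [mem_conjS, Subgroup.mem_normalizer_iff.1 h (g⁻¹ * x * g)]
    simp [mul_assoc]

theorem conjS_mem_eq_self {g : G} {H : Subgroup G} (h : g ∈ H) : conjS g H = H :=
  conjS_eq_self_iff.2 (Subgroup.le_normalizer h)

theorem le_normalizer_iff_forall {H K : Subgroup G} :
    K ≤ Subgroup.normalizer (H : Set G) ↔ ∀ k ∈ K, conjS k H = H := by
  simp [conjS_eq_self_iff, SetLike.le_def]

theorem conjS_inf (g : G) (H K : Subgroup G) : conjS g (H ⊓ K) = conjS g H ⊓ conjS g K :=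
  Subgroup.map_inf_eq _ _ _ (MulEquiv.injective _)

theorem conjS_sup (g : G) (H K : Subgroup G) : conjS g (H ⊔ K) = conjS g H ⊔ conjS g K :=
  Subgroup.map_sup _ _ _

theorem conjS_commutator (g : G) (H K : Subgroup G) : conjS g ⁅H, K⁆ = ⁅conjS g H, conjS g K⁆ :=
  Subgroup.map_commutator _ _ _

theorem conjS_centralizer (g : G) (H : Subgroup G) :
    conjS g (Subgroup.centralizer (H : Set G)) = Subgroup.centralizer (conjS g H : Set G) := by
  ext x
  simp only [mem_conjS, Subgroup.mem_centralizer_iff, SetLike.mem_coe]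
  constructor
  · intro h y hy
    have := h _ hy
    have h2 := congrArg (fun t => g * t * g⁻¹) this
    simpa [mul_assoc] using h2
  · intro h y hy
    have := h (g * y * g⁻¹) (by simpa [mul_assoc] using hy)
    have h2 := congrArg (fun t => g⁻¹ * t * g) this
    simpa [mul_assoc] using h2

theorem conjS_normalizer (g : G) (H : Subgroup G) :
    conjS g (Subgroup.normalizer (H : Set G)) = Subgroup.normalizer (conjS g H : Set G) := by
  ext x
  rw [mem_conjS, ← conjS_eq_self_iff, ← conjS_eq_self_iff, ← conjS_mul]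
  constructor
  · intro h
    have := congrArg (conjS g) h
    rw [← conjS_mul] at this
    rw [← this]; congr 1; group
  · intro h
    have := congrArg (conjS g⁻¹) h
    rw [← conjS_mul, conjS_inv_cancel] at this
    rw [← this]; congr 1; group

theorem normal_of_conjS_le {H : Subgroup G} (h : ∀ g : G, conjS g H ≤ H) : H.Normal :=
  ⟨fun _ hx g => h g (conj_mem_conjS hx)⟩

theorem conjS_normal (g : G) (H : Subgroup G) [hn : H.Normal] : conjS g H = H :=
  conjS_eq_self_iff.2 (by rw [Subgroup.normalizer_eq_top]; trivial)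

theorem normal_of_le_normalizer {H : Subgroup G} (h : (⊤ : Subgroup G) ≤ Subgroup.normalizer (H : Set G)) :
    H.Normal :=
  Subgroup.normalizer_eq_top_iff.1 (top_le_iff.1 h)

theorem normal_top_le_normalizer {H : Subgroup G} (hn : H.Normal) :
    (⊤ : Subgroup G) ≤ Subgroup.normalizer (H : Set G) :=
  (Subgroup.normalizer_eq_top_iff.2 hn).ge

theorem le_normalizer_of_normal (K H : Subgroup G) [hn : H.Normal] :
    K ≤ Subgroup.normalizer (H : Set G) :=
  le_trans le_top (normal_top_le_normalizer hn)

theorem subgroupOf_normal_of_le {H K : Subgroup G} (h : K ≤ Subgroup.normalizer (H : Set G)) :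
    (H.subgroupOf K).Normal := by
  constructor
  intro n hn g
  have := (Subgroup.mem_normalizer_iff.1 (h g.2) (n : G)).1 hn
  simpa [Subgroup.mem_subgroupOf] using this

theorem le_normalizer_of_subgroupOf_normal {H K : Subgroup G} (hHK : H ≤ K)
    (hn : (H.subgroupOf K).Normal) : K ≤ Subgroup.normalizer (H : Set G) :=
  (Subgroup.normal_subgroupOf_iff_le_normalizer hHK).1 hn

theorem map_subtype_le_normalizer {H : Subgroup G} (N : Subgroup H) [hn : N.Normal] :
    H ≤ Subgroup.normalizer ((N.map H.subtype : Subgroup G) : Set G) := by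
  refine le_normalizer_of_subgroupOf_normal (Subgroup.map_subtype_le N) ?_
  convert hn
  exact Subgroup.comap_map_eq_self_of_injective H.subtype_injective N

/-- If `A` and `B` both normalize `H`, `K`, they normalize the meet. -/
theorem le_normalizer_inf {A H K : Subgroup G} (h1 : A ≤ Subgroup.normalizer (H : Set G))
    (h2 : A ≤ Subgroup.normalizer (K : Set G)) :
    A ≤ Subgroup.normalizer ((H ⊓ K : Subgroup G) : Set G) := by
  rw [le_normalizer_iff_forall] at *
  intro a ha; rw [conjS_inf, h1 a ha, h2 a ha]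

theorem le_normalizer_sup {A H K : Subgroup G} (h1 : A ≤ Subgroup.normalizer (H : Set G))
    (h2 : A ≤ Subgroup.normalizer (K : Set G)) :
    A ≤ Subgroup.normalizer ((H ⊔ K : Subgroup G) : Set G) := by
  rw [le_normalizer_iff_forall] at *
  intro a ha; rw [conjS_sup, h1 a ha, h2 a ha]

theorem le_normalizer_commutator {A H K : Subgroup G} (h1 : A ≤ Subgroup.normalizer (H : Set G))
    (h2 : A ≤ Subgroup.normalizer (K : Set G)) :
    A ≤ Subgroup.normalizer ((⁅H, K⁆ : Subgroup G) : Set G) := by
  rw [le_normalizer_iff_forall] at *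
  intro a ha; rw [conjS_commutator, h1 a ha, h2 a ha]

theorem le_normalizer_centralizer {A H : Subgroup G} (h1 : A ≤ Subgroup.normalizer (H : Set G)) :
    A ≤ Subgroup.normalizer ((Subgroup.centralizer (H : Set G) : Subgroup G) : Set G) := by
  rw [le_normalizer_iff_forall] at *
  intro a ha; rw [conjS_centralizer, h1 a ha]

theorem le_normalizer_normalizer {A H : Subgroup G} (h1 : A ≤ Subgroup.normalizer (H : Set G)) :
    A ≤ Subgroup.normalizer ((Subgroup.normalizer (H : Set G) : Subgroup G) : Set G) := by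
  rw [le_normalizer_iff_forall] at *
  intro a ha; rw [conjS_normalizer, h1 a ha]

theorem commutator_le_of_le_normalizer {H K : Subgroup G} (h : K ≤ Subgroup.normalizer (H : Set G)) :
    ⁅H, K⁆ ≤ H := by
  rw [Subgroup.commutator_le]
  intro x hx y hy
  have := (Subgroup.mem_normalizer_iff.1 (h hy) x⁻¹).1 (inv_mem hx)
  have := mul_mem hx this
  simpa [commutatorElement_def, mul_assoc] using this

theorem commutator_le_of_le_normalizer' {H K : Subgroup G} (h : H ≤ Subgroup.normalizer (K : Set G)) :
    ⁅H, K⁆ ≤ K := by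
  rw [Subgroup.commutator_comm]; exact commutator_le_of_le_normalizer h

theorem le_centralizer_iff_commutator {H K : Subgroup G} :
    H ≤ Subgroup.centralizer (K : Set G) ↔ ⁅H, K⁆ = ⊥ :=
  Subgroup.commutator_eq_bot_iff_le_centralizer.symm

/-- `[V,A]` is normalized by `V`. -/
theorem le_normalizer_commutator_left (V A : Subgroup G) :
    V ≤ Subgroup.normalizer ((⁅V, A⁆ : Subgroup G) : Set G) := by
  rw [le_normalizer_iff_forall]
  suffices h : ∀ v ∈ V, conjS v ⁅V, A⁆ ≤ ⁅V, A⁆ by
    intro v hv
    refine le_antisymm (h v hv) ?_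
    have := conjS_mono v (h v⁻¹ (inv_mem hv))
    rwa [conjS_cancel_inv] at this
  intro v hv
  rw [conjS, Subgroup.map_le_iff_le_comap, Subgroup.commutator_le]
  intro x hx a ha
  have h1 := Subgroup.commutator_mem_commutator (mul_mem hv hx) ha
  have h2 := Subgroup.commutator_mem_commutator hv ha
  show v * (x * a * x⁻¹ * a⁻¹) * v⁻¹ ∈ ⁅V, A⁆
  have : v * (x * a * x⁻¹ * a⁻¹) * v⁻¹ = ⁅v * x, a⁆ * ⁅v, a⁆⁻¹ := by
    simp [commutatorElement_def, mul_assoc]
  rw [this]; exact mul_mem h1 (inv_mem h2)

theorem le_normalizer_commutator_right (V A : Subgroup G) :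
    A ≤ Subgroup.normalizer ((⁅V, A⁆ : Subgroup G) : Set G) := by
  rw [Subgroup.commutator_comm]; exact le_normalizer_commutator_left A V

end Cfsg.Agent.Lib.LocalEven
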