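import Cfsg.Agent.Lib.LocalEven.Basic

/-! Characteristic subgroups of a subgroup are normalized by its normalizer. -/

set_option autoImplicit false

namespace Cfsg.Agent.Lib.LocalEven

variable {G : Type*} [Group G]

theorem le_normalizer_map_char {U A : Subgroup G} (hA : A ≤ Subgroup.normalizer (U : Set G))
    (T : Subgroup ↥U) [T.Characteristic] : A ≤ Subgroup.normalizer ((T.map U.subtype : Subgroup G) : Set G) := by
  rw [le_normalizer_iff_forall]
  have key : ∀ g ∈ A, conjS g (T.map U.subtype) ≤ T.map U.subtype := by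
    intro g hg y hy
    rw [mem_conjS] at hy
    let φ : ↥U ≃* ↥U :=
      (Subgroup.equivMapOfInjective _ (MulAut.conj g).toMonoidHom (MulAut.conj g).injective).trans
        (MulEquiv.subgroupCongr (conjS_eq_self_iff.2 (hA hg)))
    obtain ⟨w, hw, hwe⟩ := hy
    have h1 : φ w ∈ T := by
      rw [SetLike.mem_coe, ← (inferInstance : T.Characteristic).fixed φ, Subgroup.mem_comap] at hw
      exact hw
    refine ⟨φ w, h1, ?_⟩
    show g * (w : G) * g⁻¹ = y
    rw [show (w : G) = g⁻¹ * y * g from hwe]
    group
  intro g hg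
  refine le_antisymm (key g hg) ?_
  have := conjS_mono g (key g⁻¹ (inv_mem hg))
  rwa [conjS_cancel_inv] at this

end Cfsg.Agent.Lib.LocalEven
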