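import Cfsg.Agent.Lib.LocalEven.Kieler
import Cfsg.Agent.Lib.LocalEven.AmalgamP
import Cfsg.Agent.Lib.LocalEven.CharNormalizer
import Cfsg.Agent.Lib.Components.Local

/-!
Characteristic `p` subgroups: `F*(H) = O_p(H)`.
-/

set_option autoImplicit false

namespace Cfsg.Agent.Lib.LocalEven

universe u v

variable {G : Type u} [Group G] {p : ℕ}

/-- `C_H(O_p(H)) ≤ O_p(H)` inside the ambient group. -/
def HasCharP (p : ℕ) (H : Subgroup G) : Prop :=
  H ⊓ Subgroup.centralizer (Cfsg.pCoreOf p H : Set G) ≤ Cfsg.pCoreOf p H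

theorem hasCharP_iff_core (H : Subgroup G) :
    HasCharP p H ↔ Subgroup.centralizer (Cfsg.pCore p H : Set H) ≤ Cfsg.pCore p H :=
  (charPCore_iff H).symm

theorem genFitting_eq_pCore_iff {X : Type v} [Group X] [Finite X] [Fact p.Prime] :
    Cfsg.generalizedFittingSubgroup X = Cfsg.pCore p X ↔
      Subgroup.centralizer (Cfsg.pCore p X : Set X) ≤ Cfsg.pCore p X := by
  constructor
  · intro h
    have := Components.centralizer_genFitting_le (G := X)
    rwa [h] at this
  · intro h
    refine Components.genFitting_eq_pCore_of ?_ ?_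
    · exact Components.eq_bot_of_isPGroup_of_coprime
        ((pCore_isPGroup p X).to_le (Components.pPrimeCore_le_centralizer_pCore.trans h))
        (Components.pPrimeCore_coprime p)
    · refine Components.eq_bot_of_perfect_solvable (Components.layer_commutator_self X) ?_
      haveI := ((pCore_isPGroup p X).to_le (Components.layer_le_centralizer_pCore.trans h)).isNilpotent
      infer_instance

theorem hasCharP_iff [Finite G] [Fact p.Prime] (H : Subgroup G) :
    HasCharP p H ↔ Cfsg.generalizedFittingSubgroup ↥H = Cfsg.pCore p ↥H :=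
  (hasCharP_iff_core H).trans genFitting_eq_pCore_iff.symm

theorem genFitting_eq_pCore_congr {X : Type v} {Y : Type u} [Group X] [Group Y] (e : X ≃* Y)
    (h : Cfsg.generalizedFittingSubgroup X = Cfsg.pCore p X) :
    Cfsg.generalizedFittingSubgroup Y = Cfsg.pCore p Y := by
  have h1 : (Cfsg.pCore p X).map e.toMonoidHom = Cfsg.pCore p Y := by
    refine le_antisymm (map_pCore_le_of_surjective e.toMonoidHom e.surjective) fun y hy => ?_
    exact ⟨e.symm y, map_pCore_le_of_surjective e.symm.toMonoidHom e.symm.surjective ⟨y, hy, rfl⟩,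
      e.apply_symm_apply y⟩
  rw [← h1, ← h]
  exact (Components.map_genFitting_mulEquiv e).symm

theorem HasCharP.conjS {H : Subgroup G} (h : HasCharP p H) (g : G) : HasCharP p (conjS g H) := by
  have h1 := conjS_mono g h
  rw [conjS_inf, conjS_centralizer, conjS_pCoreOf] at h1
  exact h1

theorem centralizer_singleton_conj (g z : G) :
    Subgroup.centralizer ({g * z * g⁻¹} : Set G) = LocalEven.conjS g (Subgroup.centralizer ({z} : Set G)) := by
  ext x
  rw [mem_conjS, Subgroup.mem_centralizer_singleton_iff, Subgroup.mem_centralizer_singleton_iff]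
  constructor
  · intro h
    calc g⁻¹ * x * g * z = g⁻¹ * (x * (g * z * g⁻¹)) * g := by group
      _ = g⁻¹ * (g * z * g⁻¹ * x) * g := by rw [h]
      _ = z * (g⁻¹ * x * g) := by group
  · intro h
    calc x * (g * z * g⁻¹) = g * (g⁻¹ * x * g * z) * g⁻¹ := by group
      _ = g * (z * (g⁻¹ * x * g)) * g⁻¹ := by rw [h]
      _ = g * z * g⁻¹ * x := by group

/-- A central element with centralizer of characteristic `p` forces the normalizer to have it. -/
theorem hasCharP_normalizer_of_central [Finite G] [hp : Fact p.Prime] {X : Subgroup G} (hX : IsPGroup p X) {z : G}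
    (hzX : z ∈ X) (hz : ∀ x ∈ X, x * z = z * x)
    (hc : HasCharP p (Subgroup.centralizer ({z} : Set G))) : HasCharP p (Subgroup.normalizer (X : Set G)) := by
  set C := Subgroup.centralizer ({z} : Set G) with hCd
  set N := Subgroup.normalizer (X : Set G) with hN
  have hXC : X ≤ C := fun x hx => Subgroup.mem_centralizer_singleton_iff.2 (hz x hx)
  have hCXC : Subgroup.centralizer (X : Set G) ≤ C := Subgroup.centralizer_le (Set.singleton_subset_iff.2 hzX)
  have hY : HasCharP p (N ⊓ C) := by
    rw [hasCharP_iff]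
    obtain ⟨-, -, h⟩ := Components.genFitting_normalizer_eq_pCore ((hasCharP_iff C).1 hc)
      (hX.comap_subtype (K := C))
    have hmap : (Subgroup.normalizer ((X.subgroupOf C : Subgroup ↥C) : Set ↥C)).map C.subtype = N ⊓ C := by
      rw [← Subgroup.subgroupOf_normalizer_eq hXC, Subgroup.subgroupOf_map_subtype]
    exact genFitting_eq_pCore_congr
      ((Subgroup.equivMapOfInjective _ C.subtype C.subtype_injective).trans (MulEquiv.subgroupCongr hmap)) h
  set W := N ⊓ Subgroup.centralizer (X : Set G) with hW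
  have hNW : N ≤ Subgroup.normalizer (W : Set G) :=
    le_normalizer_inf Subgroup.le_normalizer (le_normalizer_centralizer le_rfl)
  have hWc : HasCharP p W := hch_of_normal hY (inf_le_inf_left _ hCXC) (inf_le_left.trans hNW)
  have hXN : X ≤ Cfsg.pCoreOf p N := le_pCoreOf Subgroup.le_normalizer le_rfl hX
  rintro d ⟨hd, hdc⟩
  have hdW : d ∈ W := Subgroup.mem_inf.2 ⟨hd, Subgroup.centralizer_le hXN hdc⟩
  have hWN : Cfsg.pCoreOf p W ≤ Cfsg.pCoreOf p N :=
    le_pCoreOf ((pCoreOf_le W).trans inf_le_left) (haveI := pCore_characteristic p ↥W; le_normalizer_map_char hNW _)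
      (pCoreOf_isPGroup W)
  exact hWN (hWc ⟨hdW, Subgroup.centralizer_le hWN hdc⟩)

/-- `p`-elements of order `p` in a nontrivial normalized subgroup, central in the `p`-group `T`. -/
theorem exists_omZ_inf [Finite G] [hp : Fact p.Prime] {T R : Subgroup G} (hT : IsPGroup p T) (hR : IsPGroup p R)
    (hn : T ≤ Subgroup.normalizer (R : Set G)) (hne : R ≠ ⊥) :
    ∃ z ∈ R, z ≠ 1 ∧ z ^ p = 1 ∧ z ∈ Subgroup.centralizer (T : Set G) := by
  obtain ⟨b, hb, hb1, hbc⟩ := exists_ne_one_mem_centralizer hT hR hn hne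
  obtain ⟨k, hk'⟩ := hR ⟨b, hb⟩
  have hk := orderOf_dvd_of_pow_eq_one hk'
  refine ⟨b ^ (orderOf b / p), pow_mem hb _, ?_, ?_, pow_mem hbc _⟩ <;>
    have hpd : p ∣ orderOf b := by
      obtain ⟨j, -, hj⟩ := (Nat.dvd_prime_pow hp.out).1 (show orderOf b ∣ p ^ k by
        rw [← Subgroup.orderOf_mk b hb]; exact hk)
      rcases j with _ | j
      · rw [pow_zero, orderOf_eq_one_iff] at hj; exact absurd hj hb1
      · rw [hj]; exact dvd_pow_self p j.succ_ne_zero
  · intro h
    have h1 := Nat.le_of_dvd (Nat.div_pos (Nat.le_of_dvd (orderOf_pos b) hpd) hp.out.pos) (orderOf_dvd_of_pow_eq_one h)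
    have := Nat.div_lt_self (orderOf_pos b) hp.out.one_lt
    omega
  · rw [← pow_mul, Nat.div_mul_cancel hpd, pow_orderOf_eq_one]

/-- Criterion for parabolic characteristic `p`. -/
theorem parabolicChar_iff [Finite G] [hp : Fact p.Prime] (S : Sylow p G) :
    Cfsg.IsOfParabolicCharacteristic p G ↔
      ∀ z : G, z ≠ 1 → z ∈ Cfsg.omegaOne p ((S : Subgroup G) ⊓ Subgroup.centralizer ((S : Subgroup G) : Set G)) →
        HasCharP p (Subgroup.centralizer ({z} : Set G)) := by
  constructor
  · intro h z hz1 hz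
    obtain ⟨hzS, hzc⟩ := Subgroup.mem_inf.1 (omegaOne_le _ hz)
    set R := Subgroup.zpowers z with hR
    have hRS : R ≤ (S : Subgroup G) := Subgroup.zpowers_le.2 hzS
    have hCR : Subgroup.centralizer ({z} : Set G) = Subgroup.centralizer (R : Set G) := by
      rw [hR, Subgroup.zpowers_eq_closure, Subgroup.centralizer_closure]
    have hSC : (S : Subgroup G) ≤ Subgroup.centralizer ({z} : Set G) := fun s hs =>
      Subgroup.mem_centralizer_singleton_iff.2 (Subgroup.mem_centralizer_iff.1 hzc s hs)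
    have hSN : (S : Subgroup G) ≤ Subgroup.normalizer (R : Set G) := by
      rw [hCR] at hSC; exact hSC.trans (Subgroup.centralizer_le_normalizer _)
    have h1 := (hasCharP_iff_core _).2 (h R (S.isPGroup'.to_le hRS)
      (fun h0 => hz1 (Subgroup.zpowers_eq_bot.1 h0)) ⟨S, hSN⟩)
    rw [hCR]
    exact hch_of_normal h1 (Subgroup.centralizer_le_normalizer _) (le_normalizer_centralizer le_rfl)
  · intro h R hR hR1 ⟨T, hT⟩
    refine (hasCharP_iff_core _).1 ?_
    obtain ⟨z, hzR, hz1, hzp, hzc⟩ := exists_omZ_inf T.isPGroup' hR hT hR1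
    have hRT : R ≤ (T : Subgroup G) := by
      have h2 : IsPGroup p ↥((T : Subgroup G) ⊔ R) := T.isPGroup'.to_sup_of_normal_right' hR hT
      rw [← T.is_maximal' h2 le_sup_left]; exact le_sup_right
    refine hasCharP_normalizer_of_central hR hzR (fun x hx => (Subgroup.mem_centralizer_iff.1 hzc x (hRT hx))) ?_
    obtain ⟨g, hg⟩ := MulAction.exists_smul_eq G T S
    have hgT : LocalEven.conjS g (T : Subgroup G) = (S : Subgroup G) := by rw [← hg]; rfl
    have h1 : g * z * g⁻¹ ∈ Cfsg.omegaOne p ((S : Subgroup G) ⊓ Subgroup.centralizer ((S : Subgroup G) : Set G)) := by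
      refine Subgroup.subset_closure ⟨?_, by rw [conj_pow, hzp]; group⟩
      rw [← hgT, ← conjS_centralizer, ← conjS_inf]
      exact conj_mem_conjS (Subgroup.mem_inf.2 ⟨hRT hzR, hzc⟩)
    have h2 := (h _ (fun h0 => hz1 (conj_eq_one_iff.1 h0)) h1).conjS g⁻¹
    rwa [centralizer_singleton_conj, conjS_inv_cancel] at h2

end Cfsg.Agent.Lib.LocalEven
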