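import Cfsg.Prelude.Def_Transfer
import Cfsg.Prelude.Def_Solvable
import Mathlib.GroupTheory.PGroup
import Mathlib.GroupTheory.Index
import Cfsg.Agent.Lib.Cores.Frattini

/-!
Counting elements of order four in an extraspecial 2-group of plus type.
-/

set_option autoImplicit false

open scoped commutatorElement

namespace Cfsg.Agent.Lib.LocalEven

universe u

variable {E : Type u} [Group E]

theorem extra_mem_center {p : ℕ} (hE : Cfsg.IsExtraspecial p E) (x y : E) :
    ⁅x, y⁆ ∈ Subgroup.center E :=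
  hE.1.2.2 ▸ Subgroup.commutator_mem_commutator (Subgroup.mem_top x) (Subgroup.mem_top y)

/-- `a ↦ ⁅x, a⁆` on a subgroup. -/
def commHom {p : ℕ} (hE : Cfsg.IsExtraspecial p E) (A : Subgroup E) (x : E) : ↥A →* E where
  toFun a := ⁅x, (a : E)⁆
  map_one' := by simp
  map_mul' a b := by
    have h := Subgroup.mem_center_iff.1 (extra_mem_center hE x b) (a : E)
    calc ⁅x, ((a * b : ↥A) : E)⁆ = ⁅x, (a : E)⁆ * ((a : E) * ⁅x, (b : E)⁆) * (a : E)⁻¹ := by
          simp [commutatorElement_def, mul_assoc]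
      _ = ⁅x, (a : E)⁆ * (⁅x, (b : E)⁆ * (a : E)) * (a : E)⁻¹ := by rw [h]
      _ = ⁅x, (a : E)⁆ * ⁅x, (b : E)⁆ := by group

theorem commHom_range_eq [Finite E] (hE : Cfsg.IsExtraspecial 2 E) (A : Subgroup E) {x : E}
    (hx : x ∉ Subgroup.centralizer (A : Set E)) : (commHom hE A x).range = Subgroup.center E := by
  refine Subgroup.eq_of_le_of_card_ge ?_ ?_
  · rintro _ ⟨a, rfl⟩
    exact extra_mem_center hE x a
  · rw [hE.2]
    refine (Subgroup.one_lt_card_iff_ne_bot _).2 fun h => hx ?_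
    rw [Subgroup.mem_centralizer_iff]
    intro a ha
    have h' : ⁅x, a⁆ ∈ (commHom hE A x).range := ⟨⟨a, ha⟩, rfl⟩
    rw [h, Subgroup.mem_bot] at h'
    exact (commutatorElement_eq_one_iff_commute.1 h').eq.symm

theorem commHom_fiber_card [Finite E] (hE : Cfsg.IsExtraspecial 2 E) (A : Subgroup E) {x : E}
    (hx : x ∉ Subgroup.centralizer (A : Set E)) {c : E} (hc : c ∈ Subgroup.center E) :
    2 * Nat.card {a : ↥A // ⁅x, (a : E)⁆ = c} = Nat.card A := by
  have hr := commHom_range_eq hE A hx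
  obtain ⟨a0, ha0⟩ : c ∈ (commHom hE A x).range := hr ▸ hc
  have he : Nat.card {a : ↥A // ⁅x, (a : E)⁆ = c} = Nat.card (commHom hE A x).ker :=
    Nat.card_congr ((Equiv.mulLeft a0⁻¹).subtypeEquiv fun a => by
      rw [Equiv.coe_mulLeft, MonoidHom.mem_ker, map_mul, map_inv, ha0, inv_mul_eq_one]
      exact eq_comm)
  rw [he, ← (commHom hE A x).ker.card_mul_index, Subgroup.index_ker, hr, hE.2, mul_comm]

theorem card_mul_card_centralizer [Finite E] (hE : Cfsg.IsExtraspecial 2 E) (A : Subgroup E)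
    (hZA : Subgroup.center E ≤ A) :
    Nat.card A * Nat.card (Subgroup.centralizer (A : Set E)) = 2 * Nat.card E := by
  classical
  letI := Fintype.ofFinite E
  letI := Fintype.ofFinite ↥A
  set C := Subgroup.centralizer (A : Set E) with hC
  have h1 : ∀ x : E, 2 * Nat.card {a : ↥A // ⁅x, (a : E)⁆ = 1} =
      Nat.card A + if x ∈ C then Nat.card A else 0 := by
    intro x
    split_ifs with h
    · have : Nat.card {a : ↥A // ⁅x, (a : E)⁆ = 1} = Nat.card A :=
        Nat.card_congr (Equiv.subtypeUnivEquiv fun a => commutatorElement_eq_one_iff_commute.2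
          (Subgroup.mem_centralizer_iff.1 h a a.2).symm)
      omega
    · rw [commHom_fiber_card hE A h (one_mem _), add_zero]
  have h2 : ∀ a : ↥A, 2 * Nat.card {x : E // ⁅x, (a : E)⁆ = 1} =
      Nat.card E + if (a : E) ∈ Subgroup.center E then Nat.card E else 0 := by
    intro a
    split_ifs with h
    · have : Nat.card {x : E // ⁅x, (a : E)⁆ = 1} = Nat.card E :=
        Nat.card_congr (Equiv.subtypeUnivEquiv fun x => commutatorElement_eq_one_iff_commute.2
          (Subgroup.mem_center_iff.1 h x))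
      omega
    · have hn : (a : E) ∉ Subgroup.centralizer ((⊤ : Subgroup E) : Set E) := by
        rw [Subgroup.coe_top, Subgroup.centralizer_univ]; exact h
      have := commHom_fiber_card hE ⊤ hn (one_mem _)
      rw [Subgroup.card_top] at this
      rw [add_zero, ← this]
      congr 1
      refine Nat.card_congr ((Subgroup.topEquiv.toEquiv.symm).subtypeEquiv fun x => ?_)
      show ⁅x, (a : E)⁆ = 1 ↔ ⁅(a : E), x⁆ = 1
      rw [commutatorElement_eq_one_iff_commute, commutatorElement_eq_one_iff_commute]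
      exact ⟨fun h => h.symm, fun h => h.symm⟩
  have hsum : ∑ x : E, Nat.card {a : ↥A // ⁅x, (a : E)⁆ = 1} =
      ∑ a : ↥A, Nat.card {x : E // ⁅x, (a : E)⁆ = 1} := by
    rw [← Nat.card_sigma, ← Nat.card_sigma]
    exact Nat.card_congr
      { toFun := fun q => ⟨q.2.1, q.1, q.2.2⟩
        invFun := fun q => ⟨q.2.1, q.1, q.2.2⟩
        left_inv := fun q => rfl
        right_inv := fun q => rfl }
  have h3 := congrArg (2 * ·) hsum
  simp only [Finset.mul_sum] at h3
  rw [Finset.sum_congr rfl fun x _ => h1 x, Finset.sum_congr rfl fun a _ => h2 a,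
    Finset.sum_add_distrib, Finset.sum_add_distrib, Finset.sum_const, Finset.sum_const,
    ← Finset.sum_filter, ← Finset.sum_filter, Finset.sum_const, Finset.sum_const,
    Finset.card_univ, Finset.card_univ, ← Fintype.card_subtype, ← Fintype.card_subtype,
    smul_eq_mul, smul_eq_mul, smul_eq_mul, smul_eq_mul,
    ← Nat.card_eq_fintype_card, ← Nat.card_eq_fintype_card, ← Nat.card_eq_fintype_card,
    ← Nat.card_eq_fintype_card] at h3
  have hZ : Nat.card {a : ↥A // (a : E) ∈ Subgroup.center E} = 2 := by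
    rw [← hE.2]
    exact Nat.card_congr (Subgroup.subgroupOfEquivOfLe hZA).toEquiv
  rw [hZ] at h3
  have h4 : Nat.card E * Nat.card A = Nat.card A * Nat.card E := mul_comm _ _
  have h5 : Nat.card C * Nat.card A = Nat.card A * Nat.card C := mul_comm _ _
  have h6 : Nat.card {x : E // x ∈ C} = Nat.card C := rfl
  omega

theorem extra_center_le [Finite E] (hE : Cfsg.IsExtraspecial 2 E) {m : ℕ}
    (hcard : Nat.card E = 2 ^ (2 * m + 1)) {A : Subgroup E} (hA : Cfsg.IsElementaryAbelian 2 A)
    (hAc : Nat.card A = 2 ^ (m + 1)) : Subgroup.center E ≤ A := by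
  by_contra hne
  have hd : Disjoint A (Subgroup.center E) := by
    rw [disjoint_iff]
    by_contra h
    refine hne ?_
    have h1 : A ⊓ Subgroup.center E = Subgroup.center E := by
      refine Subgroup.eq_of_le_of_card_ge inf_le_right ?_
      rw [hE.2]
      exact (Subgroup.one_lt_card_iff_ne_bot _).2 h
    exact h1 ▸ inf_le_left
  set A' := A ⊔ Subgroup.center E with hA'
  have h := card_mul_card_centralizer hE A' le_sup_right
  have hA'C : A' ≤ Subgroup.centralizer (A' : Set E) := by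
    refine sup_le ?_ (Subgroup.center_le_centralizer _)
    rw [Subgroup.le_centralizer_iff]
    refine sup_le ?_ (Subgroup.center_le_centralizer _)
    exact fun a ha => Subgroup.mem_centralizer_iff.2 fun b hb =>
      congrArg Subtype.val (hA.1.is_comm.comm ⟨b, hb⟩ ⟨a, ha⟩)
  have hc' : Nat.card A' = 2 ^ (m + 1) * 2 := by
    have h1 := Subgroup.relIndex_sup_right (Subgroup.center E) (H := A)
    have h1' : (Subgroup.center E).relIndex A = 2 ^ (m + 1) := by
      rw [← Subgroup.inf_relIndex_right, inf_comm, disjoint_iff.1 hd, Subgroup.relIndex_bot_left, hAc]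
    rw [h1'] at h1
    have h2 := Subgroup.relIndex_mul_relIndex ⊥ (Subgroup.center E) A' bot_le le_sup_right
    rw [Subgroup.relIndex_bot_left, Subgroup.relIndex_bot_left, hE.2, h1] at h2
    omega
  have h2 := Subgroup.card_le_of_le hA'C
  rw [hc', hcard] at h
  rw [hc'] at h2
  have h3 : (2 : ℕ) ^ (2 * m + 1) = 2 ^ (m + 1) * 2 ^ m := by rw [← pow_add]; congr 1; omega
  rw [h3, mul_comm (2 ^ (m + 1)) 2, mul_assoc] at h
  have h4 := Nat.eq_of_mul_eq_mul_left (Nat.two_pow_pos (m + 1)) (Nat.eq_of_mul_eq_mul_left two_pos h)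
  have h5 : (2 : ℕ) ^ m < 2 ^ (m + 1) * 2 := by
    rw [pow_succ]; have := Nat.two_pow_pos m; omega
  omega

theorem extra_card_order_four [Finite E] (m : ℕ) (hE : Cfsg.IsExtraspecial 2 E)
    (hcard : Nat.card E = 2 ^ (2 * m + 1))
    (hplus : ∃ A : Subgroup E, Cfsg.IsElementaryAbelian 2 A ∧ Nat.card A = 2 ^ (m + 1)) :
    Nat.card {x : E // orderOf x = 4} = 2 ^ (2 * m) - 2 ^ m := by
  classical
  letI := Fintype.ofFinite E
  obtain ⟨A, hA, hAc⟩ := hplus
  letI := Fintype.ofFinite ↥A
  have hZA := extra_center_le hE hcard hA hAc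
  have hAA : A ≤ Subgroup.centralizer (A : Set E) := fun a ha => Subgroup.mem_centralizer_iff.2 fun b hb =>
    congrArg Subtype.val (hA.1.is_comm.comm ⟨b, hb⟩ ⟨a, ha⟩)
  have hCA : Subgroup.centralizer (A : Set E) = A := by
    refine (Subgroup.eq_of_le_of_card_ge hAA ?_).symm
    have h := card_mul_card_centralizer hE A hZA
    rw [hAc, hcard] at h
    have h3 : 2 * (2 : ℕ) ^ (2 * m + 1) = 2 ^ (m + 1) * 2 ^ (m + 1) := by
      rw [← pow_add, mul_comm, ← pow_succ]; congr 1; omega
    rw [h3] at h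
    rw [Nat.eq_of_mul_eq_mul_left (Nat.two_pow_pos (m + 1)) h, hAc]
  have hsq : ∀ x : E, x ^ 2 ∈ Subgroup.center E := fun x =>
    hE.1.2.1 ▸ Cores.pow_mem_frattini hE.1.1 x
  have hcsq : ∀ c ∈ Subgroup.center E, c ^ 2 = 1 := fun c hc => hA.2 c (hZA hc)
  have h1 : ∀ x : E, 2 * Nat.card {a : ↥A // (x * a) ^ 2 = 1} =
      Nat.card A + if x ∈ A then Nat.card A else 0 := by
    intro x
    split_ifs with h
    · have : Nat.card {a : ↥A // (x * a) ^ 2 = 1} = Nat.card A :=
        Nat.card_congr (Equiv.subtypeUnivEquiv fun a => hA.2 _ (mul_mem h a.2))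
      omega
    · rw [add_zero, ← commHom_fiber_card hE A (x := x⁻¹) (fun hh => h (by
        rw [hCA] at hh; simpa using inv_mem hh)) (c := x ^ 2) (hsq x)]
      congr 1
      refine Nat.card_congr (Equiv.subtypeEquivRight fun a => ?_)
      have ha : (a : E)⁻¹ = a := inv_eq_of_mul_eq_one_right (by rw [← pow_two]; exact hA.2 a a.2)
      have e : (x * (a : E)) ^ 2 = x ^ 2 * ⁅x⁻¹, (a : E)⁆ := by
        rw [commutatorElement_def, ha, inv_inv, pow_two, pow_two]; group
      rw [e]
      have hx2 : (x ^ 2)⁻¹ = x ^ 2 := inv_eq_of_mul_eq_one_right (by rw [← pow_two]; exact hcsq _ (hsq x))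
      rw [mul_eq_one_iff_inv_eq, hx2, eq_comm]
  have hsum : ∑ x : E, Nat.card {a : ↥A // (x * a) ^ 2 = 1} =
      Nat.card A * Nat.card {y : E // y ^ 2 = 1} := by
    rw [← Nat.card_sigma, ← Nat.card_prod]
    exact Nat.card_congr
      { toFun := fun q => (q.2.1, ⟨q.1 * q.2.1, q.2.2⟩)
        invFun := fun q => ⟨(q.2 : E) * (q.1 : E)⁻¹, q.1, by rw [inv_mul_cancel_right]; exact q.2.2⟩
        left_inv := fun q => Sigma.subtype_ext (by simp) rfl
        right_inv := fun q => Prod.ext rfl (Subtype.ext (by simp)) }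
  have h3 := congrArg (2 * ·) hsum
  simp only [Finset.mul_sum] at h3
  rw [Finset.sum_congr rfl fun x _ => h1 x, Finset.sum_add_distrib, Finset.sum_const,
    ← Finset.sum_filter, Finset.sum_const, Finset.card_univ, ← Fintype.card_subtype,
    smul_eq_mul, smul_eq_mul, ← Nat.card_eq_fintype_card, ← Nat.card_eq_fintype_card] at h3
  have h6 : Nat.card {x : E // x ∈ A} = Nat.card A := rfl
  rw [h6, hAc, hcard] at h3
  have h7 : 2 * Nat.card {y : E // y ^ 2 = 1} = 2 ^ (2 * m + 1) + 2 ^ (m + 1) := by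
    refine Nat.eq_of_mul_eq_mul_left (Nat.two_pow_pos (m + 1)) ?_
    rw [mul_left_comm, ← h3]; ring
  have h8 : Nat.card {x : E // orderOf x = 4} = Nat.card E - Nat.card {y : E // y ^ 2 = 1} := by
    have e : ∀ x : E, orderOf x = 4 ↔ ¬ x ^ 2 = 1 := by
      intro x
      constructor
      · intro h h2
        have := orderOf_dvd_of_pow_eq_one h2
        rw [h] at this
        norm_num at this
      · intro h
        refine orderOf_eq_prime_pow (p := 2) (n := 1) (by simpa using h) ?_
        show x ^ (2 ^ 2) = 1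
        rw [show (2 : ℕ) ^ 2 = 2 * 2 by norm_num, pow_mul]
        exact hcsq _ (hsq x)
    rw [Nat.card_congr (Equiv.subtypeEquivRight e), Nat.card_eq_fintype_card, Nat.card_eq_fintype_card,
      Nat.card_eq_fintype_card, Fintype.card_subtype_compl]
  rw [h8, hcard]
  have h9 : (2 : ℕ) ^ (2 * m + 1) = 2 * 2 ^ (2 * m) := by rw [pow_succ, mul_comm]
  have h10 : (2 : ℕ) ^ (m + 1) = 2 * 2 ^ m := by rw [pow_succ, mul_comm]
  omega

end Cfsg.Agent.Lib.LocalEven
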