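import Cfsg.Agent.Lib.LocalEven.Series
import Cfsg.Agent.Lib.LocalEven.PCore
import Cfsg.Agent.Lib.LocalEven.CharNormalizer
import Cfsg.Agent.Lib.Components.GenFitting
import Cfsg.Agent.Lib.Components.PComponent
import Cfsg.Agent.Lib.Components.Quasisimple
import Cfsg.Agent.Lib.Coprime.Action

/-!
A `p`-group acting on a group `L = F*(L)` with `O_p(L) = 1`.
-/

set_option autoImplicit false

open scoped commutatorElement

namespace Cfsg.Agent.Lib.LocalEven

universe u

variable {G : Type u} [Group G] {p : ℕ}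

theorem fittingSubgroup_characteristic : (fittingSubgroup G).Characteristic := by
  rw [Subgroup.characteristic_iff_map_eq]
  exact fun e => Components.map_fittingSubgroup_mulEquiv e

/-- `F(G)` is a `p'`-group when `O_p(G) = 1`. -/
theorem coprime_card_fitting [Finite G] [hp : Fact p.Prime] (hO : Cfsg.pCore p G = ⊥) :
    (Nat.card ↥(fittingSubgroup G)).Coprime p := by
  haveI : Group.IsNilpotent ↥(fittingSubgroup G) := Components.fittingSubgroup_isNilpotent
  let P : Sylow p ↥(fittingSubgroup G) := default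
  haveI : (P : Subgroup ↥(fittingSubgroup G)).Normal := inferInstance
  haveI := P.characteristic_of_normal inferInstance
  haveI := fittingSubgroup_characteristic (G := G)
  have hn : ((P : Subgroup ↥(fittingSubgroup G)).map (fittingSubgroup G).subtype).Normal :=
    normal_of_le_normalizer (le_normalizer_map_char (le_normalizer_of_normal _ _) _)
  have h1 := le_pCore hn (P.isPGroup'.map _)
  rw [hO, le_bot_iff, Subgroup.map_eq_bot_iff_of_injective _ (fittingSubgroup G).subtype_injective] at h1
  refine (hp.out.coprime_iff_not_dvd.2 fun hd => ?_).symm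
  have h2 := P.dvd_card_of_dvd_card hd
  rw [h1, Subgroup.card_bot] at h2
  exact hp.out.not_dvd_one h2

/-- A component of `L` is centralized by `Y` or lies in any subgroup it normalizes that contains `[K,Y]`. -/
theorem component_le_of_commutator_le [Finite G] {L Y N : Subgroup G}
    (hYL : Y ≤ Subgroup.normalizer (L : Set G)) {K : Subgroup ↥L} (hK : Cfsg.IsComponent K)
    (hKN : K.map L.subtype ≤ Subgroup.normalizer (N : Set G)) (hcomm : ⁅K.map L.subtype, Y⁆ ≤ N) :
    K.map L.subtype ≤ Subgroup.centralizer (Y : Set G) ∨ K.map L.subtype ≤ N := by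
  set Kg := K.map L.subtype with hKg
  by_cases hc : Kg ≤ Subgroup.centralizer (Y : Set G)
  · exact Or.inl hc
  right
  obtain ⟨k₀, hk₀, hk₀'⟩ := SetLike.not_le_iff_exists.1 hc
  rw [Subgroup.mem_centralizer_iff] at hk₀'
  push Not at hk₀'
  obtain ⟨y, hy, hyk⟩ := hk₀'
  let φ : ↥L ≃* ↥L :=
    (Subgroup.equivMapOfInjective _ (MulAut.conj y).toMonoidHom (MulAut.conj y).injective).trans
      (MulEquiv.subgroupCongr (conjS_eq_self_iff.2 (hYL hy)))
  have hφ : ∀ x : ↥L, (φ x : G) = y * (x : G) * y⁻¹ := fun x => rfl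
  have hK' := Components.IsComponent.map_mulEquiv φ hK
  have hKK : ⁅K, K⁆ = K := Components.IsComponent.commutator_self hK
  have hKgKg : ⁅Kg, Kg⁆ = Kg := by rw [hKg, ← Subgroup.map_commutator, hKK]
  by_cases hne : K.map φ.toMonoidHom = K
  · -- `y` normalizes the component
    have hyN : ∀ x : ↥K, φ x.1 ∈ K := fun x => by
      have : φ x.1 ∈ K.map φ.toMonoidHom := Subgroup.mem_map_of_mem _ x.2
      rwa [hne] at this
    let α : ↥K →* ↥K :=
      MonoidHom.mk' (fun x => ⟨φ x.1, hyN x⟩) fun a b => Subtype.ext (map_mul φ a.1 b.1)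
    let M : Subgroup ↥K := N.comap (L.subtype.comp K.subtype)
    haveI hMn : M.Normal := ⟨fun n hn g => by
      show ((g : ↥L) : G) * ((n : ↥L) : G) * (((g : ↥L) : G))⁻¹ ∈ N
      exact (Subgroup.mem_normalizer_iff.1 (hKN (Subgroup.mem_map_of_mem _ g.2)) _).1 hn⟩
    rcases Components.IsQuasisimple.normal_eq_top_or_le_center hK.2 M with h | h
    · rintro _ ⟨x, hx, rfl⟩
      have : (⟨x, hx⟩ : ↥K) ∈ M := by rw [h]; trivial
      exact this
    · exfalso
      haveI := hK.2.1
      have hα := Components.apply_eq_self_of_perfect_of_central α (fun x => h (by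
        show ((φ x.1 : ↥L) : G) * (((x : ↥L) : G))⁻¹ ∈ N
        rw [hφ]
        have h1 := inv_mem (hcomm (Subgroup.commutator_mem_commutator (Subgroup.mem_map_of_mem L.subtype x.2) hy))
        simpa [commutatorElement_def, mul_assoc] using h1))
      obtain ⟨x, hx, rfl⟩ := hk₀
      have h2 := congrArg (fun z : ↥K => ((z : ↥L) : G)) (hα ⟨x, hx⟩)
      simp only [α, MonoidHom.mk'_apply, hφ] at h2
      exact hyk (mul_inv_eq_iff_eq_mul.1 h2)
  · have hdist := Components.IsComponent.commutator_eq_bot_of_ne hK' hK hne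
    rw [← hKgKg, Subgroup.commutator_le]
    rintro _ ⟨k, hk, rfl⟩ a ⟨a', ha', rfl⟩
    set c : G := y * (k : G)⁻¹ * y⁻¹ with hc
    have hca : Commute c (a' : G) := by
      have h1 := Components.commute_of_commutator_eq_bot hdist
        (Subgroup.mem_map_of_mem φ.toMonoidHom (inv_mem hk)) ha'
      have h2 := congrArg (fun z : ↥L => (z : G)) h1
      simpa [Commute, SemiconjBy, hφ, hc, mul_assoc] using h2
    have hkc : (k : G) * c ∈ N := by
      have h1 := hcomm (Subgroup.commutator_mem_commutator (Subgroup.mem_map_of_mem L.subtype hk) hy)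
      rw [commutatorElement_def] at h1
      simpa [hc, mul_assoc] using h1
    have haK : (a' : G) ∈ Kg := Subgroup.mem_map_of_mem _ ha'
    have key : ⁅(k : G), (a' : G)⁆ = (k * c) * (a' * ((k : G) * c)⁻¹ * (a' : G)⁻¹) := by
      calc ⁅(k : G), (a' : G)⁆ = k * (a' * c * c⁻¹) * (k : G)⁻¹ * (a' : G)⁻¹ := by
            rw [commutatorElement_def]; group
        _ = k * (c * a' * c⁻¹) * (k : G)⁻¹ * (a' : G)⁻¹ := by rw [hca.eq]
        _ = _ := by group
    show ⁅(k : G), (a' : G)⁆ ∈ N
    rw [key]
    exact mul_mem hkc ((Subgroup.mem_normalizer_iff.1 (hKN haK) _).1 (inv_mem hkc))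

/-- `L = [L,Y] C_L(Y)` for a `p`-group `Y` acting on `L = F*(L)` with `O_p(L) = 1`. -/
theorem commutator_sup_centralizer_of_genFitting [Finite G] [hp : Fact p.Prime] {L Y : Subgroup G}
    (hF : Cfsg.generalizedFittingSubgroup ↥L = ⊤) (hO : Cfsg.pCore p ↥L = ⊥) (hY : IsPGroup p Y)
    (hYL : Y ≤ Subgroup.normalizer (L : Set G)) :
    ⁅L, Y⁆ ⊔ (L ⊓ Subgroup.centralizer (Y : Set G)) = L := by
  refine le_antisymm (sup_le (commutator_le_of_le_normalizer hYL) inf_le_left) ?_
  set S := ⁅L, Y⁆ ⊔ (L ⊓ Subgroup.centralizer (Y : Set G)) with hS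
  have h1 : L = (Cfsg.generalizedFittingSubgroup ↥L).map L.subtype := by
    rw [hF, ← MonoidHom.range_eq_map, Subgroup.range_subtype]
  conv_lhs => rw [h1, Cfsg.generalizedFittingSubgroup, Subgroup.map_sup]
  refine sup_le ?_ ?_
  · rw [Subgroup.map_le_iff_le_comap, Components.layer_le_iff]
    intro K hK
    rw [← Subgroup.map_le_iff_le_comap]
    rcases component_le_of_commutator_le hYL hK ((Subgroup.map_subtype_le _).trans (le_normalizer_commutator_left L Y))
      (Subgroup.commutator_mono (Subgroup.map_subtype_le _) le_rfl) with h | h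
    · exact (le_inf (Subgroup.map_subtype_le _) h).trans le_sup_right
    · exact h.trans le_sup_left
  · set F := (fittingSubgroup ↥L).map L.subtype with hFd
    haveI : Group.IsNilpotent ↥(fittingSubgroup ↥L) := Components.fittingSubgroup_isNilpotent
    haveI : Group.IsNilpotent ↥F :=
      Group.nilpotent_of_mulEquiv (Subgroup.equivMapOfInjective _ L.subtype L.subtype_injective)
    haveI := fittingSubgroup_characteristic (G := ↥L)
    have hYF : Y ≤ Subgroup.normalizer (F : Set G) := le_normalizer_map_char hYL _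
    have hcop : (Nat.card Y).Coprime (Nat.card F) := by
      obtain ⟨n, hn⟩ := IsPGroup.iff_card.1 hY
      rw [hn, hFd, Subgroup.card_map_of_injective L.subtype_injective]
      exact ((coprime_card_fitting hO).pow_right n).symm
    have h := Coprime.commutator_sup_centralizer_eq hYF hcop (Or.inr inferInstance)
    rw [← h]
    exact sup_le_sup (Subgroup.commutator_mono (Subgroup.map_subtype_le _) le_rfl)
      (inf_le_inf_right _ (Subgroup.map_subtype_le _))

/-- `[L,Y] = [L,Y,Y]` once `L = [L,Y] C_L(Y)`. -/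
theorem commutator_commutator_of_sup {L Y : Subgroup G} (hYL : Y ≤ Subgroup.normalizer (L : Set G))
    (h : ⁅L, Y⁆ ⊔ (L ⊓ Subgroup.centralizer (Y : Set G)) = L) : ⁅L, Y⁆ = ⁅⁅L, Y⁆, Y⁆ := by
  have hle := commutator_le_of_le_normalizer hYL
  refine le_antisymm ?_ (Subgroup.commutator_mono hle le_rfl)
  have hL1 : L ≤ Subgroup.normalizer ((⁅L, Y⁆ : Subgroup G) : Set G) := le_normalizer_commutator_left L Y
  have h1 : ⁅L, Y⁆ ≤ Subgroup.normalizer ((⁅⁅L, Y⁆, Y⁆ : Subgroup G) : Set G) := le_normalizer_commutator_left _ Y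
  have h2 : L ⊓ Subgroup.centralizer (Y : Set G) ≤
      Subgroup.normalizer ((⁅⁅L, Y⁆, Y⁆ : Subgroup G) : Set G) :=
    le_normalizer_commutator (inf_le_left.trans hL1) (inf_le_right.trans (Subgroup.centralizer_le_normalizer _))
  conv_lhs => rw [← h]
  refine commutator_sup_le h1 h2 le_rfl ?_
  rw [le_centralizer_iff_commutator.1 (inf_le_right : L ⊓ Subgroup.centralizer (Y : Set G) ≤ _)]
  exact bot_le

/-- Subnormal subgroups of `H` inside `F*(H)` satisfy the hypotheses. -/
theorem genFitting_top_of_subnormal [Finite G] {H L : Subgroup G} (hLH : L ≤ H)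
    (hLF : L ≤ (Cfsg.generalizedFittingSubgroup ↥H).map H.subtype)
    (hsn : (L.subgroupOf H).IsSubnormal) :
    Cfsg.generalizedFittingSubgroup ↥L = ⊤ := by
  have hle : L.subgroupOf H ≤ Cfsg.generalizedFittingSubgroup ↥H := fun x hx => by
    obtain ⟨y, hy, hye⟩ := hLF hx
    rwa [← Subtype.ext hye]
  rw [← Components.map_genFitting_mulEquiv (Subgroup.subgroupOfEquivOfLe hLH),
    Components.genFitting_self_eq_top hsn hle]
  exact Subgroup.map_top_of_surjective _ (Subgroup.subgroupOfEquivOfLe hLH).surjective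

theorem pCore_eq_bot_of_subnormal [Finite G] [Fact p.Prime] {H L : Subgroup G} (hLH : L ≤ H)
    (hO : Cfsg.pCore p ↥H = ⊥) (hsn : (L.subgroupOf H).IsSubnormal) : Cfsg.pCore p ↥L = ⊥ := by
  set e := Subgroup.subgroupOfEquivOfLe hLH
  have h1 := Components.map_pCore_subtype_le p hsn
  rw [hO, le_bot_iff, Subgroup.map_eq_bot_iff_of_injective _ (Subgroup.subtype_injective _)] at h1
  have h2 := Components.map_pCore_le p e.symm
  rw [h1, le_bot_iff, Subgroup.map_eq_bot_iff_of_injective _ e.symm.injective] at h2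
  exact h2

end Cfsg.Agent.Lib.LocalEven

namespace Cfsg.Agent.Lib.LocalEven

universe v

variable {X : Type v} [Group X] [Finite X] {p : ℕ} [hp : Fact p.Prime]

/-- `[L,Y] = [L,Y,Y]` and `L = [L,Y] C_L(Y)` for subnormal `L ≤ F*(X)` when `O_p(X) = 1`. -/
theorem commutator_facts (hO : Cfsg.pCore p X = ⊥) {L Y : Subgroup X} (hL : L.IsSubnormal)
    (hLF : L ≤ Cfsg.generalizedFittingSubgroup X) (hY : IsPGroup p Y)
    (hYL : Y ≤ Subgroup.normalizer (L : Set X)) :
    ⁅L, Y⁆ ⊔ (L ⊓ Subgroup.centralizer (Y : Set X)) = L ∧ ⁅L, Y⁆ = ⁅⁅L, Y⁆, Y⁆ := by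
  have hOL : Cfsg.pCore p ↥L = ⊥ := by
    have h := Components.map_pCore_subtype_le p hL
    rwa [hO, le_bot_iff, Subgroup.map_eq_bot_iff_of_injective _ L.subtype_injective] at h
  have h := commutator_sup_centralizer_of_genFitting (Components.genFitting_self_eq_top hL hLF) hOL hY hYL
  exact ⟨h, commutator_commutator_of_sup hYL h⟩

theorem genFitting_normal : (Cfsg.generalizedFittingSubgroup X).Normal := by
  have h : (Cfsg.generalizedFittingSubgroup X).Characteristic := by
    rw [Subgroup.characteristic_iff_map_eq]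
    exact fun e => Components.map_genFitting_mulEquiv e
  infer_instance

/-- A `p`-subgroup centralizing `F*` is trivial when `O_p = 1`. -/
theorem eq_bot_of_centralizes_genFitting (hO : Cfsg.pCore p X = ⊥) {Y : Subgroup X} (hY : IsPGroup p Y)
    (h : Y ≤ Subgroup.centralizer (Cfsg.generalizedFittingSubgroup X : Set X)) : Y = ⊥ := by
  have h1 : Y ≤ fittingSubgroup X := h.trans Components.centralizer_genFitting_le_fittingSubgroup
  have h2 := (coprime_card_fitting hO).coprime_dvd_left (Subgroup.card_dvd_of_le h1)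
  obtain ⟨n, hn⟩ := IsPGroup.iff_card.1 hY
  refine Subgroup.eq_bot_of_card_eq _ ?_
  rw [hn] at h2 ⊢
  rcases n with _ | n
  · rfl
  · exact absurd ((Nat.coprime_pow_left_iff (Nat.succ_pos n) _ _).1 h2)
      (fun h3 => hp.out.ne_one ((Nat.coprime_self _).1 h3))

/-- `[F*(X), Y] ≤ K` for subnormal `K ≥ Y`. -/
theorem commutator_genFitting_le_of_subnormal (hO : Cfsg.pCore p X = ⊥) {K Y : Subgroup X}
    (hK : K.IsSubnormal) (hY : IsPGroup p Y) (hYK : Y ≤ K) :
    ⁅Cfsg.generalizedFittingSubgroup X, Y⁆ ≤ K := by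
  haveI := genFitting_normal (X := X)
  have he := (commutator_facts hO (genFitting_normal (X := X)).isSubnormal le_rfl hY
    (le_normalizer_of_normal _ _)).2
  induction hK with
  | top => exact le_top
  | step A B hAB _ hn ih =>
    rw [he]
    exact (Subgroup.commutator_mono (ih (hYK.trans hAB)) hYK).trans
      (commutator_le_of_le_normalizer' (le_normalizer_of_subgroupOf_normal hAB hn))

end Cfsg.Agent.Lib.LocalEven
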