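import Cfsg.Agent.Lib.LocalEven.Asymmetric

/-!
Members of `ℌ_G(O_p(M))`.
-/

set_option autoImplicit false

open scoped commutatorElement

namespace Cfsg.Agent.Lib.LocalEven

universe u

variable {G : Type u} [Group G] {p : ℕ} [hp : Fact p.Prime] [Finite G]

/-- If `H = D·O` with `D` normal and `O` a `p`-group, then `O^p(H) ≤ D`. -/
theorem pResOf_le_of_sup_isPGroup {H D O : Subgroup G} (hn : H ≤ Subgroup.normalizer (D : Set G))
    (hO : IsPGroup p O) (e : D ⊔ O = H) : pResOf p H ≤ D := by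
  haveI := subgroupOf_normal_of_le hn
  rw [pResOf_le_iff]
  intro x hx hc
  set f := QuotientGroup.mk' (D.subgroupOf H) with hf
  have htop : D.subgroupOf H ⊔ O.subgroupOf H = ⊤ := by
    rw [← Subgroup.subgroupOf_sup (le_sup_left.trans e.le) (le_sup_right.trans e.le), e,
      Subgroup.subgroupOf_self]
  have hm : f ⟨x, hx⟩ ∈ (O.subgroupOf H).map f := by
    have h1 : f ⟨x, hx⟩ ∈ (D.subgroupOf H ⊔ O.subgroupOf H).map f :=
      Subgroup.mem_map_of_mem f (htop ▸ Subgroup.mem_top _)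
    have hbot : (D.subgroupOf H).map f = ⊥ :=
      (Subgroup.map_eq_bot_iff _).2 (QuotientGroup.ker_mk' _).ge
    rwa [Subgroup.map_sup, hbot, bot_sup_eq] at h1
  obtain ⟨k, hk⟩ := (hO.comap_subtype (K := H)).map f ⟨_, hm⟩
  have h2 : f ⟨x, hx⟩ = 1 := by
    refine eq_one_of_coprime_of_pow (Nat.Coprime.coprime_dvd_left ?_ hc) (congrArg Subtype.val hk)
    refine (orderOf_map_dvd f _).trans ?_
    exact (orderOf_injective H.subtype H.subtype_injective ⟨x, hx⟩).symm ▸ dvd_rfl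
  rw [hf, QuotientGroup.mk'_apply, QuotientGroup.eq_one_iff] at h2
  exact h2

section FrakH

variable {M H : Subgroup G}

theorem frakH_Y_le (hH : Cfsg.IsInFrakH p M H) : Cfsg.largestPReducedOf p M ≤ H :=
  (largestPReducedOf_redIn M).le_pCoreOf.trans hH.2.1

theorem frakH_Y_ne_bot (hH : Cfsg.IsInFrakH p M H) : Cfsg.largestPReducedOf p M ≠ ⊥ :=
  fun e => hH.2.2.1 (e ▸ bot_le)

theorem frakH_le_pCoreOf_of_lt (hH : Cfsg.IsInFrakH p M H) {P : Subgroup G}
    (hOP : Cfsg.pCoreOf p M ≤ P) (hPH : P ≤ H) (hne : P ≠ H) :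
    Cfsg.largestPReducedOf p M ≤ Cfsg.pCoreOf p P :=
  hH.2.2.2 P hOP (lt_of_le_of_ne hPH hne)

/-- `H` is the normal closure of `O_p(M)`. -/
theorem frakH_eq_of_normal (hH : Cfsg.IsInFrakH p M H) {N : Subgroup G} (hNH : N ≤ H)
    (hn : H ≤ Subgroup.normalizer (N : Set G)) (hON : Cfsg.pCoreOf p M ≤ N) : N = H := by
  by_contra hne
  exact hH.2.2.1 ((frakH_le_pCoreOf_of_lt hH hON hNH hne).trans
    (pCoreOf_le_pCoreOf_of_normalized hNH hn))

theorem frakH_sup (hH : Cfsg.IsInFrakH p M H) : pResOf p H ⊔ Cfsg.pCoreOf p M = H := by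
  haveI := pResidual_normal p ↥H
  set f := QuotientGroup.mk' (Cfsg.pResidual p ↥H) with hf
  have hq : IsPGroup p (↥H ⧸ Cfsg.pResidual p ↥H) := by
    intro q
    induction q using QuotientGroup.induction_on with
    | H g =>
      obtain ⟨k, hk⟩ := pow_mem_pResidual (p := p) g
      exact ⟨k, by rw [← QuotientGroup.mk_pow, QuotientGroup.eq_one_iff]; exact hk⟩
  haveI : Group.IsNilpotent (↥H ⧸ Cfsg.pResidual p ↥H) := hq.isNilpotent
  by_cases hA : ((Cfsg.pCoreOf p M).subgroupOf H).map f = ⊤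
  · have h1 := congrArg (Subgroup.comap f) hA
    rw [Subgroup.comap_map_eq, hf, QuotientGroup.ker_mk', Subgroup.comap_top] at h1
    have h2 := congrArg (Subgroup.map H.subtype) h1
    rwa [Subgroup.map_sup, Subgroup.map_subgroupOf_eq_of_le hH.2.1, ← MonoidHom.range_eq_map,
      Subgroup.range_subtype, sup_comm] at h2
  exfalso
  obtain ⟨M0, hM0, hle⟩ := exists_coatom_ge hA
  haveI : M0.Normal := Subgroup.NormalizerCondition.normal_of_coatom M0 Group.normalizerCondition_of_isNilpotent hM0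
  refine hM0.1 ?_
  have h := frakH_eq_of_normal hH (Subgroup.map_subtype_le (M0.comap f)) (map_subtype_le_normalizer _) (by
    rw [← Subgroup.map_subgroupOf_eq_of_le hH.2.1]
    exact Subgroup.map_mono (Subgroup.map_le_iff_le_comap.1 hle))
  rw [eq_top_iff]
  intro q _
  obtain ⟨y, rfl⟩ := QuotientGroup.mk'_surjective _ q
  have hy : (y : G) ∈ (M0.comap f).map H.subtype := by rw [h]; exact y.2
  obtain ⟨z, hz, hzy⟩ := hy
  rwa [← Subtype.ext (show (z : G) = (y : G) from hzy)]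

theorem frakH_normalizes (hH : Cfsg.IsInFrakH p M H) :
    H ≤ Subgroup.normalizer ((⁅pResOf p H, Cfsg.largestPReducedOf p M⁆ : Subgroup G) : Set G) ∧
      H ≤ Subgroup.normalizer
        ((⁅pResOf p H, Cfsg.largestPReducedOf p M⁆ ⊔ Cfsg.largestPReducedOf p M : Subgroup G) : Set G) := by
  set Y := Cfsg.largestPReducedOf p M with hY
  set R := pResOf p H with hR
  have hOY : Cfsg.pCoreOf p M ≤ Subgroup.normalizer (Y : Set G) :=
    (pCoreOf_le M).trans (largestPReducedOf_redIn M).normal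
  have hOR : Cfsg.pCoreOf p M ≤ Subgroup.normalizer (R : Set G) :=
    hH.2.1.trans (self_le_normalizer_pResOf H)
  have h1 : H ≤ Subgroup.normalizer ((⁅R, Y⁆ : Subgroup G) : Set G) := by
    conv_lhs => rw [← frakH_sup hH]
    exact sup_le (le_normalizer_commutator_left R Y) (le_normalizer_commutator hOR hOY)
  refine ⟨h1, ?_⟩
  conv_lhs => rw [← frakH_sup hH]
  refine sup_le ?_ (le_normalizer_sup (hH.2.1.trans h1) hOY)
  rw [le_normalizer_iff_forall]
  have key : ∀ r ∈ R, conjS r (⁅R, Y⁆ ⊔ Y) ≤ ⁅R, Y⁆ ⊔ Y := by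
    intro r hr
    rw [conjS_sup]
    refine sup_le ?_ ?_
    · rw [conjS_eq_self_iff.2 (le_normalizer_commutator_left R Y hr)]
      exact le_sup_left
    · intro x hx
      have hy := mem_conjS.1 hx
      rw [show x = ⁅r, r⁻¹ * x * r⁆ * (r⁻¹ * x * r) by simp [commutatorElement_def, mul_assoc]]
      exact mul_mem (Subgroup.mem_sup_left (Subgroup.commutator_mem_commutator hr hy))
        (Subgroup.mem_sup_right hy)
  intro r hr
  refine le_antisymm (key r hr) ?_
  have := conjS_mono r (key r⁻¹ (inv_mem hr))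
  rwa [conjS_cancel_inv] at this

/-- `O^p(H) = [O^p(H), Y_M]`. -/
theorem frakH_commutator (hH : Cfsg.IsInFrakH p M H) :
    ⁅pResOf p H, Cfsg.largestPReducedOf p M⁆ = pResOf p H := by
  set Y := Cfsg.largestPReducedOf p M with hY
  set R := pResOf p H with hR
  set D := ⁅R, Y⁆ with hD
  have hDR : D ≤ R := commutator_le_of_le_normalizer ((frakH_Y_le hH).trans (self_le_normalizer_pResOf H))
  have hDH : D ≤ H := hDR.trans (pResOf_le H)
  obtain ⟨hn, hn'⟩ := frakH_normalizes hH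
  refine le_antisymm hDR (pResOf_le_of_sup_isPGroup hn (pCoreOf_isPGroup M) ?_)
  by_contra hne
  have hYP := frakH_le_pCoreOf_of_lt hH le_sup_right (sup_le hDH hH.2.1) hne
  have hYO : Y ≤ Cfsg.pCoreOf p M := (largestPReducedOf_redIn M).le_pCoreOf
  have hDY : D ⊔ Y ≤ D ⊔ Cfsg.pCoreOf p M := sup_le_sup_left hYO _
  refine hH.2.2.1 (le_trans ?_ (pCoreOf_le_pCoreOf_of_normalized (sup_le hDH (frakH_Y_le hH)) hn'))
  exact (le_inf hYP le_sup_right).trans (le_pCoreOf inf_le_right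
    (le_normalizer_inf (hDY.trans (le_normalizer_pCoreOf _)) Subgroup.le_normalizer)
    (pCoreOf_isPGroup _).to_inf_left)

end FrakH

end Cfsg.Agent.Lib.LocalEven
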