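import Cfsg.Agent.Lib.LocalEven.WeaklyClosed
import Cfsg.Agent.Lib.LocalEven.Series
import Cfsg.Agent.Lib.LocalEven.Residual
import Cfsg.Prelude.Def_LocalStructure

/-!
The members `L` of `𝔏`: `O_p(L)/(Y ∩ C(L))` is split by any two generating conjugates of `Y ∩ O_p(L)`, and
elements of `L` that are not `p`-elements act on it without fixed points.
-/

set_option autoImplicit false

open scoped commutatorElement

namespace Cfsg.Agent.Lib.LocalEven

universe u v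

/-- What is used about the image of `Y` in `L / O_p(L)`. -/
structure GoodPair (p : ℕ) {X : Type v} [Group X] (A : Subgroup X) : Prop where
  ti : ∀ x : X, ∀ a ∈ A, a ≠ 1 → a ∈ Subgroup.normalizer (conjS x A : Set X) → conjS x A = A
  pair : ∀ h : X, ∀ r : ℕ, r.Prime → r ≠ p → orderOf h = r →
    (∃ x y : X, ∃ a ∈ conjS x A, ∃ b ∈ conjS y A, h = a * b) ∨
      ((∀ z : X, Commute h z) ∧ ∃ k : X, ∃ u ∈ conjS k A, ∃ x y : X, ∃ a ∈ conjS x A, ∃ b ∈ conjS y A,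
        h * u = a * b)
  uniq : ∀ V : Subgroup X, Cfsg.IsElementaryAbelian p V → V ≠ ⊥ → V ≤ Subgroup.normalizer (A : Set X) →
    Subgroup.normalizer (A : Set X) ≤ Subgroup.normalizer (V : Set X) → V = A

variable {G : Type u} [Group G] {p : ℕ} {X : Type v} [Group X]

/-- The data extracted from `L ∈ 𝔏`. -/
structure FLData (p : ℕ) (L Y : Subgroup G) (π : ↥L →* X) : Prop where
  hYL : Y ≤ L
  hYe : Cfsg.IsElementaryAbelian p Y
  hR : Cfsg.pCoreOf p L =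
    (Subgroup.normalClosure (((Y ⊓ Cfsg.pCoreOf p L).subgroupOf L : Subgroup ↥L) : Set ↥L)).map L.subtype
  hRY : Cfsg.pCoreOf p L ≤ Subgroup.normalizer (Y : Set G)
  hnc : Subgroup.normalClosure ((Y.subgroupOf L : Subgroup ↥L) : Set ↥L) = ⊤
  hlt : L ⊓ Subgroup.normalizer (Y : Set G) < L
  huniq : ∀ X : Subgroup G, Y ≤ X → X < L → X ≤ L ⊓ Subgroup.normalizer (Y : Set G)
  surj : Function.Surjective π
  ker : π.ker = Cfsg.pCore p ↥L
  good : GoodPair p ((Y.subgroupOf L).map π)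

namespace FLData

variable [Fact p.Prime] [Finite G] {L Y : Subgroup G} {π : ↥L →* X}

theorem hYp (P : FLData p L Y π) : IsPGroup p Y := fun y => ⟨1, Subtype.ext (by
  rw [SubgroupClass.coe_pow, pow_one]; exact P.hYe.2 y y.2)⟩

theorem conjL (_P : FLData p L Y π) {c : G} (hc : c ∈ L) (R : Subgroup G)
    (hR : L ≤ Subgroup.normalizer (R : Set G)) : conjS c R = R := conjS_eq_self_iff.2 (hR hc)

theorem conjY_le (P : FLData p L Y π) {c : G} (hc : c ∈ L) : conjS c Y ≤ L := conjS_le_of_mem P.hYL hc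

theorem conjY_comm (P : FLData p L Y π) (c : G) :
    conjS c Y ≤ Subgroup.centralizer (conjS c Y : Set G) := by
  rw [← conjS_centralizer]
  refine conjS_mono c ?_
  rw [Subgroup.le_centralizer_iff_isMulCommutative]
  exact P.hYe.1

theorem conjY_pgroup (P : FLData p L Y π) (c : G) : IsPGroup p (conjS c Y) := P.hYp.map _

theorem R_normalizes (P : FLData p L Y π) {c : G} (hc : c ∈ L) :
    Cfsg.pCoreOf p L ≤ Subgroup.normalizer (conjS c Y : Set G) := by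
  have := conjS_mono c P.hRY
  rwa [P.conjL hc _ (le_normalizer_pCoreOf L), conjS_normalizer] at this

theorem uniq_conj (P : FLData p L Y π) {c : G} (hc : c ∈ L) {J : Subgroup G} (hYJ : conjS c Y ≤ J)
    (hJ : J ≤ L) (hne : J ≠ L) : J ≤ Subgroup.normalizer (conjS c Y : Set G) := by
  have h1 : Y ≤ conjS c⁻¹ J := by
    have := conjS_mono c⁻¹ hYJ
    rwa [conjS_inv_cancel] at this
  have h2 : conjS c⁻¹ J < L := lt_of_le_of_ne
    ((conjS_mono _ hJ).trans (conjS_mem_eq_self (inv_mem hc)).le) fun e => hne (by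
      have := congrArg (conjS c) e
      rwa [conjS_cancel_inv, conjS_mem_eq_self hc] at this)
  have := conjS_mono c ((P.huniq _ h1 h2).trans inf_le_right)
  rwa [conjS_cancel_inv, conjS_normalizer] at this

theorem not_normalizer (P : FLData p L Y π) {c : G} (hc : c ∈ L) :
    ¬ L ≤ Subgroup.normalizer (conjS c Y : Set G) := by
  intro h
  refine P.hlt.ne (inf_eq_left.2 ?_)
  have := conjS_mono c⁻¹ h
  rwa [conjS_mem_eq_self (inv_mem hc), conjS_normalizer, conjS_inv_cancel] at this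

theorem not_isPGroup (P : FLData p L Y π) : ¬ IsPGroup p L := by
  intro h
  have e : L ≤ Cfsg.pCoreOf p L := le_pCoreOf le_rfl Subgroup.le_normalizer h
  exact P.hlt.ne (inf_eq_left.2 (e.trans P.hRY))

theorem pgroup_le_normalizer (P : FLData p L Y π) {c : G} (hc : c ∈ L) {J : Subgroup G}
    (hJp : IsPGroup p J) (hYJ : conjS c Y ≤ J) (hJ : J ≤ L) :
    J ≤ Subgroup.normalizer (conjS c Y : Set G) :=
  P.uniq_conj hc hYJ hJ fun e => P.not_isPGroup (e ▸ hJp)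

theorem gen_of_not_le (P : FLData p L Y π) {c d : G} (hc : c ∈ L) (hd : d ∈ L)
    (h : ¬ conjS d Y ≤ Subgroup.normalizer (conjS c Y : Set G)) : conjS c Y ⊔ conjS d Y = L := by
  by_contra hne
  exact h (le_sup_right.trans (P.uniq_conj hc le_sup_left (sup_le (P.conjY_le hc) (P.conjY_le hd)) hne))

theorem exists_gen (P : FLData p L Y π) {c : G} (hc : c ∈ L) :
    ∃ d ∈ L, conjS c Y ⊔ conjS d Y = L := by
  by_contra hne
  push Not at hne
  refine P.not_normalizer hc ?_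
  have key : ∀ d ∈ L, conjS d Y ≤ Subgroup.normalizer (conjS c Y : Set G) := fun d hd => by
    by_contra h
    exact hne d hd (P.gen_of_not_le hc hd h)
  have h2 : Subgroup.normalClosure ((Y.subgroupOf L : Subgroup ↥L) : Set ↥L) ≤
      (Subgroup.normalizer (conjS c Y : Set G)).subgroupOf L := by
    refine (Subgroup.closure_le _).2 ?_
    rintro x hx
    obtain ⟨y, hy, hxy⟩ := Group.mem_conjugatesOfSet_iff.1 hx
    obtain ⟨l, rfl⟩ := isConj_iff.1 hxy
    exact Subgroup.mem_subgroupOf.2 (key l l.2 (conj_mem_conjS (Subgroup.mem_subgroupOf.1 hy)))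
  rw [P.hnc, top_le_iff, Subgroup.subgroupOf_eq_top] at h2
  exact h2

theorem not_le_core (P : FLData p L Y π) : ¬ Y ≤ Cfsg.pCoreOf p L := by
  intro h
  refine P.not_isPGroup ((pCoreOf_isPGroup L).to_le ?_)
  obtain ⟨d, hd, e⟩ := P.exists_gen (one_mem L)
  refine e.ge.trans (sup_le ((conjS_one Y).le.trans h) ?_)
  exact (conjS_mono d h).trans (P.conjL hd _ (le_normalizer_pCoreOf L)).le

theorem commutator_R_le (P : FLData p L Y π) {c : G} (hc : c ∈ L) :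
    ⁅Cfsg.pCoreOf p L, conjS c Y⁆ ≤ conjS c Y ⊓ Cfsg.pCoreOf p L :=
  le_inf (commutator_le_of_le_normalizer' (P.R_normalizes hc))
    (commutator_le_of_le_normalizer ((P.conjY_le hc).trans (le_normalizer_pCoreOf L)))

theorem cover (P : FLData p L Y π) {c d : G} (hc : c ∈ L) (hd : d ∈ L)
    (hg : conjS c Y ⊔ conjS d Y = L) :
    Cfsg.pCoreOf p L = (conjS c Y ⊓ Cfsg.pCoreOf p L) ⊔ (conjS d Y ⊓ Cfsg.pCoreOf p L) := by
  set R := Cfsg.pCoreOf p L with hRdef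
  set Γ := (conjS c Y ⊓ R) ⊔ (conjS d Y ⊓ R) with hΓ
  have hΓR : Γ ≤ R := sup_le inf_le_right inf_le_right
  refine le_antisymm ?_ hΓR
  have hn : L ≤ Subgroup.normalizer (Γ : Set G) := by
    refine hg.ge.trans (sup_le ?_ ?_) <;>
      refine le_normalizer_of_commutator_le ((Subgroup.commutator_mono hΓR le_rfl).trans ?_)
    · exact (P.commutator_R_le hc).trans le_sup_left
    · exact (P.commutator_R_le hd).trans le_sup_right
  have hcY : conjS c (Y ⊓ R) ≤ Γ := by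
    rw [conjS_inf, P.conjL hc _ (le_normalizer_pCoreOf L)]
    exact le_sup_left
  have hY : Y ⊓ R ≤ Γ := by
    have := conjS_mono c⁻¹ hcY
    rwa [conjS_inv_cancel, P.conjL (inv_mem hc) _ hn] at this
  refine P.hR.le.trans ?_
  haveI := subgroupOf_normal_of_le hn
  exact Subgroup.map_le_iff_le_comap.2
    (Subgroup.normalClosure_le_normal (N := Γ.subgroupOf L) fun x hx => hY hx)

theorem central_conj (_P : FLData p L Y π) {c z : G} (hc : c ∈ L)
    (hz : z ∈ Y ⊓ Subgroup.centralizer (L : Set G)) : z ∈ conjS c Y := by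
  obtain ⟨h1, h2⟩ := Subgroup.mem_inf.1 hz
  have := conj_mem_conjS (g := c) h1
  rwa [Subgroup.mem_centralizer_iff.1 h2 c hc, mul_inv_cancel_right] at this

theorem central_le (P : FLData p L Y π) :
    Y ⊓ Subgroup.centralizer (L : Set G) ≤ Cfsg.pCoreOf p L := by
  refine le_pCoreOf (inf_le_left.trans P.hYL) ?_ P.hYp.to_inf_left
  rw [le_normalizer_iff_forall]
  intro l hl
  refine Subgroup.eq_of_le_of_card_ge (fun x hx => ?_) (by rw [card_conjS])
  have h1 := mem_conjS.1 hx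
  have h2 := Subgroup.mem_centralizer_iff.1 (Subgroup.mem_inf.1 h1).2 l hl
  have e : x = l⁻¹ * x * l := by
    have : x = l * (l⁻¹ * x * l) * l⁻¹ := by group
    rwa [h2, mul_inv_cancel_right] at this
  exact e ▸ h1

theorem inter_le (P : FLData p L Y π) {c d : G} (hc : c ∈ L)
    (hg : conjS c Y ⊔ conjS d Y = L) :
    conjS c Y ⊓ conjS d Y ≤ Y ⊓ Subgroup.centralizer (L : Set G) := by
  intro x hx
  obtain ⟨h1, h2⟩ := Subgroup.mem_inf.1 hx
  have hA : L ≤ Subgroup.centralizer ({x} : Set G) := hg.ge.trans (sup_le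
    (fun z hz => Subgroup.mem_centralizer_singleton_iff.2 (Subgroup.mem_centralizer_iff.1 (P.conjY_comm c h1) z hz))
    (fun z hz => Subgroup.mem_centralizer_singleton_iff.2 (Subgroup.mem_centralizer_iff.1 (P.conjY_comm d h2) z hz)))
  have hxC : x ∈ Subgroup.centralizer (L : Set G) :=
    Subgroup.mem_centralizer_iff.2 fun z hz => Subgroup.mem_centralizer_singleton_iff.1 (hA hz)
  refine Subgroup.mem_inf.2 ⟨?_, hxC⟩
  have h3 := Subgroup.mem_centralizer_iff.1 hxC c hc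
  have := mem_conjS.1 h1
  rwa [mul_assoc, ← h3, inv_mul_cancel_left] at this

theorem commutator_R (P : FLData p L Y π) :
    ⁅Cfsg.pCoreOf p L, Cfsg.pCoreOf p L⁆ ≤ Y ⊓ Subgroup.centralizer (L : Set G) := by
  obtain ⟨d, hd, hg⟩ := P.exists_gen (one_mem L)
  set D1 := conjS 1 Y ⊓ Cfsg.pCoreOf p L with hD1
  set D2 := conjS d Y ⊓ Cfsg.pCoreOf p L with hD2
  set Z := Y ⊓ Subgroup.centralizer (L : Set G) with hZ
  have hn : ∀ H : Subgroup G, H ≤ L → H ≤ Subgroup.normalizer (Z : Set G) := fun H hH x hx => by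
    rw [Subgroup.mem_normalizer_iff]
    intro z
    constructor
    · intro hz
      rwa [Subgroup.mem_centralizer_iff.1 (Subgroup.mem_inf.1 hz).2 x (hH hx), mul_inv_cancel_right]
    · intro hz
      have := Subgroup.mem_centralizer_iff.1 (Subgroup.mem_inf.1 hz).2 x (hH hx)
      have e : z = x * z * x⁻¹ := by
        calc z = x⁻¹ * ((x * z * x⁻¹) * x) := by group
          _ = x⁻¹ * (x * (x * z * x⁻¹)) := by rw [this]
          _ = x * z * x⁻¹ := by group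
      exact e ▸ hz
  have hD : ∀ e : G, conjS e Y ⊓ Cfsg.pCoreOf p L ≤ L := fun _ => inf_le_right.trans (pCoreOf_le L)
  have h11 : ⁅D1, D1⁆ ≤ Z := (le_centralizer_iff_commutator.1
    (inf_le_left.trans ((P.conjY_comm 1).trans (Subgroup.centralizer_le inf_le_left)))).le.trans bot_le
  have h22 : ⁅D2, D2⁆ ≤ Z := (le_centralizer_iff_commutator.1
    (inf_le_left.trans ((P.conjY_comm d).trans (Subgroup.centralizer_le inf_le_left)))).le.trans bot_le
  have h12 : ⁅D1, D2⁆ ≤ Z := by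
    refine le_trans (le_inf ?_ ?_) (P.inter_le (one_mem L) hg)
    · refine (Subgroup.commutator_mono inf_le_left inf_le_right).trans ?_
      rw [Subgroup.commutator_comm]
      exact (P.commutator_R_le (one_mem L)).trans inf_le_left
    · exact (Subgroup.commutator_mono inf_le_right inf_le_left).trans
        ((P.commutator_R_le hd).trans inf_le_left)
  have h21 : ⁅D2, D1⁆ ≤ Z := (Subgroup.commutator_comm _ _).le.trans h12
  rw [P.cover (one_mem L) hd hg]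
  refine commutator_sup_le (hn _ (hD 1)) (hn _ (hD d)) ?_ ?_ <;> rw [Subgroup.commutator_comm] <;>
    refine commutator_sup_le (hn _ (hD 1)) (hn _ (hD d)) ?_ ?_
  · exact h11
  · exact h21
  · exact h12
  · exact h22

/-- The elements of `L` fixing `a` modulo `Y ∩ C(L)`. -/
def fixer (L Y : Subgroup G) (a : G) : Subgroup G where
  carrier := {l | l ∈ L ∧ ⁅l, a⁆ ∈ Y ⊓ Subgroup.centralizer (L : Set G)}
  one_mem' := ⟨one_mem _, by rw [commutatorElement_one_left]; exact one_mem _⟩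
  mul_mem' := fun {x y} hx hy => ⟨mul_mem hx.1 hy.1, by
    have e := Subgroup.mem_centralizer_iff.1 (Subgroup.mem_inf.1 hy.2).2 x hx.1
    rw [show ⁅x * y, a⁆ = x * ⁅y, a⁆ * x⁻¹ * ⁅x, a⁆ by simp [commutatorElement_def, mul_assoc], e,
      mul_inv_cancel_right]
    exact mul_mem hy.2 hx.2⟩
  inv_mem' := fun {x} hx => ⟨inv_mem hx.1, by
    have e := Subgroup.mem_centralizer_iff.1 (Subgroup.mem_inf.1 hx.2).2 x⁻¹ (inv_mem hx.1)
    have e2 : ⁅x⁻¹, a⁆ = (x⁻¹ * ⁅x, a⁆ * x)⁻¹ := by simp [commutatorElement_def, mul_assoc]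
    rw [e2, e, inv_mul_cancel_right]
    exact inv_mem hx.2⟩

theorem mem_fixer {a l : G} :
    l ∈ fixer L Y a ↔ l ∈ L ∧ ⁅l, a⁆ ∈ Y ⊓ Subgroup.centralizer (L : Set G) := Iff.rfl

theorem fixer_le (L Y : Subgroup G) (a : G) : fixer L Y a ≤ L := fun _ h => h.1

theorem R_le_fixer (P : FLData p L Y π) {a : G} (ha : a ∈ Cfsg.pCoreOf p L) :
    Cfsg.pCoreOf p L ≤ fixer L Y a :=
  fun _ hw => ⟨pCoreOf_le L hw, P.commutator_R (Subgroup.commutator_mem_commutator hw ha)⟩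

theorem resY (P : FLData p L Y π) {c : G} (hc : c ∈ L) : pResOf p L ⊔ conjS c Y = L := by
  by_contra hne
  have h1 := P.uniq_conj hc le_sup_right (sup_le (pResOf_le L) (P.conjY_le hc)) hne
  obtain ⟨T, hT, hYT⟩ := exists_isSylowOf_le (P.conjY_le hc) (P.conjY_pgroup c)
  exact P.not_normalizer hc ((pResOf_sup_sylow hT).ge.trans
    (sup_le (le_sup_left.trans h1) (P.pgroup_le_normalizer hc hT.isPGroup hYT hT.le)))

theorem pi_eq_one (P : FLData p L Y π) (x : ↥L) : π x = 1 ↔ (x : G) ∈ Cfsg.pCoreOf p L := by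
  rw [← MonoidHom.mem_ker, P.ker]
  exact ⟨fun h => ⟨x, h, rfl⟩, fun ⟨z, hz, e⟩ => L.subtype_injective e ▸ hz⟩

theorem pi_mem_conj (P : FLData p L Y π) {c : G} (hc : c ∈ L) {y : G} (hy : y ∈ conjS c Y) :
    π ⟨y, P.conjY_le hc hy⟩ ∈ conjS (π ⟨c, hc⟩) ((Y.subgroupOf L).map π) := by
  have h1 := mem_conjS.1 hy
  refine mem_conjS.2 ⟨⟨_, P.hYL h1⟩, h1, ?_⟩
  rw [← map_inv, ← map_mul, ← map_mul]
  rfl

theorem exists_lift (P : FLData p L Y π) {c : G} (hc : c ∈ L) {a : X}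
    (ha : a ∈ conjS (π ⟨c, hc⟩) ((Y.subgroupOf L).map π)) :
    ∃ y, ∃ hy : y ∈ conjS c Y, π ⟨y, P.conjY_le hc hy⟩ = a := by
  obtain ⟨y, hy, e⟩ := mem_conjS.1 ha
  refine ⟨c * y * c⁻¹, conj_mem_conjS hy, ?_⟩
  rw [show (⟨c * y * c⁻¹, P.conjY_le hc (conj_mem_conjS hy)⟩ : ↥L) = ⟨c, hc⟩ * y * ⟨c, hc⟩⁻¹ from rfl,
    map_mul, map_mul, e, map_inv]
  group

theorem le_sup_of_image_eq (P : FLData p L Y π) {c d : G} (hc : c ∈ L) (hd : d ∈ L)
    (e : conjS (π ⟨c, hc⟩) ((Y.subgroupOf L).map π) = conjS (π ⟨d, hd⟩) ((Y.subgroupOf L).map π)) :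
    conjS d Y ≤ conjS c Y ⊔ Cfsg.pCoreOf p L := by
  intro y hy
  obtain ⟨y', hy', e'⟩ := P.exists_lift hc (e.ge (P.pi_mem_conj hd hy))
  have h1 : y'⁻¹ * y ∈ Cfsg.pCoreOf p L := by
    refine (P.pi_eq_one (⟨y', P.conjY_le hc hy'⟩⁻¹ * ⟨y, P.conjY_le hd hy⟩)).1 ?_
    rw [map_mul, map_inv, e', inv_mul_cancel]
  rw [show y = y' * (y'⁻¹ * y) by group]
  exact mul_mem (Subgroup.mem_sup_left hy') (Subgroup.mem_sup_right h1)

theorem sup_R_pgroup (P : FLData p L Y π) {c : G} (hc : c ∈ L) :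
    IsPGroup p ↥(conjS c Y ⊔ Cfsg.pCoreOf p L) :=
  (P.conjY_pgroup c).to_sup_of_normal_right' (pCoreOf_isPGroup L)
    ((P.conjY_le hc).trans (le_normalizer_pCoreOf L))

theorem gen_of_mem_normalizer (P : FLData p L Y π) {c d : G} (hc : c ∈ L) (hd : d ∈ L) {y : G}
    (hy : y ∈ conjS d Y) (hyR : y ∉ Cfsg.pCoreOf p L)
    (hn : y ∈ Subgroup.normalizer (conjS c Y : Set G)) :
    conjS (π ⟨c, hc⟩) ((Y.subgroupOf L).map π) = conjS (π ⟨d, hd⟩) ((Y.subgroupOf L).map π) := by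
  set A := (Y.subgroupOf L).map π with hA
  have hym := P.pi_mem_conj hd hy
  have hne : π ⟨y, P.conjY_le hd hy⟩ ≠ 1 := fun e => hyR ((P.pi_eq_one _).1 e)
  have hN : π ⟨y, P.conjY_le hd hy⟩ ∈ Subgroup.normalizer (conjS (π ⟨c, hc⟩) A : Set X) := by
    have e : conjS (π ⟨c, hc⟩) A = ((conjS c Y).subgroupOf L).map π := by
      refine le_antisymm (fun a ha => ?_) ?_
      · obtain ⟨y', hy', e'⟩ := P.exists_lift hc ha
        exact ⟨_, hy', e'⟩
      · rintro _ ⟨z, hz, rfl⟩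
        exact P.pi_mem_conj hc hz
    rw [e]
    refine Subgroup.le_normalizer_map π ⟨⟨y, P.conjY_le hd hy⟩, ?_, rfl⟩
    rw [SetLike.mem_coe, Subgroup.mem_normalizer_iff]
    intro z
    exact Subgroup.mem_normalizer_iff.1 hn z
  have h1 := P.good.ti ((π ⟨d, hd⟩)⁻¹ * π ⟨c, hc⟩) ((π ⟨d, hd⟩)⁻¹ * π ⟨y, P.conjY_le hd hy⟩ * π ⟨d, hd⟩)
    (mem_conjS.1 hym) (fun e => hne ?_) ?_
  · have := congrArg (conjS (π ⟨d, hd⟩)) h1
    rwa [← conjS_mul, mul_inv_cancel_left] at this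
  · calc π ⟨y, P.conjY_le hd hy⟩
        = π ⟨d, hd⟩ * ((π ⟨d, hd⟩)⁻¹ * π ⟨y, P.conjY_le hd hy⟩ * π ⟨d, hd⟩) * (π ⟨d, hd⟩)⁻¹ := by group
      _ = 1 := by rw [e, mul_one, mul_inv_cancel]
  · rw [conjS_mul, ← conjS_normalizer]
    have := conj_mem_conjS (g := (π ⟨d, hd⟩)⁻¹) hN
    rwa [inv_inv] at this

/-- A conjugate of `Y ∩ R` is the whole fixed space of each of its elements outside `R`. -/
theorem fixed_mem (P : FLData p L Y π) {c : G} (hc : c ∈ L) {y x : G} (hy : y ∈ conjS c Y)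
    (hyR : y ∉ Cfsg.pCoreOf p L) (hx : x ∈ Cfsg.pCoreOf p L)
    (h : ⁅y, x⁆ ∈ Y ⊓ Subgroup.centralizer (L : Set G)) : x ∈ conjS c Y := by
  obtain ⟨d, hd, hg⟩ := P.exists_gen hc
  have hDn : conjS c Y ⊓ Cfsg.pCoreOf p L ≤
      Subgroup.normalizer ((conjS d Y ⊓ Cfsg.pCoreOf p L : Subgroup G) : Set G) :=
    inf_le_right.trans (le_normalizer_inf (P.R_normalizes hd) Subgroup.le_normalizer)
  rw [P.cover hc hd hg, ← SetLike.mem_coe, Subgroup.coe_mul_of_left_le_normalizer_right _ _ hDn] at hx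
  obtain ⟨d0, hd0, e, he, rfl⟩ := Set.mem_mul.1 hx
  obtain ⟨hd0Y, hd0R⟩ := Subgroup.mem_inf.1 hd0
  obtain ⟨heY, heR⟩ := Subgroup.mem_inf.1 he
  refine mul_mem hd0Y ?_
  have hze : ⁅y, e⁆ ∈ Y ⊓ Subgroup.centralizer (L : Set G) := by
    have e1 : ⁅y, d0⁆ = 1 := commutatorElement_eq_one_iff_commute.2
      (Subgroup.mem_centralizer_iff.1 (P.conjY_comm c hd0Y) y hy)
    have e2 : ⁅y, d0 * e⁆ = ⁅y, d0⁆ * (d0 * ⁅y, e⁆ * d0⁻¹) := by simp [commutatorElement_def, mul_assoc]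
    rw [e2, e1, one_mul] at h
    have e3 := Subgroup.mem_centralizer_iff.1 (Subgroup.mem_inf.1 h).2 d0 (pCoreOf_le L hd0R)
    have e4 : ⁅y, e⁆ = d0⁻¹ * (d0 * ⁅y, e⁆ * d0⁻¹ * d0) := by group
    rw [e4, ← e3, inv_mul_cancel_left]
    exact h
  have hfix : L ≤ fixer L Y e := by
    have hle : Subgroup.zpowers y ⊔ conjS d Y ≤ fixer L Y e := by
      refine sup_le (Subgroup.zpowers_le.2 ⟨P.conjY_le hc hy, hze⟩) fun z hz => ⟨P.conjY_le hd hz, ?_⟩
      rw [commutatorElement_eq_one_iff_commute.2 (Subgroup.mem_centralizer_iff.1 (P.conjY_comm d heY) z hz)]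
      exact one_mem _
    refine le_trans ?_ hle
    by_contra hne
    have h2 := P.uniq_conj hd le_sup_right
      (sup_le (Subgroup.zpowers_le.2 (P.conjY_le hc hy)) (P.conjY_le hd)) fun e' => hne e'.ge
    have h3 := P.gen_of_mem_normalizer hd hc hy hyR (h2 (Subgroup.mem_sup_left (Subgroup.mem_zpowers y)))
    exact P.not_normalizer hd (hg.ge.trans (sup_le
      ((P.le_sup_of_image_eq hd hc h3).trans (sup_le Subgroup.le_normalizer (P.R_normalizes hd)))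
      Subgroup.le_normalizer))
  have hA : L ≤ Subgroup.centralizer ({e} : Set G) := by
    refine (P.resY hd).ge.trans (sup_le (pResOf_le_iff.2 fun z hz hzc => ?_) fun z hz => ?_)
    · refine Subgroup.mem_centralizer_singleton_iff.2 ?_
      obtain ⟨-, hm⟩ := hfix hz
      rw [commutatorElement_def] at hm
      exact (commute_mem_of_coprime_stab (pCoreOf_isPGroup L) hzc (P.central_le hm)
        (Subgroup.mem_centralizer_singleton_iff.2
          (Subgroup.mem_centralizer_iff.1 (Subgroup.mem_inf.1 hm).2 z hz).symm)).eq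
    · exact Subgroup.mem_centralizer_singleton_iff.2 (Subgroup.mem_centralizer_iff.1 (P.conjY_comm d heY) z hz)
  have heC : e ∈ Subgroup.centralizer (L : Set G) :=
    Subgroup.mem_centralizer_iff.2 fun z hz => Subgroup.mem_centralizer_singleton_iff.1 (hA hz)
  refine P.central_conj hc (Subgroup.mem_inf.2 ⟨?_, heC⟩)
  have h3 := mem_conjS.1 heY
  rwa [mul_assoc, ← Subgroup.mem_centralizer_iff.1 heC d hd, inv_mul_cancel_left] at h3

/-- An element congruent to a product from two conjugates of `Y`, not a `p`-element, has no fixed points. -/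
theorem prod_fixed (P : FLData p L Y π) {c d : G} (hc : c ∈ L) (hd : d ∈ L) {u v h a : G}
    (hu : u ∈ conjS c Y) (hv : v ∈ conjS d Y) (hw : (u * v)⁻¹ * h ∈ Cfsg.pCoreOf p L)
    (hnp : ¬ ∃ k : ℕ, h ^ p ^ k = 1) (ha : a ∈ Cfsg.pCoreOf p L) (hfix : h ∈ fixer L Y a) :
    a ∈ Y ⊓ Subgroup.centralizer (L : Set G) := by
  set R := Cfsg.pCoreOf p L with hR
  have hpc : ∀ {e : G}, e ∈ L → h ∉ conjS e Y ⊔ R := by
    intro e he hmem
    obtain ⟨k, hk⟩ := P.sup_R_pgroup he ⟨h, hmem⟩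
    exact hnp ⟨k, congrArg Subtype.val hk⟩
  have hrw : h = u * v * ((u * v)⁻¹ * h) := by group
  have huR : u ∉ R := fun h' => hpc hd (hrw ▸ mul_mem
    (mul_mem (Subgroup.mem_sup_right h') (Subgroup.mem_sup_left hv)) (Subgroup.mem_sup_right hw))
  have hvR : v ∉ R := fun h' => hpc hc (hrw ▸ mul_mem
    (mul_mem (Subgroup.mem_sup_left hu) (Subgroup.mem_sup_right h')) (Subgroup.mem_sup_right hw))
  have hg : conjS c Y ⊔ conjS d Y = L := P.gen_of_not_le hc hd fun hle =>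
    hpc hc (hrw ▸ mul_mem (mul_mem (Subgroup.mem_sup_left hu)
      (P.le_sup_of_image_eq hc hd (P.gen_of_mem_normalizer hc hd hv hvR (hle hv)) hv))
      (Subgroup.mem_sup_right hw))
  obtain ⟨-, huv⟩ : u * v ∈ fixer L Y a := by
    have := mul_mem hfix (inv_mem (P.R_le_fixer ha hw))
    rwa [show h * ((u * v)⁻¹ * h)⁻¹ = u * v by group] at this
  rw [show ⁅u * v, a⁆ = u * ⁅v, a⁆ * u⁻¹ * ⁅u, a⁆ by simp [commutatorElement_def, mul_assoc]] at huv
  have hDc : ⁅u, a⁆ ∈ conjS c Y :=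
    ((Subgroup.commutator_comm _ _).le.trans ((P.commutator_R_le hc).trans inf_le_left))
      (Subgroup.commutator_mem_commutator hu ha)
  have hDd : ⁅v, a⁆ ∈ conjS d Y :=
    ((Subgroup.commutator_comm _ _).le.trans ((P.commutator_R_le hd).trans inf_le_left))
      (Subgroup.commutator_mem_commutator hv ha)
  have hvc : ⁅v, a⁆ ∈ conjS c Y := by
    rw [show ⁅v, a⁆ = u⁻¹ * ((u * ⁅v, a⁆ * u⁻¹ * ⁅u, a⁆) * ⁅u, a⁆⁻¹) * u by group]
    exact mul_mem (mul_mem (inv_mem hu) (mul_mem (P.central_conj hc huv) (inv_mem hDc))) hu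
  have hvZ := P.inter_le hc hg (Subgroup.mem_inf.2 ⟨hvc, hDd⟩)
  have huZ : ⁅u, a⁆ ∈ Y ⊓ Subgroup.centralizer (L : Set G) := by
    rw [Subgroup.mem_centralizer_iff.1 (Subgroup.mem_inf.1 hvZ).2 u (P.conjY_le hc hu),
      mul_inv_cancel_right] at huv
    exact (mul_mem_cancel_left hvZ).1 huv
  exact P.inter_le hc hg
    (Subgroup.mem_inf.2 ⟨P.fixed_mem hc hu huR ha huZ, P.fixed_mem hd hv hvR ha hvZ⟩)

theorem prod_of_pi (P : FLData p L Y π) {h a : G} (hh : h ∈ L) {x y α β : X}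
    (hα : α ∈ conjS x ((Y.subgroupOf L).map π)) (hβ : β ∈ conjS y ((Y.subgroupOf L).map π))
    (e : π ⟨h, hh⟩ = α * β) (hnp : ¬ ∃ k : ℕ, h ^ p ^ k = 1) (ha : a ∈ Cfsg.pCoreOf p L)
    (hfix : h ∈ fixer L Y a) : a ∈ Y ⊓ Subgroup.centralizer (L : Set G) := by
  obtain ⟨⟨c, hc⟩, rfl⟩ := P.surj x
  obtain ⟨⟨d, hd⟩, rfl⟩ := P.surj y
  obtain ⟨u, hu, rfl⟩ := P.exists_lift hc hα
  obtain ⟨v, hv, rfl⟩ := P.exists_lift hd hβ
  refine P.prod_fixed hc hd hu hv ?_ hnp ha hfix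
  refine (P.pi_eq_one ((⟨u, P.conjY_le hc hu⟩ * ⟨v, P.conjY_le hd hv⟩)⁻¹ * ⟨h, hh⟩)).1 ?_
  rw [map_mul, map_inv, map_mul, ← e, inv_mul_cancel]

/-- Elements that are not `p`-elements have no fixed points on `O_p(L)` modulo `Y ∩ C(L)`. -/
theorem fpf (P : FLData p L Y π) {h a : G} (hnp : ¬ ∃ k : ℕ, orderOf h = p ^ k)
    (ha : a ∈ Cfsg.pCoreOf p L) (hfix : h ∈ fixer L Y a) :
    a ∈ Y ⊓ Subgroup.centralizer (L : Set G) := by
  have hpos : 0 < orderOf h := orderOf_pos h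
  have hr : ∃ r, r.Prime ∧ r ∣ orderOf h ∧ r ≠ p := by
    by_contra hc
    push Not at hc
    exact hnp ⟨_, Nat.eq_prime_pow_of_unique_prime_dvd hpos.ne' fun {q} hq hd => hc q hq hd⟩
  obtain ⟨r, hr, hrd, hrp⟩ := hr
  set h0 := h ^ (orderOf h / r) with hh0
  have ho : orderOf h0 = r := orderOf_pow_orderOf_div hpos.ne' hrd
  have hfix0 : h0 ∈ fixer L Y a := pow_mem hfix _
  have h0L : h0 ∈ L := hfix0.1
  have hnp0 : ∀ k : ℕ, h0 ^ p ^ k ≠ 1 := by
    intro k e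
    have h1 := orderOf_dvd_of_pow_eq_one e
    rw [ho] at h1
    exact hrp ((Nat.prime_dvd_prime_iff_eq hr Fact.out).1 (hr.dvd_of_dvd_pow h1))
  have h0R : h0 ∉ Cfsg.pCoreOf p L := fun hm => by
    obtain ⟨k, hk⟩ := pCoreOf_isPGroup L ⟨h0, hm⟩
    exact hnp0 k (congrArg Subtype.val hk)
  have hoπ : orderOf (π ⟨h0, h0L⟩) = r := by
    have : Fact r.Prime := ⟨hr⟩
    refine orderOf_eq_prime ?_ fun e => h0R ((P.pi_eq_one _).1 e)
    rw [← map_pow, show (⟨h0, h0L⟩ : ↥L) ^ r = 1 from Subtype.ext (by simp [← ho, pow_orderOf_eq_one]), map_one]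
  rcases P.good.pair _ r hr hrp hoπ with ⟨x, y, α, hα, β, hβ, e⟩ | ⟨hcen, k, μ, hμ, x, y, α, hα, β, hβ, e⟩
  · exact P.prod_of_pi h0L hα hβ e (fun ⟨k, hk⟩ => hnp0 k hk) ha hfix0
  by_contra haZ
  have hWconj : ∀ l ∈ L, ∀ b ∈ Cfsg.pCoreOf p L, h0 ∈ fixer L Y b → h0 ∈ fixer L Y (l * b * l⁻¹) := by
    intro l hl b hb hfb
    refine ⟨h0L, ?_⟩
    have hw : h0⁻¹ * (l⁻¹ * h0 * l) ∈ Cfsg.pCoreOf p L := by
      refine (P.pi_eq_one ((⟨h0, h0L⟩ : ↥L)⁻¹ * ((⟨l, hl⟩ : ↥L)⁻¹ * ⟨h0, h0L⟩ * ⟨l, hl⟩))).1 ?_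
      rw [map_mul, map_inv, map_mul, map_mul, map_inv, mul_assoc (π ⟨l, hl⟩)⁻¹, (hcen (π ⟨l, hl⟩)).eq]
      group
    obtain ⟨-, h1⟩ : l⁻¹ * h0 * l ∈ fixer L Y b := by
      rw [show l⁻¹ * h0 * l = h0 * (h0⁻¹ * (l⁻¹ * h0 * l)) by group]
      exact mul_mem hfb (P.R_le_fixer hb hw)
    rw [show ⁅h0, l * b * l⁻¹⁆ = l * ⁅l⁻¹ * h0 * l, b⁆ * l⁻¹ by simp [commutatorElement_def, mul_assoc],
      Subgroup.mem_centralizer_iff.1 (Subgroup.mem_inf.1 h1).2 l hl, mul_inv_cancel_right]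
    exact h1
  -- an element of `W ∩ Y` outside `Z`
  obtain ⟨b, hbY, hbR, hbW, hbZ⟩ : ∃ b, b ∈ Y ∧ b ∈ Cfsg.pCoreOf p L ∧ h0 ∈ fixer L Y b ∧
      b ∉ Y ⊓ Subgroup.centralizer (L : Set G) := by
    by_cases hall : ∀ y ∈ Y, ⁅y, a⁆ ∈ Y ⊓ Subgroup.centralizer (L : Set G)
    · obtain ⟨y, hy, hyR⟩ := SetLike.not_le_iff_exists.1 P.not_le_core
      refine ⟨a, ?_, ha, hfix0, haZ⟩
      have := P.fixed_mem (one_mem L) (y := y) (x := a) (by rwa [conjS_one]) hyR ha (hall y hy)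
      rwa [conjS_one] at this
    · push Not at hall
      obtain ⟨y, hy, hyn⟩ := hall
      have hb := P.commutator_R_le (one_mem L)
        (Subgroup.commutator_mem_commutator ha (by rwa [conjS_one] : y ∈ conjS 1 Y))
      rw [conjS_one] at hb
      have hb' : ⁅y, a⁆ ∈ Y ⊓ Cfsg.pCoreOf p L := commutatorElement_inv a y ▸ inv_mem hb
      obtain ⟨hb1, hb2⟩ := Subgroup.mem_inf.1 hb'
      refine ⟨⁅y, a⁆, hb1, hb2, ⟨h0L, ?_⟩, hyn⟩
      have hca := (hWconj y (P.hYL hy) a ha hfix0).2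
      have hna : h0 ∈ fixer L Y a⁻¹ := by
        refine ⟨h0L, ?_⟩
        have e1 : ⁅h0, a⁻¹⁆ = a⁻¹ * ⁅h0, a⁆⁻¹ * a := by simp [commutatorElement_def, mul_assoc]
        have h1 := inv_mem hfix0.2
        rw [e1, Subgroup.mem_centralizer_iff.1 (Subgroup.mem_inf.1 h1).2 a⁻¹ (inv_mem (pCoreOf_le L ha)),
          inv_mul_cancel_right]
        exact h1
      have e1 : ⁅h0, ⁅y, a⁆⁆ = ⁅h0, y * a * y⁻¹⁆ * ((y * a * y⁻¹) * ⁅h0, a⁻¹⁆ * (y * a * y⁻¹)⁻¹) := by
        simp [commutatorElement_def, mul_assoc]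
      rw [e1, Subgroup.mem_centralizer_iff.1 (Subgroup.mem_inf.1 hna.2).2 _
        (mul_mem (mul_mem (P.hYL hy) (pCoreOf_le L ha)) (inv_mem (P.hYL hy))), mul_inv_cancel_right]
      exact mul_mem hca hna.2
  obtain ⟨⟨c, hc⟩, rfl⟩ := P.surj k
  obtain ⟨u, hu, rfl⟩ := P.exists_lift hc hμ
  have hb'R : c * b * c⁻¹ ∈ Cfsg.pCoreOf p L :=
    (Subgroup.mem_normalizer_iff.1 (le_normalizer_pCoreOf L hc) b).1 hbR
  have huL := P.conjY_le hc hu
  have hufix : u ∈ fixer L Y (c * b * c⁻¹) := ⟨huL, by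
    rw [commutatorElement_eq_one_iff_commute.2
      (Subgroup.mem_centralizer_iff.1 (P.conjY_comm c (conj_mem_conjS hbY)) u hu)]
    exact one_mem _⟩
  refine hbZ ?_
  have hres := P.prod_of_pi (h := h0 * u) (mul_mem h0L huL) hα hβ
    ((map_mul π ⟨h0, h0L⟩ ⟨u, huL⟩).trans e) ?_ hb'R (mul_mem (hWconj c hc b hbR hbW) hufix)
  · rw [Subgroup.mem_inf] at hres ⊢
    have e2 := Subgroup.mem_centralizer_iff.1 hres.2 c hc
    have e3 : b = c * b * c⁻¹ := by
      calc b = c⁻¹ * ((c * b * c⁻¹) * c) := by group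
        _ = c⁻¹ * (c * (c * b * c⁻¹)) := by rw [e2]
        _ = c * b * c⁻¹ := by group
    rwa [← e3] at hres
  · rintro ⟨n, hn⟩
    obtain ⟨n', hn'⟩ := P.conjY_pgroup c ⟨u, hu⟩
    have hu' : u ^ p ^ n' = 1 := congrArg Subtype.val hn'
    have h2 : π ⟨h0, h0L⟩ ^ p ^ (n + n') * π ⟨u, huL⟩ ^ p ^ (n + n') = 1 := by
      rw [← (hcen (π ⟨u, huL⟩)).mul_pow, ← map_mul, ← map_pow]
      refine (congrArg π (?_ : _ = (1 : ↥L))).trans (map_one π)
      refine Subtype.ext ?_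
      show (h0 * u) ^ p ^ (n + n') = 1
      rw [pow_add, pow_mul, hn, one_pow]
    rw [← map_pow π ⟨u, huL⟩, show (⟨u, huL⟩ : ↥L) ^ p ^ (n + n') = 1 from Subtype.ext (by
      show u ^ p ^ (n + n') = 1
      rw [pow_add, mul_comm, pow_mul, hu', one_pow]), map_one, mul_one] at h2
    have h3 := orderOf_dvd_of_pow_eq_one h2
    rw [hoπ] at h3
    exact hrp ((Nat.prime_dvd_prime_iff_eq hr Fact.out).1 (hr.dvd_of_dvd_pow h3))

theorem map_normalizer_eq (P : FLData p L Y π) :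
    ((L ⊓ Subgroup.normalizer (Y : Set G)).subgroupOf L).map π =
      Subgroup.normalizer ((((Y.subgroupOf L).map π : Subgroup X)) : Set X) := by
  refine le_antisymm ?_ ?_
  · rintro _ ⟨z, hz, rfl⟩
    refine Subgroup.le_normalizer_map π ⟨z, ?_, rfl⟩
    rw [SetLike.mem_coe, Subgroup.mem_normalizer_iff]
    intro w
    exact Subgroup.mem_normalizer_iff.1 (Subgroup.mem_inf.1 hz).2 w
  intro n hn
  obtain ⟨⟨l, hl⟩, rfl⟩ := P.surj n
  refine ⟨⟨l, hl⟩, Subgroup.mem_inf.2 ⟨hl, ?_⟩, rfl⟩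
  have h1 : conjS l Y ≤ conjS 1 Y ⊔ Cfsg.pCoreOf p L := by
    refine P.le_sup_of_image_eq (one_mem L) hl ?_
    rw [show (⟨1, one_mem L⟩ : ↥L) = 1 from rfl, map_one, conjS_one, conjS_eq_self_iff.2 hn]
  rw [conjS_one] at h1
  have h2 := P.pgroup_le_normalizer (one_mem L) (J := conjS 1 Y ⊔ Cfsg.pCoreOf p L) (P.sup_R_pgroup (one_mem L))
    le_sup_left (sup_le (P.conjY_le (one_mem L)) (pCoreOf_le L))
  simp only [conjS_one] at h2
  have h3 : Y ⊔ conjS l Y ≠ L := fun e => P.not_normalizer (one_mem L) (by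
    rw [conjS_one]; exact e.ge.trans (sup_le Subgroup.le_normalizer (h1.trans h2)))
  -- `Y` and `Y^l` lie in the same `p`-subgroup
  set J := Y ⊔ Cfsg.pCoreOf p L with hJ
  have hJl : conjS l J = J := by
    refine Subgroup.eq_of_le_of_card_ge ?_ (by rw [card_conjS])
    rw [hJ, conjS_sup, P.conjL hl _ (le_normalizer_pCoreOf L)]
    exact sup_le h1 le_sup_right
  -- the normalizer of `J` in `L` is proper, so it normalizes `Y`
  have hN : L ⊓ Subgroup.normalizer (J : Set G) < L := by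
    refine lt_of_le_of_ne inf_le_left fun e => P.not_isPGroup ?_
    have hJL : J ≤ Cfsg.pCoreOf p L := by
      refine le_pCoreOf (sup_le P.hYL (pCoreOf_le L)) (e.ge.trans inf_le_right) ?_
      have := P.sup_R_pgroup (one_mem L)
      rwa [conjS_one] at this
    exact absurd (le_sup_left.trans hJL) P.not_le_core
  exact ((P.huniq _ (le_inf P.hYL (le_sup_left.trans Subgroup.le_normalizer)) hN).trans inf_le_right)
    (Subgroup.mem_inf.2 ⟨hl, conjS_eq_self_iff.1 hJl⟩)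

end FLData

end Cfsg.Agent.Lib.LocalEven
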