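import Cfsg.Agent.Lib.LocalEven.Kieler
import Cfsg.Agent.Lib.Coprime.PxQ

/-!
Fixed points with respect to the `p`-residual; the largest `p`-reduced subgroup and subnormal subgroups.
-/

set_option autoImplicit false

open scoped commutatorElement

namespace Cfsg.Agent.Lib.LocalEven

universe u

variable {G : Type u} [Group G] {p : ℕ}

/-- Fixed points of a Sylow subgroup split into fixed points and the residual commutator. -/
theorem inf_centralizer_le_residual [Finite G] [hp : Fact p.Prime] {L S U : Subgroup G}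
    (hS : IsSylowOf p S L) (hLU : L ≤ Subgroup.normalizer (U : Set G))
    (hU : ∀ a ∈ U, ∀ b ∈ U, Commute a b) (hpow : ∀ a ∈ U, a ^ p = 1) :
    U ⊓ Subgroup.centralizer (S : Set G) ≤
      (U ⊓ Subgroup.centralizer (L : Set G)) ⊔
        (⁅U, pResOf p L⁆ ⊓ (U ⊓ Subgroup.centralizer (S : Set G))) := by
  set R := pResOf p L with hR
  have hS' : IsSylowOf p (S ⊓ R) R := hS.inf_normal (pResOf_le L) (self_le_normalizer_pResOf L)
  obtain ⟨D⟩ := exists_normData hS'.le ((pResOf_le L).trans hLU) hU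
  intro w hw
  obtain ⟨hwU, hwS⟩ := Subgroup.mem_inf.1 hw
  have hw' : w ∈ U ⊓ Subgroup.centralizer ((S ⊓ R : Subgroup G) : Set G) :=
    Subgroup.mem_inf.2 ⟨hwU, Subgroup.centralizer_le (inf_le_left : S ⊓ R ≤ S) hwS⟩
  refine mem_of_pow_mem_of_not_dvd hS'.not_dvd_relIndex (hpow w hwU) ?_
  obtain ⟨hNU, hNR⟩ := Subgroup.mem_inf.1 (D.mem w hw')
  have hNS : D.N w ∈ Subgroup.centralizer (S : Set G) := by
    rw [Subgroup.mem_centralizer_iff]
    intro t ht
    have hn : t ∈ Subgroup.normalizer ((S ⊓ R : Subgroup G) : Set G) :=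
      le_normalizer_inf Subgroup.le_normalizer (hS.le.trans (self_le_normalizer_pResOf L)) ht
    have := D.equivariant w hw' t (self_le_normalizer_pResOf L (hS.le ht)) hn (hLU (hS.le ht))
    rw [show t * w * t⁻¹ = w by
      rw [Subgroup.mem_centralizer_iff.1 hwS t ht, mul_inv_cancel_right]] at this
    calc t * D.N w = t * D.N w * t⁻¹ * t := by group
      _ = D.N w * t := by rw [← this]
  have hNL : D.N w ∈ U ⊓ Subgroup.centralizer (L : Set G) := by
    refine Subgroup.mem_inf.2 ⟨hNU, ?_⟩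
    have h : L ≤ Subgroup.centralizer (Subgroup.zpowers (D.N w) : Set G) := by
      rw [← pResOf_sup_sylow hS]
      exact sup_le (Subgroup.le_centralizer_iff.1 (Subgroup.zpowers_le.2 hNR))
        (Subgroup.le_centralizer_iff.1 (Subgroup.zpowers_le.2 hNS))
    exact Subgroup.le_centralizer_iff.1 h (Subgroup.mem_zpowers _)
  have hd : (w ^ (S ⊓ R).relIndex R)⁻¹ * D.N w ∈
      ⁅U, R⁆ ⊓ (U ⊓ Subgroup.centralizer (S : Set G)) :=
    Subgroup.mem_inf.2 ⟨D.congr_comm w hw', mul_mem (inv_mem (pow_mem hw _))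
      (Subgroup.mem_inf.2 ⟨hNU, hNS⟩)⟩
  rw [show w ^ (S ⊓ R).relIndex R = D.N w * ((w ^ (S ⊓ R).relIndex R)⁻¹ * D.N w)⁻¹ by group]
  exact Subgroup.mul_mem_sup hNL (inv_mem hd)

/-- `P × Q` lemma for a group whose action on `U` commutes with `Q`. -/
theorem le_centralizer_of_PxQ' [Finite G] [hp : Fact p.Prime] {P Q U : Subgroup G}
    (hP : IsPGroup p P) (hQ : (Nat.card Q).Coprime p) (hU : IsPGroup p U)
    (hPQ : ⁅P, Q⁆ ≤ Subgroup.centralizer (U : Set G))
    (hPU : P ≤ Subgroup.normalizer (U : Set G)) (hQU : Q ≤ Subgroup.normalizer (U : Set G))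
    (hC : U ⊓ Subgroup.centralizer (P : Set G) ≤ Subgroup.centralizer (Q : Set G)) :
    Q ≤ Subgroup.centralizer (U : Set G) := by
  obtain ⟨c, hc⟩ : ∃ c, Nat.card U = c := ⟨_, rfl⟩
  induction c using Nat.strongRecOn generalizing U with
  | ind c ih =>
  by_cases hU0 : U = ⊥
  · intro q _
    rw [Subgroup.mem_centralizer_iff, hU0]
    intro x hx
    rw [SetLike.mem_coe, Subgroup.mem_bot] at hx
    simp [hx]
  have hlt := Coprime.commutator_lt_of_isPGroup hU hP hPU hU0
  have hUn : Nat.card (⁅U, P⁆ : Subgroup G) < c :=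
    hc ▸ lt_of_not_ge fun h => hlt.ne (Subgroup.eq_of_le_of_card_ge hlt.le h)
  have key : ∀ q ∈ Q, conjS q ⁅U, P⁆ ≤ ⁅U, P⁆ := by
    intro q hq
    rw [conjS_commutator, conjS_eq_self_iff.2 (hQU hq), Subgroup.commutator_le]
    intro u hu a' ha'
    obtain ⟨a, ha, rfl⟩ : ∃ a ∈ P, q * a * q⁻¹ = a' :=
      ⟨q⁻¹ * a' * q, mem_conjS.1 ha', by group⟩
    have hcm : a * q * a⁻¹ * q⁻¹ ∈ Subgroup.centralizer (U : Set G) :=
      hPQ (Subgroup.commutator_mem_commutator ha hq)
    set c := (a * q * a⁻¹ * q⁻¹)⁻¹ with hcdef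
    have hc' : c ∈ Subgroup.centralizer (U : Set G) := inv_mem hcm
    rw [show q * a * q⁻¹ = c * a by rw [hcdef]; group]
    have hm : ⁅u, a⁆ ∈ ⁅U, P⁆ := Subgroup.commutator_mem_commutator hu ha
    have e1 : u * c = c * u := Subgroup.mem_centralizer_iff.1 hc' u hu
    have e2 : ⁅u, a⁆ * c = c * ⁅u, a⁆ :=
      Subgroup.mem_centralizer_iff.1 hc' _ (hlt.le hm)
    rw [show ⁅u, c * a⁆ = ⁅u, a⁆ by
      calc ⁅u, c * a⁆ = (u * c) * a * u⁻¹ * a⁻¹ * c⁻¹ := by rw [commutatorElement_def]; group
        _ = (c * u) * a * u⁻¹ * a⁻¹ * c⁻¹ := by rw [e1]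
        _ = (c * ⁅u, a⁆) * c⁻¹ := by rw [commutatorElement_def]; group
        _ = ⁅u, a⁆ := by rw [← e2, mul_inv_cancel_right]]
    exact hm
  have hQn : Q ≤ Subgroup.normalizer ((⁅U, P⁆ : Subgroup G) : Set G) := by
    rw [le_normalizer_iff_forall]
    intro q hq
    refine le_antisymm (key q hq) ?_
    have := conjS_mono q (key q⁻¹ (inv_mem hq))
    rwa [conjS_cancel_inv] at this
  have hQ1 := ih _ hUn (hU.to_le hlt.le) (hPQ.trans (Subgroup.centralizer_le hlt.le))
    (le_normalizer_commutator_right U P) hQn (le_trans (inf_le_inf_right _ hlt.le) hC) rfl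
  have h1 : ⁅⁅U, P⁆, Q⁆ = ⊥ :=
    le_centralizer_iff_commutator.1 (Subgroup.le_centralizer_iff.mp hQ1)
  have h2 : ⁅⁅P, Q⁆, U⁆ = ⊥ := le_centralizer_iff_commutator.1 hPQ
  have h3 : ⁅⁅U, Q⁆, P⁆ = ⊥ := by
    have := Subgroup.commutator_commutator_eq_bot_of_rotate (H₁ := Q) (H₂ := U) (H₃ := P) h1 h2
    rwa [Subgroup.commutator_comm Q U] at this
  have hUQ := commutator_le_of_le_normalizer hQU
  have h4 : ⁅U, Q⁆ ≤ Subgroup.centralizer (Q : Set G) :=
    le_trans (le_inf hUQ (le_centralizer_iff_commutator.2 h3)) hC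
  obtain ⟨n, hn⟩ := IsPGroup.iff_card.mp hU
  exact Coprime.le_centralizer_of_commutator_commutator_eq_bot hQU (hn ▸ hQ.pow_right n)
    (le_centralizer_iff_commutator.1 h4)

/-- The largest reduced subgroup is `Ω₁(Z(T₀))`. -/
theorem largestPReducedOf_eq_omZ [Finite G] [hp : Fact p.Prime] {T L : Subgroup G}
    (hch : L ⊓ Subgroup.centralizer (Cfsg.pCoreOf p L : Set G) ≤ Cfsg.pCoreOf p L)
    (hT : IsSylowOf p T L) :
    Cfsg.largestPReducedOf p L =
      omZ p (T ⊓ Subgroup.centralizer (Cfsg.largestPReducedOf p L : Set G)) := by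
  have hYr := largestPReducedOf_redIn (p := p) L
  set Y := Cfsg.largestPReducedOf p L with hY
  set T0 := T ⊓ Subgroup.centralizer (Y : Set G) with hT0
  have hnC : L ≤ Subgroup.normalizer ((L ⊓ Subgroup.centralizer (Y : Set G) : Subgroup G) : Set G) :=
    le_normalizer_inf Subgroup.le_normalizer (le_normalizer_centralizer hYr.normal)
  have hs : IsSylowOf p T0 (L ⊓ Subgroup.centralizer (Y : Set G)) := by
    have := hT.inf_normal inf_le_left hnC
    rwa [← inf_assoc, inf_eq_left.2 hT.le] at this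
  have hsplit : L ≤ (L ⊓ Subgroup.normalizer (T0 : Set G)) ⊔ Subgroup.centralizer (Y : Set G) := by
    conv_lhs => rw [frattini_argument' inf_le_left hnC hs]
    exact sup_le (inf_le_right.trans le_sup_right) le_sup_left
  have hle : Y ≤ omZ p T0 :=
    elemAb_le_omZ hYr.elem
      (le_inf (hYr.le_pCoreOf.trans hT.pCoreOf_le) (elemAb_le_centralizer hYr.elem)) inf_le_right
  refine le_antisymm hle ?_
  have hT0T : T0 ≤ T := inf_le_left
  have hTR : T ≤ L ⊓ Subgroup.normalizer (T0 : Set G) :=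
    le_inf hT.le (le_normalizer_inf Subgroup.le_normalizer
      (le_normalizer_centralizer (hT.le.trans hYr.normal)))
  have hX : RedIn p (omZ p T0) (L ⊓ Subgroup.normalizer (T0 : Set G)) := by
    refine ⟨(omZ_le T0).trans (le_inf (hT0T.trans hT.le) Subgroup.le_normalizer), ?_, omZ_elemAb T0,
      fun N hN hn hres => ?_⟩
    · rw [le_normalizer_iff_forall]
      intro g hg
      rw [conjS_omZ, conjS_eq_self_iff.2 (Subgroup.mem_inf.1 hg).2]
    · have hC : Subgroup.centralizer (omZ p T0 : Set G) ≤ Subgroup.centralizer (Y : Set G) :=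
        Subgroup.centralizer_le hle
      have hNC : N ≤ Subgroup.centralizer (Y : Set G) :=
        hYr.le_of_normalized inf_le_left hsplit (hN.trans inf_le_left) hn (hres.trans hC)
      have hs' : IsSylowOf p T0 (L ⊓ Subgroup.centralizer (Y : Set G) ⊓
          Subgroup.normalizer (T0 : Set G)) :=
        hs.mono (le_inf hs.le Subgroup.le_normalizer) inf_le_left
      have hnN : L ⊓ Subgroup.centralizer (Y : Set G) ⊓ Subgroup.normalizer (T0 : Set G) ≤
          Subgroup.normalizer (N : Set G) := (inf_le_inf_right _ inf_le_left).trans hn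
      have hNle : N ≤ L ⊓ Subgroup.centralizer (Y : Set G) ⊓ Subgroup.normalizer (T0 : Set G) :=
        le_inf (le_inf (hN.trans inf_le_left) hNC) (hN.trans inf_le_right)
      refine le_of_pResOf_le_of_sylow (hs'.inf_normal hNle hnN) hres ?_
      exact inf_le_left.trans (Subgroup.le_centralizer_iff.1 (omZ_le_centralizer T0))
  refine le_trans ?_ (le_largestPReducedOf (redIn_closure hch hT hTR inf_le_left hX))
  intro x hx
  exact le_iSup (fun g : L => conjS (g : G) (omZ p T0)) 1 (by simpa [conjS_one] using hx)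

theorem centralizer_le_of_redIn_subnormal [Finite G] [hp : Fact p.Prime] {L N V : Subgroup G}
    (hV : RedIn p V ⊤) (hL : L.IsSubnormal) (hNL : N ≤ L)
    (hn : L ≤ Subgroup.normalizer (N : Set G))
    (hres : pResOf p N ≤ Subgroup.centralizer ((V ⊓ L : Subgroup G) : Set G)) :
    N ≤ Subgroup.centralizer (V : Set G) := by
  have hVn := normal_of_le_normalizer hV.normal
  have hVO : V ≤ Cfsg.pCore p G := le_pCore hVn (elemAb_isPGroup hV.elem)
  have hnor := hVO.trans (pCore_le_normalizer_of_subnormal (p := p) hL).1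
  have hNV : pResOf p N ≤ Subgroup.centralizer (V : Set G) := by
    refine pResOf_le_centralizer fun x hx hc v hv => ?_
    have hm : x * v * x⁻¹ * v⁻¹ ∈ pResOf p L := by
      have hxR : x ∈ pResOf p L := mem_pResOf_of_coprime (hNL hx) hc
      rw [mul_assoc, mul_assoc, ← mul_assoc v]
      exact mul_mem hxR ((Subgroup.mem_normalizer_iff.1 (hnor hv) _).1 (inv_mem hxR))
    have hmV : x * v * x⁻¹ * v⁻¹ ∈ V := mul_mem (hVn.conj_mem v hv x) (inv_mem hv)
    have hcc : x * v * x⁻¹ * v⁻¹ ∈ Subgroup.centralizer ({x} : Set G) :=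
      Subgroup.mem_centralizer_singleton_iff.2 (Subgroup.mem_centralizer_iff.1
        (hres (mem_pResOf_of_coprime hx hc)) _ (Subgroup.mem_inf.2 ⟨hmV, pResOf_le L hm⟩))
    exact Subgroup.mem_centralizer_singleton_iff.2
      (commute_mem_of_coprime_stab (elemAb_isPGroup hV.elem) hc hmV hcc).symm
  have hNs : N.IsSubnormal :=
    Subgroup.IsSubnormal.step N L hNL hL ((Subgroup.normal_subgroupOf_iff_le_normalizer hNL).2 hn)
  exact hV.subnormal_le le_top hNs.subgroupOf hNV

theorem redIn_inf_subnormal [Finite G] [Fact p.Prime] {L V : Subgroup G}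
    (hV : RedIn p V ⊤) (hL : L.IsSubnormal) : RedIn p (V ⊓ L) L :=
  ⟨inf_le_right, le_normalizer_inf (le_top.trans hV.normal) Subgroup.le_normalizer,
    elemAb_mono hV.elem inf_le_left, fun _ hN hn hres =>
      (centralizer_le_of_redIn_subnormal hV hL hN hn hres).trans (Subgroup.centralizer_le inf_le_left)⟩

theorem inf_centralizer_largest_le_of_normal [Finite G] [hp : Fact p.Prime] {K L : Subgroup G}
    (hLK : L ≤ K) (hn : K ≤ Subgroup.normalizer (L : Set G)) :
    L ⊓ Subgroup.centralizer (Cfsg.largestPReducedOf p K : Set G) ≤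
      Subgroup.centralizer (Cfsg.largestPReducedOf p L : Set G) := by
  have hYL := largestPReducedOf_redIn (p := p) L
  suffices H : ∀ c, ∀ V : Subgroup G, Nat.card V = c → V ≤ Cfsg.largestPReducedOf p L →
      K ≤ Subgroup.normalizer (V : Set G) →
      L ⊓ Subgroup.centralizer (V : Set G) ≤ Subgroup.centralizer (Cfsg.largestPReducedOf p L : Set G) →
      L ⊓ Subgroup.centralizer (Cfsg.largestPReducedOf p K : Set G) ≤
        Subgroup.centralizer (Cfsg.largestPReducedOf p L : Set G) from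
    H _ _ rfl le_rfl (le_normalizer_largestPReducedOf hn) inf_le_right
  intro c
  induction c using Nat.strongRecOn with
  | ind c ih =>
  intro V hc hVL hVn hVC
  have hVe : Cfsg.IsElementaryAbelian p V := elemAb_mono hYL.elem hVL
  by_cases hred : RedIn p V K
  · exact (inf_le_inf_left _ (Subgroup.centralizer_le (le_largestPReducedOf hred))).trans hVC
  obtain ⟨N, hNK, hNn, hNres, hNV⟩ : ∃ N : Subgroup G, N ≤ K ∧ K ≤ Subgroup.normalizer (N : Set G) ∧
      pResOf p N ≤ Subgroup.centralizer (V : Set G) ∧ ¬ N ≤ Subgroup.centralizer (V : Set G) := by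
    by_contra hcon
    push_neg at hcon
    exact hred ⟨hVL.trans (hYL.le.trans hLK), hVn, hVe, hcon⟩
  set V' := V ⊓ Subgroup.centralizer (N : Set G) with hV'
  have hlt : V' < V := lt_of_le_of_ne inf_le_left fun e =>
    hNV (Subgroup.le_centralizer_iff.1 (e ▸ inf_le_right))
  refine ih _ (hc ▸ lt_of_not_ge fun h => hlt.ne (Subgroup.eq_of_le_of_card_ge hlt.le h)) V' rfl
    (inf_le_left.trans hVL) (le_normalizer_inf hVn (le_normalizer_centralizer hNn)) ?_
  set M := L ⊓ Subgroup.centralizer (V' : Set G) with hM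
  have hMn : K ≤ Subgroup.normalizer (M : Set G) :=
    le_normalizer_inf hn (le_normalizer_centralizer (le_normalizer_inf hVn (le_normalizer_centralizer hNn)))
  have hNL : N ⊓ L ≤ Subgroup.centralizer (V : Set G) := by
    refine le_trans ?_ (Subgroup.centralizer_le hVL)
    refine hYL.red _ inf_le_right (le_normalizer_inf (hLK.trans hNn) Subgroup.le_normalizer) ?_
    exact (le_inf ((pResOf_le _).trans inf_le_right) ((pResOf_mono inf_le_left).trans hNres)).trans hVC
  obtain ⟨P, hP⟩ := exists_isSylowOf p N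
  have hPC : V ⊓ Subgroup.centralizer (P : Set G) ≤ V' := by
    refine le_inf inf_le_left (Subgroup.le_centralizer_iff.1 ?_)
    rw [← pResOf_sup_sylow hP]
    exact sup_le (hNres.trans (Subgroup.centralizer_le inf_le_left))
      (Subgroup.le_centralizer_iff.1 inf_le_right)
  refine hYL.red M inf_le_left (hLK.trans hMn) ?_
  refine (le_inf ((pResOf_le M).trans inf_le_left) ?_).trans hVC
  rw [pResOf_le_iff]
  intro x hx hxc
  refine (le_centralizer_of_PxQ' (Q := Subgroup.zpowers x) hP.isPGroup ?_ (elemAb_isPGroup hVe) ?_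
    ((hP.le.trans hNK).trans hVn) ?_ ?_) (Subgroup.mem_zpowers x)
  · rwa [Nat.card_zpowers]
  · refine (Subgroup.commutator_mono hP.le (Subgroup.zpowers_le.2 hx)).trans (le_trans ?_ hNL)
    exact le_inf (commutator_le_of_le_normalizer ((inf_le_left.trans hLK).trans hNn))
      ((commutator_le_of_le_normalizer' (hNK.trans hMn)).trans inf_le_left)
  · exact Subgroup.zpowers_le.2 (hVn (hLK (Subgroup.mem_inf.1 hx).1))
  · exact hPC.trans (Subgroup.le_centralizer_iff.1 (Subgroup.zpowers_le.2 (Subgroup.mem_inf.1 hx).2))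

theorem inf_centralizer_largest_le [Finite G] [Fact p.Prime] {L : Subgroup G} (hL : L.IsSubnormal) :
    L ⊓ Subgroup.centralizer (Cfsg.largestPReduced p G : Set G) ≤
      Subgroup.centralizer (Cfsg.largestPReducedOf p L : Set G) := by
  induction hL with
  | top => rw [largestPReducedOf_top]; exact inf_le_right
  | step H K hHK _ hn ih =>
    refine le_trans ?_ (inf_centralizer_largest_le_of_normal hHK (le_normalizer_of_subgroupOf_normal hHK hn))
    exact le_inf inf_le_left ((inf_le_inf_right _ hHK).trans ih)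

end Cfsg.Agent.Lib.LocalEven
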