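import Cfsg.Agent.Lib.LocalEven.Asymmetric
import Cfsg.Agent.Lib.LocalEven.PReduced2
import Cfsg.Agent.Lib.LocalEven.CharP

/-!
Existence of members of `𝔐` in groups of parabolic characteristic `p`.
-/

set_option autoImplicit false

open scoped commutatorElement

namespace Cfsg.Agent.Lib.LocalEven

universe u

variable {G : Type u} [Group G] {p : ℕ} [hp : Fact p.Prime] [Finite G]

theorem mem_charP_of_parabolic (hH : Cfsg.IsOfParabolicCharacteristic p G) (T : Sylow p G) {X : Subgroup G}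
    (hTX : (T : Subgroup G) ≤ X) (hO : Cfsg.pCoreOf p X ≠ ⊥) : X ∈ Cfsg.charPSubgroups p G := by
  refine mem_charPSubgroups_iff.2 ⟨hO, ?_⟩
  set N := Subgroup.normalizer (Cfsg.pCoreOf p X : Set G) with hN
  have hXN : X ≤ N := le_normalizer_pCoreOf X
  have h1 := (charPCore_iff N).1 (hH _ (pCoreOf_isPGroup X) hO ⟨T, hTX.trans hXN⟩)
  have hle : Cfsg.pCoreOf p N ≤ Cfsg.pCoreOf p X :=
    le_pCoreOf (((isSylowOf_top T).mono (hTX.trans hXN) le_top).pCoreOf_le.trans hTX)
      (hXN.trans (le_normalizer_pCoreOf N)) (pCoreOf_isPGroup N)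
  exact (le_inf (Subgroup.centralizer_le_normalizer _) (Subgroup.centralizer_le hle)).trans (h1.trans hle)

theorem charP_of_mem {X : Subgroup G} (hX : X ∈ Cfsg.charPSubgroups p G) :
    X ⊓ Subgroup.centralizer (Cfsg.pCoreOf p X : Set G) ≤ Cfsg.pCoreOf p X :=
  inf_le_right.trans (mem_charPSubgroups_iff.1 hX).2

theorem largestPReducedOf_ne_bot (T : Sylow p G) {X : Subgroup G} (hTX : (T : Subgroup G) ≤ X)
    (hX : X ∈ Cfsg.charPSubgroups p G) : Cfsg.largestPReducedOf p X ≠ ⊥ := by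
  have hT := (isSylowOf_top T).mono hTX le_top
  obtain ⟨z, hz, hz1, hzp, hzc⟩ := exists_omZ_inf T.isPGroup' (pCoreOf_isPGroup X)
    (hTX.trans (le_normalizer_pCoreOf X)) (mem_charPSubgroups_iff.1 hX).1
  have hzZ : z ∈ omZ p (T : Subgroup G) :=
    Subgroup.subset_closure ⟨Subgroup.mem_inf.2 ⟨hT.pCoreOf_le hz, hzc⟩, hzp⟩
  intro e
  refine hz1 (Subgroup.mem_bot.1 ?_)
  rw [← e]
  refine le_largestPReducedOf (redIn_closure (charP_of_mem hX) hT le_rfl hT.le redIn_omZ_self) ?_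
  refine le_iSup (fun g : X => conjS (g : G) (omZ p (T : Subgroup G))) 1 ?_
  simpa [conjS_one] using hzZ

theorem largestPReducedOf_mono (T : Sylow p G) {L X : Subgroup G} (hTL : (T : Subgroup G) ≤ L)
    (hLX : L ≤ X) (hX : X ∈ Cfsg.charPSubgroups p G) :
    Cfsg.largestPReducedOf p L ≤ Cfsg.largestPReducedOf p X := by
  refine le_trans ?_ (le_largestPReducedOf (redIn_closure (charP_of_mem hX)
    ((isSylowOf_top T).mono (hTL.trans hLX) le_top) hTL hLX (largestPReducedOf_redIn L)))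
  exact (conjS_one _).ge.trans (le_iSup (fun g : X => conjS (g : G) (Cfsg.largestPReducedOf p L)) 1)

theorem largestPReducedOf_le_sylow (T : Sylow p G) {X : Subgroup G} (hTX : (T : Subgroup G) ≤ X) :
    Cfsg.largestPReducedOf p X ≤ (T : Subgroup G) :=
  (largestPReducedOf_redIn X).le_pCoreOf.trans ((isSylowOf_top T).mono hTX le_top).pCoreOf_le

/-- In `X ≤ K = X·C(Y)` minimal over `T` the Sylow subgroup of the centralizer is normal. -/
theorem minimal_cover (T : Sylow p G) {K X Y : Subgroup G} (hKY : K ≤ Subgroup.normalizer (Y : Set G))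
    (hTX : (T : Subgroup G) ≤ X) (hXK : X ⊔ Subgroup.centralizer (Y : Set G) = K)
    (hmin : ∀ Z : Subgroup G, (T : Subgroup G) ≤ Z → Z ≤ X → Z ⊔ Subgroup.centralizer (Y : Set G) = K → Z = X) :
    X ≤ Subgroup.normalizer (((T : Subgroup G) ⊓ Subgroup.centralizer (Y : Set G) : Subgroup G) : Set G) ∧
      Cfsg.IsPClosed p ↥(X ⊓ Subgroup.centralizer (Y : Set G)) ∧
      ((X ⊓ Subgroup.centralizer (Y : Set G)).subgroupOf X).map (QuotientGroup.mk' (Cfsg.pCore p ↥X)) ≤
        frattini (↥X ⧸ Cfsg.pCore p ↥X) := by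
  set C := Subgroup.centralizer (Y : Set G) with hC
  set C0 := X ⊓ C with hC0
  have hXY : X ≤ Subgroup.normalizer (Y : Set G) := (le_sup_left.trans hXK.le).trans hKY
  have hn : X ≤ Subgroup.normalizer (C0 : Set G) :=
    le_normalizer_inf Subgroup.le_normalizer (le_normalizer_centralizer hXY)
  have hTs := (isSylowOf_top T).mono hTX le_top
  have hs := hTs.inf_normal inf_le_left hn
  set T0 := (T : Subgroup G) ⊓ C0 with hT0
  have hT0e : (T : Subgroup G) ⊓ C = T0 := by rw [hT0, hC0, ← inf_assoc, inf_eq_left.2 hTX]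
  have hfr := frattini_argument' inf_le_left hn hs
  have hTn : (T : Subgroup G) ≤ X ⊓ Subgroup.normalizer (T0 : Set G) :=
    le_inf hTX (le_normalizer_inf Subgroup.le_normalizer (hTX.trans hn))
  have hXn : X ≤ Subgroup.normalizer (T0 : Set G) := by
    have e := hmin _ hTn inf_le_left (le_antisymm ((sup_le_sup_right inf_le_left C).trans hXK.le)
      (hXK.ge.trans (sup_le (hfr.le.trans (sup_le (inf_le_right.trans le_sup_right) le_sup_left)) le_sup_right)))
    exact e.ge.trans inf_le_right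
  have hT0X : T0 ≤ Cfsg.pCoreOf p X := le_pCoreOf (inf_le_left.trans hTX) hXn hs.isPGroup
  refine ⟨hT0e.symm ▸ hXn, isPClosed_of_sylow_le hs (inf_le_left.trans hXn), ?_⟩
  haveI := pCore_normal p ↥X
  set f := QuotientGroup.mk' (Cfsg.pCore p ↥X) with hf
  simp only [frattini, Order.radical, le_iInf_iff]
  intro A hA
  by_contra hnot
  have htop : A ⊔ (C0.subgroupOf X).map f = ⊤ := hA.2 _ (lt_of_le_of_ne le_sup_left fun e => hnot (e ▸ le_sup_right))
  set A1 := A.comap f with hA1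
  have hA1top : A1 ⊔ C0.subgroupOf X = ⊤ := by
    have h1 := congrArg (Subgroup.comap f) htop
    rw [← Subgroup.map_comap_eq_self_of_surjective (QuotientGroup.mk'_surjective _) A, ← Subgroup.map_sup,
      Subgroup.comap_map_eq, Subgroup.comap_top, hf, QuotientGroup.ker_mk'] at h1
    rw [← h1]
    refine le_antisymm le_sup_left (sup_le le_rfl (le_trans ?_ le_sup_left))
    intro x hx
    show f x ∈ A
    rw [hf, QuotientGroup.mk'_apply, (QuotientGroup.eq_one_iff x).2 hx]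
    exact one_mem _
  haveI hC0n : (C0.subgroupOf X).Normal := subgroupOf_normal_of_le hn
  have hidx : ¬ p ∣ A1.index := by
    rw [index_eq_relIndex_of_sup_eq_top hA1top]
    intro hd
    refine hs.not_dvd_relIndex (hd.trans ?_)
    have hle : T0.subgroupOf X ≤ A1 ⊓ C0.subgroupOf X := by
      refine le_inf (fun x hx => ?_) (Subgroup.comap_mono inf_le_right)
      show f x ∈ A
      have hx' := (mem_pCoreOf.1 (hT0X (Subgroup.mem_subgroupOf.1 hx)))
      rw [hf, QuotientGroup.mk'_apply, (QuotientGroup.eq_one_iff x).2 (by simpa using hx'.2)]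
      exact one_mem _
    rw [← Subgroup.inf_relIndex_right]
    refine (Subgroup.relIndex_dvd_of_le_left (C0.subgroupOf X) hle).trans ?_
    rw [Subgroup.relIndex_subgroupOf inf_le_left]
  obtain ⟨P⟩ : Nonempty (Sylow p ↥A1) := inferInstance
  have hPidx : ¬ p ∣ ((P : Subgroup ↥A1).map A1.subtype).index := by
    rw [Subgroup.index_map_subtype]
    exact fun hd => (hp.out.dvd_mul.1 hd).elim P.not_dvd_index hidx
  let P' : Sylow p ↥X := (P.isPGroup'.map A1.subtype).toSylow hPidx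
  obtain ⟨c, hc, hcT⟩ := (isSylowOf_map_subtype P').exists_conj hTs
  set M2 := conjS c (A1.map X.subtype) with hM2
  have hTM2 : (T : Subgroup G) ≤ M2 := hcT.ge.trans (conjS_mono c (Subgroup.map_mono (Subgroup.map_subtype_le _)))
  have hcX : conjS c X = X := conjS_mem_eq_self hc
  have hM2X : M2 ≤ X := (conjS_mono c (Subgroup.map_subtype_le _)).trans hcX.le
  have hM2C : M2 ⊔ C0 = X := by
    have h1 := congrArg (Subgroup.map X.subtype) hA1top
    rw [Subgroup.map_sup, Subgroup.map_subgroupOf_eq_of_le inf_le_left, ← MonoidHom.range_eq_map,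
      Subgroup.range_subtype] at h1
    have h2 := congrArg (conjS c) h1
    rwa [conjS_sup, conjS_eq_self_iff.2 (hn hc), hcX] at h2
  have e := hmin M2 hTM2 hM2X (le_antisymm ((sup_le_sup_right hM2X C).trans hXK.le)
    (hXK.ge.trans (sup_le (hM2C.ge.trans (sup_le le_sup_left (inf_le_right.trans le_sup_right))) le_sup_right)))
  have h3 : A1.map X.subtype = X := by
    have := congrArg (conjS c⁻¹) e
    rwa [hM2, conjS_inv_cancel, conjS_mem_eq_self (inv_mem hc)] at this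
  have h4 : A1 = ⊤ := Subgroup.map_injective X.subtype_injective
    (by rw [h3, ← MonoidHom.range_eq_map, Subgroup.range_subtype])
  refine hA.1 (eq_top_iff.2 fun q _ => ?_)
  obtain ⟨y, rfl⟩ := QuotientGroup.mk'_surjective _ q
  have hy : y ∈ A1 := h4 ▸ Subgroup.mem_top y
  exact hy

theorem exists_frakM (hH : Cfsg.IsOfParabolicCharacteristic p G) (T : Sylow p G) {L : Subgroup G}
    (hTL : (T : Subgroup G) ≤ L) (hL : L ∈ Cfsg.charPSubgroups p G) :
    ∃ M Ls : Subgroup G, (T : Subgroup G) ≤ M ∧ Cfsg.IsInFrakM p M ∧ (T : Subgroup G) ≤ Ls ∧ Ls ≤ M ∧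
      Ls ∈ Cfsg.charPSubgroups p G ∧ Cfsg.largestPReducedOf p L = Cfsg.largestPReducedOf p Ls ∧
      Cfsg.largestPReducedOf p L ≤ Cfsg.largestPReducedOf p M ∧
      L ⊔ Subgroup.centralizer (Cfsg.largestPReducedOf p L : Set G) =
        Ls ⊔ Subgroup.centralizer (Cfsg.largestPReducedOf p L : Set G) := by
  classical
  set YL := Cfsg.largestPReducedOf p L with hYL
  set CL := Subgroup.centralizer (YL : Set G) with hCL
  haveI : Finite (Subgroup G) := inferInstance
  let s : Set (Subgroup G) := {X | (T : Subgroup G) ≤ X ∧ X ∈ Cfsg.charPSubgroups p G ∧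
    YL ≤ Cfsg.largestPReducedOf p X ∧ ∀ l ∈ L, ∃ m ∈ X, m⁻¹ * l ∈ CL}
  have hLs : L ∈ s := ⟨hTL, hL, le_rfl, fun l hl => ⟨l, hl, by rw [inv_mul_cancel]; exact one_mem _⟩⟩
  obtain ⟨M0, hM0, hmax0⟩ := Set.exists_max_image s
    (fun X => Nat.card ↥(Cfsg.largestPReducedOf p X)) (Set.toFinite _) ⟨L, hLs⟩
  set Y := Cfsg.largestPReducedOf p M0 with hY
  set C := Subgroup.centralizer (Y : Set G) with hC
  have hYLY : YL ≤ Y := hM0.2.2.1
  have hCCL : C ≤ CL := Subgroup.centralizer_le hYLY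
  have hYeq : ∀ X ∈ s, Y ≤ Cfsg.largestPReducedOf p X → Cfsg.largestPReducedOf p X = Y := fun X hX h =>
    (Subgroup.eq_of_le_of_card_ge h (hmax0 X hX)).symm
  let s' : Set (Subgroup G) := {X | X ∈ s ∧ Y ≤ Cfsg.largestPReducedOf p X}
  obtain ⟨M1, hM1, hmax1⟩ := Set.exists_max_image s' (fun X => Nat.card ↥(X ⊔ C)) (Set.toFinite _)
    ⟨M0, hM0, le_rfl⟩
  have hYM1 := hYeq M1 hM1.1 hM1.2
  have hred1 : RedIn p Y M1 := hYM1 ▸ largestPReducedOf_redIn M1
  set K := M1 ⊔ C with hK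
  have hKY : K ≤ Subgroup.normalizer (Y : Set G) := sup_le hred1.normal (Subgroup.centralizer_le_normalizer _)
  have hTK : (T : Subgroup G) ≤ K := hM1.1.1.trans le_sup_left
  have hYT : Y ≤ (T : Subgroup G) := hYM1 ▸ largestPReducedOf_le_sylow T hM1.1.1
  have hY1 : Y ≠ ⊥ := largestPReducedOf_ne_bot T hM0.1 hM0.2.1
  have hOne : ∀ X : Subgroup G, Y ≤ X → X ≤ Subgroup.normalizer (Y : Set G) → Cfsg.pCoreOf p X ≠ ⊥ :=
    fun X h1 h2 e => hY1 (le_bot_iff.1 (e ▸ le_pCoreOf h1 h2 (T.isPGroup'.to_le hYT)))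
  have hKc : K ∈ Cfsg.charPSubgroups p G :=
    mem_charP_of_parabolic hH T hTK (hOne K (hYT.trans hTK) hKY)
  let s'' : Set (Subgroup G) := {X | (T : Subgroup G) ≤ X ∧ X ≤ K ∧ X ⊔ C = K}
  obtain ⟨M, hM, hminM⟩ := Set.exists_min_image s'' (fun X => Nat.card ↥X) (Set.toFinite _)
    ⟨M1, hM1.1.1, le_sup_left, rfl⟩
  obtain ⟨hTM, hMK, hMC⟩ := hM
  have hMc : M ∈ Cfsg.charPSubgroups p G :=
    mem_charP_of_parabolic hH T hTM (hOne M (hYT.trans hTM) (hMK.trans hKY))
  have hredM : RedIn p Y M := hred1.transfer (hYT.trans hTM) hMK (hMC.ge.trans' le_sup_left)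
  have helem : ∀ l ∈ L, ∃ m ∈ M, m⁻¹ * l ∈ CL := by
    intro l hl
    obtain ⟨m1, hm1, hl1⟩ := hM1.1.2.2.2 l hl
    have hm1K : m1 ∈ M ⊔ C := hMC.ge (le_sup_left (b := C) hm1)
    rw [← SetLike.mem_coe, Subgroup.coe_mul_of_left_le_normalizer_right _ _
      (le_normalizer_centralizer (hMK.trans hKY))] at hm1K
    obtain ⟨m, hm, c, hc, rfl⟩ := Set.mem_mul.1 hm1K
    refine ⟨m, hm, ?_⟩
    have := mul_mem (hCCL hc) hl1
    convert this using 1
    group
  have hup : ∀ X ∈ Cfsg.charPSubgroups p G, M ≤ X → X ≤ K ∧ Cfsg.largestPReducedOf p X = Y := by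
    intro X hX hMX
    have hYX : Y ≤ Cfsg.largestPReducedOf p X :=
      (le_largestPReducedOf hredM).trans (largestPReducedOf_mono T hTM hMX hX)
    have hXs : X ∈ s := ⟨hTM.trans hMX, hX, hYLY.trans hYX,
      fun l hl => let ⟨m, hm, hml⟩ := helem l hl; ⟨m, hMX hm, hml⟩⟩
    have hle : K ≤ X ⊔ C := hMC.ge.trans (sup_le_sup_right hMX C)
    have := Subgroup.eq_of_le_of_card_ge hle (hmax1 X ⟨hXs, hYX⟩)
    exact ⟨le_sup_left.trans this.ge, hYeq X hXs hYX⟩
  have hYM : Cfsg.largestPReducedOf p M = Y := (hup M hMc le_rfl).2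
  have hYK : Cfsg.largestPReducedOf p K = Y := (hup K hKc hMK).2
  obtain ⟨-, hcl, hfr⟩ := minimal_cover T hKY hTM hMC fun Z h1 h2 h3 =>
    Subgroup.eq_of_le_of_card_ge h2 (hminM Z ⟨h1, h2.trans hMK, h3⟩)
  have hfrak : Cfsg.IsInFrakM p M := by
    unfold Cfsg.IsInFrakM
    rw [hYM, ← hC, hMC]
    refine ⟨hMc, ⟨hKc, fun X hX hKX => le_antisymm (hup X hX (hMK.trans hKX)).1 hKX⟩,
      fun X hX hMX => (hX.2 K hKc (hup X hX.1 hMX).1).symm, hYK.symm, hcl, hfr⟩
  -- `L*`
  set L1 := L ⊔ CL with hL1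
  have hL1Y : L1 ≤ Subgroup.normalizer (YL : Set G) :=
    sup_le (largestPReducedOf_redIn L).normal (Subgroup.centralizer_le_normalizer _)
  let t : Set (Subgroup G) := {X | (T : Subgroup G) ≤ X ∧ X ≤ M ∧ X ⊔ CL = L1}
  have ht : M ⊓ L1 ∈ t := by
    refine ⟨le_inf hTM (hTL.trans le_sup_left), inf_le_left, le_antisymm (sup_le inf_le_right le_sup_right) (sup_le ?_ le_sup_right)⟩
    intro l hl
    obtain ⟨m, hm, hml⟩ := helem l hl
    have hmL : m ∈ L1 := by
      have := mul_mem (le_sup_left (b := CL) hl) (inv_mem (le_sup_right (a := L) hml))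
      convert this using 1
      group
    rw [show l = m * (m⁻¹ * l) by group]
    exact Subgroup.mul_mem_sup (Subgroup.mem_inf.2 ⟨hm, hmL⟩) hml
  obtain ⟨Ls, hLsT, hminL⟩ := Set.exists_min_image t (fun X => Nat.card ↥X) (Set.toFinite _) ⟨_, ht⟩
  obtain ⟨hTLs, hLsM, hLsC⟩ := hLsT
  have hYLT : YL ≤ (T : Subgroup G) := largestPReducedOf_le_sylow T hTL
  have hLsY : Ls ≤ Subgroup.normalizer (YL : Set G) := (le_sup_left.trans hLsC.le).trans hL1Y
  have hLsc : Ls ∈ Cfsg.charPSubgroups p G := mem_charP_of_parabolic hH T hTLs fun e =>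
    largestPReducedOf_ne_bot T hTL hL (le_bot_iff.1 (e ▸ le_pCoreOf (hYLT.trans hTLs) hLsY
      (T.isPGroup'.to_le hYLT)))
  obtain ⟨hn, -, -⟩ := minimal_cover T hL1Y hTLs hLsC fun Z h1 h2 h3 =>
    Subgroup.eq_of_le_of_card_ge h2 (hminL Z ⟨h1, h2.trans hLsM, h3⟩)
  have hredLs : RedIn p YL Ls := (largestPReducedOf_redIn L).transfer (hYLT.trans hTLs)
    (hLsC.le.trans' le_sup_left) (hLsC.ge.trans' le_sup_left)
  have hle := le_largestPReducedOf hredLs
  have hT0 : (T : Subgroup G) ⊓ Subgroup.centralizer (Cfsg.largestPReducedOf p Ls : Set G) = (T : Subgroup G) ⊓ CL := by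
    refine le_antisymm (inf_le_inf_left _ (Subgroup.centralizer_le hle)) (le_inf inf_le_left ?_)
    exact (le_pCoreOf (inf_le_left.trans hTLs) hn T.isPGroup'.to_inf_left).trans
      (largestPReducedOf_redIn Ls).pCoreOf_le_centralizer
  have hYe : YL = Cfsg.largestPReducedOf p Ls := by
    rw [hYL, largestPReducedOf_eq_omZ (charP_of_mem hL) ((isSylowOf_top T).mono hTL le_top),
      largestPReducedOf_eq_omZ (charP_of_mem hLsc) ((isSylowOf_top T).mono hTLs le_top), hT0]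
  exact ⟨M, Ls, hTM, hfrak, hTLs, hLsM, hLsc, hYe, hYM.symm ▸ hYLY, hLsC.symm⟩

end Cfsg.Agent.Lib.LocalEven
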