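import Cfsg.Agent.Lib.LocalEven.FrakLModels
import Cfsg.Agent.Lib.LocalEven.FrakMExists

/-!
`L ∈ 𝔏` supplies `FLData`.
-/

set_option autoImplicit false

namespace Cfsg.Agent.Lib.LocalEven

universe u

variable {G : Type u} [Group G] [Finite G] {p : ℕ} [Fact p.Prime]

theorem frakL_data {M L : Subgroup G} (hL : Cfsg.IsInFrakL p M L) :
    ∃ (X : Type) (_ : Group X) (π : ↥L →* X), FLData p L (Cfsg.largestPReducedOf p M) π := by
  set Y := Cfsg.largestPReducedOf p M with hY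
  have hYe : Cfsg.IsElementaryAbelian p Y := (largestPReducedOf_redIn M).elem
  obtain ⟨hYL, hR, hRY, ⟨hnc, -⟩, -, ⟨hlt, huniq⟩, hcase⟩ := hL
  have hR' : Cfsg.pCoreOf p L =
    (Subgroup.normalClosure (((Y ⊓ Cfsg.pCoreOf p L).subgroupOf L : Subgroup ↥L) : Set ↥L)).map L.subtype := hR
  haveI := pCore_normal p ↥L
  have hYR : ¬ Y.subgroupOf L ≤ Cfsg.pCore p ↥L := by
    intro h
    refine hlt.ne (inf_eq_left.2 ?_)
    have h2 : (⊤ : Subgroup ↥L) ≤ Cfsg.pCore p ↥L := by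
      rw [← hnc]
      exact Subgroup.normalClosure_le_normal h
    intro x hx
    exact hRY ⟨⟨x, hx⟩, h2 trivial, rfl⟩
  have key : ∀ (X : Type) [Group X] (e : ↥L ⧸ Cfsg.pCore p ↥L ≃* X),
      let π : ↥L →* X := e.toMonoidHom.comp (QuotientGroup.mk' _)
      (Cfsg.IsElementaryAbelian p ((Y.subgroupOf L).map π) ∧ (Y.subgroupOf L).map π ≠ ⊥ ∧
        Nat.card ((Y.subgroupOf L).map π) = (Y ⊓ Cfsg.pCoreOf p L).relIndex Y) ∧
      (GoodPair p ((Y.subgroupOf L).map π) → FLData p L Y π) := by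
    intro X _ e π
    have hker : π.ker = Cfsg.pCore p ↥L := by
      ext a
      rw [MonoidHom.mem_ker, MonoidHom.comp_apply, MulEquiv.coe_toMonoidHom, MulEquiv.map_eq_one_iff]
      exact QuotientGroup.eq_one_iff a
    refine ⟨⟨⟨⟨⟨?_⟩⟩, ?_⟩, ?_, ?_⟩, fun hg => ⟨hYL, hYe, hR', hRY, hnc, hlt, huniq, ?_, hker, hg⟩⟩
    · rintro ⟨_, a, ha, rfl⟩ ⟨_, b, hb, rfl⟩
      refine Subtype.ext ?_
      show π a * π b = π b * π a
      rw [← map_mul, ← map_mul]
      exact congrArg π (Subtype.ext (show (a : G) * b = b * a from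
        congrArg Subtype.val (hYe.1.is_comm.comm (⟨a, ha⟩ : Y) ⟨b, hb⟩)))
    · rintro _ ⟨a, ha, rfl⟩
      rw [← map_pow, show a ^ p = 1 from Subtype.ext (hYe.2 a ha), map_one]
    · intro e'
      rw [Subgroup.map_eq_bot_iff, hker] at e'
      exact hYR e'
    · rw [← Subgroup.relIndex_ker, hker, ← subgroupOf_pCoreOf, Subgroup.relIndex_subgroupOf hYL,
        Subgroup.inf_relIndex_left]
    · exact e.surjective.comp (QuotientGroup.mk'_surjective _)
  rcases hcase with ⟨F, _, _, hc, ⟨e⟩⟩ | ⟨rfl, F, _, _, m, hF, hc, ⟨e⟩⟩ | ⟨rfl, r, hr, hr2, ⟨e⟩⟩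
  · obtain ⟨⟨hA, hne, hcard⟩, mk⟩ := key _ e
    haveI := Finite.of_equiv _ e.toEquiv
    set A := (Y.subgroupOf L).map (e.toMonoidHom.comp (QuotientGroup.mk' (Cfsg.pCore p ↥L))) with hAdef
    have hAp : IsPGroup p A := fun a => ⟨1, Subtype.ext (by
      rw [SubgroupClass.coe_pow, pow_one]; exact hA.2 a a.2)⟩
    rw [← hc] at hcard
    obtain ⟨n, hn⟩ := IsPGroup.iff_card.1 hAp
    have hn0 : n ≠ 0 := by
      rintro rfl
      rw [pow_zero] at hn
      exact hne (Subgroup.card_eq_one.1 hn)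
    haveI : CharP F p := by
      obtain ⟨q, hq⟩ := CharP.exists F
      obtain ⟨k, hqp, hk⟩ := FiniteField.card F q
      have : q ∣ p ^ n := by rw [← hn, hcard, hk]; exact dvd_pow_self q k.pos.ne'
      rwa [← (Nat.prime_dvd_prime_iff_eq hqp Fact.out).1 (hqp.dvd_of_dvd_pow this)]
    exact ⟨_, _, _, mk (sl2_good hAp hcard)⟩
  · obtain ⟨⟨hA, -, hcard⟩, mk⟩ := key _ e
    rw [← hc] at hcard
    haveI : CharP F 2 := KnownA.Suz.charP_two hF
    exact ⟨_, _, _, mk (sz_good (KnownA.Suz.th_sq hF) hF hA hcard)⟩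
  · obtain ⟨⟨hA, hne, -⟩, mk⟩ := key _ e
    exact ⟨_, _, _, mk (dihedral_good hr hr2 hA hne)⟩

end Cfsg.Agent.Lib.LocalEven
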