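import Cfsg.Agent.Lib.LocalEven.FrakL
import Cfsg.Agent.Lib.KnownA.SuzukiElemAbelian
import Cfsg.Agent.Lib.KnownA.GL2
import Cfsg.Agent.Lib.SL2Trace.Basic

/-!
The models `SL₂(q)`, `Sz(q)`, dihedral of order `2r` with their subgroup `A`: the conditions `GoodPair`.
-/

set_option autoImplicit false

namespace Cfsg.Agent.Lib.LocalEven

open Matrix

section SL
open SL2Trace

variable {F : Type*} [Field F]

local notation "SL2" => Matrix.SpecialLinearGroup (Fin 2) F

def upUni (t : F) : SL2 := ⟨!![1, t; 0, 1], by simp [Matrix.det_fin_two]⟩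
def loUni (t : F) : SL2 := ⟨!![1, 0; t, 1], by simp [Matrix.det_fin_two]⟩
def upDiag (t : F) (ht : t ≠ 0) : SL2 := ⟨!![t, 0; 0, t⁻¹], by simp [Matrix.det_fin_two, ht]⟩

theorem upUni_val (t : F) : (upUni t : Matrix (Fin 2) (Fin 2) F) = !![1, t; 0, 1] := rfl
theorem loUni_val (t : F) : (loUni t : Matrix (Fin 2) (Fin 2) F) = !![1, 0; t, 1] := rfl
theorem upDiag_val (t : F) (ht : t ≠ 0) :
    (upDiag t ht : Matrix (Fin 2) (Fin 2) F) = !![t, 0; 0, t⁻¹] := rfl

theorem upUni_mul (s t : F) : upUni s * upUni t = upUni (s + t) := by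
  refine Subtype.ext ?_
  ext i j
  fin_cases i <;> fin_cases j <;>
    simp [Matrix.SpecialLinearGroup.coe_mul, upUni_val, Matrix.mul_apply, Fin.sum_univ_two, add_comm]

theorem upUni_zero : upUni (0 : F) = 1 := by
  refine Subtype.ext ?_
  ext i j
  fin_cases i <;> fin_cases j <;> simp [upUni]

/-- The upper unitriangular subgroup. -/
def upU (F : Type*) [Field F] : Subgroup (Matrix.SpecialLinearGroup (Fin 2) F) where
  carrier := Set.range upUni
  one_mem' := ⟨0, upUni_zero⟩
  mul_mem' := by rintro _ _ ⟨s, rfl⟩ ⟨t, rfl⟩; exact ⟨s + t, (upUni_mul s t).symm⟩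
  inv_mem' := by
    rintro _ ⟨s, rfl⟩
    refine ⟨-s, ?_⟩
    refine eq_inv_of_mul_eq_one_left ?_
    rw [upUni_mul, neg_add_cancel, upUni_zero]

theorem upUni_injective : Function.Injective (upUni (F := F)) := fun s t h => by
  have := congrArg (fun A : SL2 => A 0 1) h
  simpa [upUni] using this

variable [Fintype F] {p : ℕ} [Fact p.Prime] [CharP F p]

theorem card_upU : Nat.card (upU F) = Fintype.card F := by
  rw [← Nat.card_eq_fintype_card]
  exact (Nat.card_congr (Equiv.ofInjective _ upUni_injective)).symm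

theorem exists_card : ∃ n, 0 < n ∧ Fintype.card F = p ^ n := by
  obtain ⟨n, -, h⟩ := FiniteField.card F p
  exact ⟨n, n.2, h⟩

theorem upU_isPGroup : IsPGroup p (upU F) := by
  obtain ⟨n, -, hn⟩ := exists_card (F := F) (p := p)
  exact IsPGroup.of_card (n := n) (card_upU.trans hn)

theorem not_dvd_sq_sub_one : ¬ p ∣ Fintype.card F ^ 2 - 1 := by
  obtain ⟨n, hn0, hn⟩ := exists_card (F := F) (p := p)
  intro h
  have h1 : p ∣ Fintype.card F ^ 2 := by
    rw [hn, ← pow_mul]
    exact dvd_pow_self p (by omega)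
  have h2 := Nat.dvd_sub h1 h
  rw [Nat.sub_sub_self (Nat.one_le_pow _ _ Fintype.card_pos)] at h2
  exact (Fact.out : p.Prime).one_lt.ne' (Nat.dvd_one.1 h2)

theorem pgroup_card_le {Q : Subgroup SL2} (hQ : IsPGroup p Q) : Nat.card Q ≤ Fintype.card F := by
  obtain ⟨k, hk⟩ := IsPGroup.iff_card.1 hQ
  have hd := Subgroup.card_subgroup_dvd_card Q
  rw [KnownA.card_SL2, hk] at hd
  refine hk.le.trans (Nat.le_of_dvd Fintype.card_pos ?_)
  exact (Nat.Coprime.pow_left k ((Fact.out : p.Prime).coprime_iff_not_dvd.2 not_dvd_sq_sub_one)).dvd_of_dvd_mul_right hd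

/-- The upper unitriangular subgroup as a Sylow subgroup. -/
noncomputable def upSylow : Sylow p SL2 :=
  ⟨upU F, upU_isPGroup, fun {_} hQ hle => (Subgroup.eq_of_le_of_card_ge hle
    ((pgroup_card_le hQ).trans card_upU.ge)).symm⟩

theorem exists_conj_upU {Q : Subgroup SL2} (hQ : IsPGroup p Q) : ∃ g : SL2, Q ≤ conjS g (upU F) := by
  obtain ⟨P, hP⟩ := hQ.exists_le_sylow
  obtain ⟨g, hg⟩ := MulAction.exists_smul_eq SL2 (upSylow (F := F) (p := p)) P
  refine ⟨g, hP.trans (le_of_eq ?_)⟩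
  rw [← hg, Sylow.coe_subgroup_smul]
  rfl

theorem mem_normalizer_upU {g : SL2} (h : g 1 0 = 0) : g ∈ Subgroup.normalizer (upU F : Set SL2) := by
  have hd := det_eq g
  rw [h, mul_zero, sub_zero] at hd
  rw [← conjS_eq_self_iff]
  refine Subgroup.eq_of_le_of_card_ge ?_ (by rw [card_conjS])
  rintro _ ⟨_, ⟨t, rfl⟩, rfl⟩
  refine ⟨g 0 0 * g 0 0 * t, ?_⟩
  show upUni (g 0 0 * g 0 0 * t) = g * upUni t * g⁻¹
  rw [eq_mul_inv_iff_mul_eq]
  refine Subtype.ext ?_
  ext i j
  fin_cases i <;> fin_cases j <;>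
    simp [Matrix.SpecialLinearGroup.coe_mul, upUni_val, Matrix.mul_apply, Fin.sum_univ_two, h]
  linear_combination (t * g 0 0) * hd

theorem upU_ti {g : SL2} {t : F} (ht : t ≠ 0) (h : g * upUni t * g⁻¹ ∈ upU F) : g 1 0 = 0 := by
  obtain ⟨s, hs⟩ := h
  rw [eq_mul_inv_iff_mul_eq] at hs
  have h1 := congrArg (fun A : SL2 => A 1 1) hs
  simp [Matrix.SpecialLinearGroup.coe_mul, upUni_val, Matrix.mul_apply, Fin.sum_univ_two] at h1
  rcases h1 with h1 | h1
  · exact h1
  · exact absurd h1 ht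

theorem pow_of_tr_two {A : SL2} (h : tr A = 2) : A ^ p = 1 := by
  have hA : ((A : Matrix (Fin 2) (Fin 2) F) - 1) * ((A : Matrix (Fin 2) (Fin 2) F) - 1) = 0 := by
    rw [Matrix.sub_mul, Matrix.mul_sub, Matrix.mul_sub, sq_eq A, h]
    simp [two_smul]
    abel
  have hp : 2 ≤ p := (Fact.out : p.Prime).two_le
  have h1 : ((A : Matrix (Fin 2) (Fin 2) F) - 1) ^ p = 0 := by
    rw [show p = 2 + (p - 2) by omega, pow_add, sq, hA, zero_mul]
  rw [sub_pow_char_of_commute p (Commute.one_right _), one_pow, sub_eq_zero] at h1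
  exact Subtype.ext (by simpa using h1)

theorem tr_two_mem (p : ℕ) [Fact p.Prime] [CharP F p] {A : SL2} (h : tr A = 2) : ∃ g, A ∈ conjS g (upU F) := by
  have hp : IsPGroup p (Subgroup.zpowers A) := by
    rintro ⟨_, j, rfl⟩
    refine ⟨1, Subtype.ext ?_⟩
    show (A ^ j) ^ p ^ 1 = 1
    rw [pow_one, ← zpow_natCast, ← _root_.zpow_mul, mul_comm, _root_.zpow_mul, zpow_natCast, pow_of_tr_two h, _root_.one_zpow]
  obtain ⟨g, hg⟩ := exists_conj_upU hp
  exact ⟨g, hg (Subgroup.mem_zpowers A)⟩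

theorem upU_good : GoodPair p (upU F) := by
  refine ⟨?_, ?_, ?_⟩
  · intro x a ha ha1 hn
    obtain ⟨t, rfl⟩ := ha
    have ht : t ≠ 0 := fun e => ha1 (e ▸ upUni_zero)
    -- a `p`-element normalizing a Sylow subgroup lies in it
    have hmem : upUni t ∈ conjS x (upU F) := by
      have hp : IsPGroup p ↥(Subgroup.zpowers (upUni t) ⊔ conjS x (upU F)) :=
        (IsPGroup.to_le upU_isPGroup (Subgroup.zpowers_le.2 ⟨t, rfl⟩)).to_sup_of_normal_right'
          (upU_isPGroup.map _) (Subgroup.zpowers_le.2 hn)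
      have e := Subgroup.eq_of_le_of_card_ge (le_sup_right : conjS x (upU F) ≤ _)
        ((pgroup_card_le hp).trans (by rw [card_conjS, card_upU]))
      rw [e]
      exact Subgroup.mem_sup_left (Subgroup.mem_zpowers _)
    have hc : x⁻¹ * upUni t * x⁻¹⁻¹ ∈ upU F := by rw [inv_inv]; exact mem_conjS.1 hmem
    have := inv_mem (mem_normalizer_upU (upU_ti ht hc))
    rw [inv_inv] at this
    exact conjS_eq_self_iff.2 this
  · intro h r hr hrp ho
    have hr1 : h ≠ 1 := fun e => hr.one_lt.ne' (by rw [← ho, e, orderOf_one])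
    have hhr : h ^ r = 1 := ho ▸ pow_orderOf_eq_one h
    by_cases hT : tr h ^ 2 = 4
    · -- `h` is the central involution
      have h2 : r = 2 := by
        have hd : orderOf h ∣ 2 * p := orderOf_dvd_of_pow_eq_one (by
          rcases pow_char_of_tr p hT with e | e <;> rw [mul_comm, pow_mul, e] <;> simp)
        rw [ho] at hd
        rcases hr.dvd_mul.1 hd with h2 | h2
        · exact (Nat.prime_dvd_prime_iff_eq hr Nat.prime_two).1 h2
        · exact absurd ((Nat.prime_dvd_prime_iff_eq hr Fact.out).1 h2) hrp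
      subst h2
      have hsq : (h : Matrix (Fin 2) (Fin 2) F) * h = 1 := by
        rw [← Matrix.SpecialLinearGroup.coe_mul, ← sq, hhr]; rfl
      rw [sq_eq h, sub_eq_iff_eq_add] at hsq
      have h20 : (2 : F) ≠ 0 := by
        intro e
        have h2d := (CharP.cast_eq_zero_iff F p 2).1 (by exact_mod_cast e)
        exact hrp ((Nat.prime_dvd_prime_iff_eq Fact.out Nat.prime_two).1 h2d).symm
      have e00 := congrFun (congrFun hsq 0) 0
      have e01 := congrFun (congrFun hsq 0) 1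
      have e10 := congrFun (congrFun hsq 1) 0
      have e11 := congrFun (congrFun hsq 1) 1
      simp at e00 e01 e10 e11
      have ht : tr h ≠ 0 := by
        intro e; rw [e, zero_mul] at e00
        exact h20 (by linear_combination -e00)
      have hz : h = -1 := by
        rcases SL2Trace.eq_scalar_of_entries (e10.resolve_left ht) (e01.resolve_left ht)
          (mul_left_cancel₀ ht (e00.trans e11.symm)) with e | e
        · exact absurd e hr1
        · exact e
      subst hz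
      refine Or.inr ⟨fun z => Commute.neg_one_left z, ?_⟩
      have htu : tr (-(upUni (1 : F) * loUni (-4))) = 2 := by
        rw [tr_neg, tr_eq]
        simp [Matrix.SpecialLinearGroup.coe_mul, upUni_val, loUni_val, Matrix.mul_apply, Fin.sum_univ_two]
        norm_num
      obtain ⟨k, hk⟩ := tr_two_mem p htu
      obtain ⟨g, hg⟩ := tr_two_mem p (A := loUni (F := F) (-4)) (by simp [tr_eq, loUni_val]; norm_num)
      refine ⟨k, _, hk, 1, g, upUni 1, ?_, _, hg, ?_⟩
      · rw [conjS_one]; exact ⟨1, rfl⟩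
      · simp
    · refine Or.inl ?_
      set M := upUni (1 : F) * loUni (tr h - 2) with hM
      have hMt : tr M = tr h := by
        rw [hM, tr_eq (upUni _ * _)]
        simp [Matrix.SpecialLinearGroup.coe_mul, upUni_val, loUni_val, Matrix.mul_apply, Fin.sum_univ_two]
        ring
      obtain ⟨c, hc⟩ := isConj_iff.1 (isConj_of_tr_eq hMt (hMt ▸ hT))
      obtain ⟨g, hg⟩ := tr_two_mem p (A := loUni (tr h - 2)) (by simp [tr_eq, loUni_val]; norm_num)
      refine ⟨c, c * g, c * upUni 1 * c⁻¹, conj_mem_conjS ⟨1, rfl⟩, c * loUni (tr h - 2) * c⁻¹, ?_, ?_⟩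
      · rw [conjS_mul]; exact conj_mem_conjS hg
      · conv_lhs => rw [← hc, hM]
        group
  · intro V hV hne hVn hnV
    have hVp : IsPGroup p V := fun v => ⟨1, Subtype.ext (by
      rw [SubgroupClass.coe_pow, pow_one]; exact hV.2 v v.2)⟩
    have hp : IsPGroup p ↥(V ⊔ upU F) := hVp.to_sup_of_normal_right' upU_isPGroup hVn
    have hVU : V ≤ upU F := le_sup_left.trans (Subgroup.eq_of_le_of_card_ge
      (le_sup_right : upU F ≤ _) ((pgroup_card_le hp).trans card_upU.ge)).ge
    refine le_antisymm hVU ?_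
    let S : AddSubgroup F :=
      { carrier := {t | upUni t ∈ V}
        zero_mem' := by simp [upUni_zero]
        add_mem' := fun {s t} hs ht => by
          simp only [Set.mem_ofPred_eq] at hs ht ⊢
          rw [← upUni_mul]; exact mul_mem hs ht
        neg_mem' := fun {s} hs => by
          simp only [Set.mem_ofPred_eq] at hs ⊢
          rw [show upUni (-s) = (upUni s)⁻¹ from eq_inv_of_mul_eq_one_left (by
            rw [upUni_mul, neg_add_cancel, upUni_zero])]
          exact inv_mem hs }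
    obtain ⟨v, hv, hv1⟩ := (Subgroup.bot_or_exists_ne_one V).resolve_left hne
    obtain ⟨a, ha⟩ := hVU hv
    have haS : a ∈ S := show upUni a ∈ V from ha ▸ hv
    have ha0 : a ≠ 0 := fun e => hv1 (by rw [← ha, e, upUni_zero])
    have hscale : ∀ t : F, t * t * a ∈ S := by
      intro t
      rcases eq_or_ne t 0 with rfl | ht
      · simp
      · show upUni (t * t * a) ∈ V
        have hD : upDiag t ht ∈ Subgroup.normalizer (upU F : Set SL2) :=
          mem_normalizer_upU (by simp [upDiag])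
        have := (Subgroup.mem_normalizer_iff.1 (hnV hD) (upUni a)).1 haS
        rwa [show upUni (t * t * a) = upDiag t ht * upUni a * (upDiag t ht)⁻¹ by
          rw [eq_mul_inv_iff_mul_eq]
          refine Subtype.ext ?_
          ext i j
          fin_cases i <;> fin_cases j <;>
            simp [Matrix.SpecialLinearGroup.coe_mul, upUni_val, upDiag_val, Matrix.mul_apply, Fin.sum_univ_two]
          field_simp]
    rintro _ ⟨s, rfl⟩
    show s ∈ S
    rcases eq_or_ne (2 : F) 0 with h2 | h2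
    · haveI : CharP F 2 := CharTwo.of_one_ne_zero_of_two_eq_zero one_ne_zero h2
      obtain ⟨t, ht⟩ := FiniteField.isSquare_of_char_two (F := F) (ringChar.eq F 2) (s / a)
      have := hscale t
      rwa [← ht, div_mul_cancel₀ _ ha0] at this
    · have h4 := sub_mem (hscale ((s / a + 1) / 2)) (hscale ((s / a - 1) / 2))
      rwa [← sub_mul, show (s / a + 1) / 2 * ((s / a + 1) / 2) - (s / a - 1) / 2 * ((s / a - 1) / 2) = s / a by
        field_simp; ring, div_mul_cancel₀ _ ha0] at h4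

end SL

theorem GoodPair.conj {p : ℕ} {X : Type*} [Group X] {A : Subgroup X} (h : GoodPair p A) (g : X) :
    GoodPair p (conjS g A) := by
  refine ⟨fun x a ha ha1 hn => ?_, fun z r hr hrp ho => ?_, fun V hV hne hVn hnV => ?_⟩
  · have e : conjS (g⁻¹ * x * g) A = A := by
      refine h.ti _ (g⁻¹ * a * g) (mem_conjS.1 ha) (fun e => ha1 ?_) ?_
      · calc a = g * (g⁻¹ * a * g) * g⁻¹ := by group
          _ = 1 := by rw [e, mul_one, mul_inv_cancel]
      · rw [show g⁻¹ * x * g = g⁻¹ * (x * g) by group, conjS_mul, ← conjS_normalizer]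
        have := conj_mem_conjS (g := g⁻¹) (show a ∈ Subgroup.normalizer (conjS (x * g) A : Set X) by rwa [conjS_mul])
        rwa [inv_inv] at this
    have := congrArg (conjS g) e
    rwa [← conjS_mul, show g * (g⁻¹ * x * g) = x * g by group, conjS_mul] at this
  · have e : ∀ x, conjS (x * g⁻¹) (conjS g A) = conjS x A := fun x => by
      rw [← conjS_mul, inv_mul_cancel_right]
    rcases h.pair z r hr hrp ho with ⟨x, y, a, ha, b, hb, eq⟩ | ⟨hc, k, u, hu, x, y, a, ha, b, hb, eq⟩
    · exact Or.inl ⟨x * g⁻¹, y * g⁻¹, a, by rwa [e], b, by rwa [e], eq⟩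
    · exact Or.inr ⟨hc, k * g⁻¹, u, by rwa [e], x * g⁻¹, y * g⁻¹, a, by rwa [e], b, by rwa [e], eq⟩
  · have h0 := h.uniq (conjS g⁻¹ V) ?_ ?_ ?_ ?_
    · rw [← h0, conjS_cancel_inv]
    · refine ⟨?_, ?_⟩
      · haveI := hV.1
        rw [conjS]
        infer_instance
      · intro a ha
        have h1 := hV.2 _ (mem_conjS.1 ha)
        have h2 : (g * a * g⁻¹) ^ p = 1 := by rwa [inv_inv] at h1
        rwa [conj_pow, conj_eq_one_iff] at h2
    · intro e
      exact hne (by rw [← conjS_cancel_inv g V, e, conjS, Subgroup.map_bot])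
    · have := conjS_mono g⁻¹ hVn
      rwa [conjS_normalizer, conjS_inv_cancel] at this
    · have := conjS_mono g⁻¹ hnV
      rwa [conjS_normalizer, conjS_normalizer, conjS_inv_cancel] at this

theorem sl2_good {F : Type*} [Field F] [Fintype F] {p : ℕ} [Fact p.Prime] [CharP F p]
    {A : Subgroup (Matrix.SpecialLinearGroup (Fin 2) F)} (hA : IsPGroup p A)
    (hc : Nat.card A = Fintype.card F) : GoodPair p A := by
  obtain ⟨g, hg⟩ := exists_conj_upU hA
  rw [Subgroup.eq_of_le_of_card_ge hg (by rw [card_conjS, card_upU, hc])]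
  exact (upU_good (F := F)).conj g

section Sz
open KnownA.Suz

variable {F : Type*} [Field F] [Fintype F] [CharP F 2] {m : ℕ}
  (hθ : ∀ x : F, Cfsg.Agent.Lib.KnownA.szTh m (Cfsg.Agent.Lib.KnownA.szTh m x) = x * x)

include hθ

/-- The centre of the Sylow subgroup of the Borel subgroup. -/
def cenU : Subgroup ↥(G F m) where
  carrier := {g | ∃ b, g = u hθ 0 b}
  mul_mem' := by
    rintro _ _ ⟨b, rfl⟩ ⟨b', rfl⟩
    exact ⟨b + b', by rw [u_mul]; congr 1 <;> simp⟩
  one_mem' := ⟨0, (u_zero hθ).symm⟩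
  inv_mem' := by rintro _ ⟨b, rfl⟩; exact ⟨b, by rw [u_inv]; congr 1; simp⟩

theorem card_cenU : Nat.card (cenU hθ) = Fintype.card F := by
  rw [← Nat.card_eq_fintype_card]
  refine (Nat.card_congr (Equiv.ofBijective (fun b => (⟨u hθ 0 b, b, rfl⟩ : ↥(cenU hθ))) ⟨?_, ?_⟩)).symm
  · intro b b' h
    exact (u_injective hθ (congrArg Subtype.val h)).2
  · rintro ⟨_, b, rfl⟩
    exact ⟨b, rfl⟩

theorem B_normalizes_cenU : B hθ ≤ Subgroup.normalizer (cenU hθ : Set ↥(G F m)) := by
  intro g hg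
  obtain ⟨a, b, k, rfl⟩ := stab_none hθ hg
  rw [← conjS_eq_self_iff]
  refine Subgroup.eq_of_le_of_card_ge ?_ (by rw [card_conjS])
  rintro _ ⟨_, ⟨c, rfl⟩, rfl⟩
  exact ⟨_, conj_center hθ a b k c⟩

theorem mem_cenU_of_invol (hF : Fintype.card F = 2 ^ (2 * m + 1)) {g : ↥(G F m)} (hg : g ∈ B hθ)
    (h2 : g * g = 1) : g ∈ cenU hθ := by
  rcases eq_or_ne g 1 with rfl | h1
  · exact one_mem _
  obtain ⟨c, b, rfl⟩ := involution_form hθ hF h1 h2
  have hne : u hθ 0 b ≠ 1 := fun e => h1 (by rw [e, mul_one, mul_inv_cancel])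
  have e1 : act hθ c⁻¹ none = none := by
    refine u_fix_only hθ hne ((fix_iff_conj hθ (c := c)).1 ?_)
    rw [← act_mul hθ c c⁻¹, mul_inv_cancel, act_one]
    exact mem_B hθ |>.1 hg
  have hcB : c ∈ B hθ := by
    have := inv_mem (show c⁻¹ ∈ B hθ from e1)
    rwa [inv_inv] at this
  exact (Subgroup.mem_normalizer_iff.1 (B_normalizes_cenU hθ hcB) _).1 ⟨b, rfl⟩

theorem le_B_of_fix {x : ↥(G F m)} {b : F} (hb : b ≠ 0)
    (hn : u hθ 0 b ∈ Subgroup.normalizer (conjS x (cenU hθ) : Set ↥(G F m))) : x ∈ B hθ := by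
  set a := u hθ 0 b
  have ha1 : a ≠ 1 := fun e => hb (u_injective hθ (e.trans (u_zero hθ).symm)).2
  -- `a` moves the fixed point of a non-identity element of `cenU^x` to itself
  set d := x * u hθ 0 (1 : F) * x⁻¹
  have hd : a⁻¹ * d * a ∈ conjS x (cenU hθ) := by
    have := (Subgroup.mem_normalizer_iff.1 (inv_mem hn) d).1 (conj_mem_conjS ⟨1, rfl⟩)
    rwa [inv_inv] at this
  obtain ⟨c, hc⟩ := mem_conjS.1 hd
  have hc1 : u hθ 0 c ≠ 1 := by
    intro e
    rw [e] at hc
    have : u hθ 0 (1 : F) = 1 := by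
      calc u hθ 0 (1 : F) = x⁻¹ * a * (x * (x⁻¹ * (a⁻¹ * d * a) * x) * x⁻¹) * a⁻¹ * x := by simp only [d]; group
        _ = 1 := by rw [hc]; group
    exact one_ne_zero (u_injective hθ (this.trans (u_zero hθ).symm)).2
  have hdfix : act hθ d (act hθ x none) = act hθ x none :=
    (fix_iff_conj hθ).2 (act_u_none hθ 0 1)
  have e1 : act hθ (a⁻¹ * d * a) (act hθ a⁻¹ (act hθ x none)) = act hθ a⁻¹ (act hθ x none) := by
    rw [← act_mul, mul_inv_cancel_right, act_mul, hdfix]
  have e2 : a⁻¹ * d * a = x * u hθ 0 c * x⁻¹ := by rw [← hc]; group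
  rw [e2] at e1
  have e3 : act hθ (x⁻¹ * a⁻¹ * x) none = none := by
    refine u_fix_only hθ hc1 ((fix_iff_conj hθ (c := x)).1 ?_)
    rw [← act_mul hθ x (x⁻¹ * a⁻¹ * x), show x * (x⁻¹ * a⁻¹ * x) = a⁻¹ * x by group, act_mul hθ a⁻¹ x]
    exact e1
  have e4 : act hθ a (act hθ x none) = act hθ x none := by
    have : act hθ (x⁻¹ * a⁻¹ * x)⁻¹ none = none := by
      conv_lhs => rw [← e3, ← act_mul, inv_mul_cancel, act_one]
    rw [show (x⁻¹ * a⁻¹ * x)⁻¹ = x⁻¹ * a * x by group] at this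
    have := congrArg (act hθ x) this
    rwa [← act_mul, show x * (x⁻¹ * a * x) = a * x by group, act_mul] at this
  exact u_fix_only hθ ha1 e4

theorem sz_inverted (hF : Fintype.card F = 2 ^ (2 * m + 1)) {h : ↥(G F m)} {r : ℕ} (hr : r.Prime) (hr2 : r ≠ 2)
    (ho : orderOf h = r) : ∃ i : ↥(G F m), i * i = 1 ∧ i * h * i = h⁻¹ := by
  have hh1 : h ≠ 1 := fun e => hr.one_lt.ne' (by rw [← ho, e, orderOf_one])
  by_cases hfix : ∃ o, act hθ h o = o
  · obtain ⟨o, ho'⟩ := hfix
    rcases fixed_cases hθ ho' with ⟨c, a, b, rfl⟩ | ⟨c, k, -, rfl⟩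
    · exfalso
      have h4 : (c * u hθ a b * c⁻¹) ^ 4 = 1 := by
        have e2 : u hθ a b ^ 2 = u hθ 0 (KnownA.szTh m a * a) := by rw [pow_two, u_sq]
        rw [conj_pow, pow_mul (u hθ a b) 2 2, e2, pow_two, u_sq]
        simp [u_zero]
      have hd := orderOf_dvd_of_pow_eq_one h4
      rw [ho, show (4 : ℕ) = 2 * 2 from rfl] at hd
      rcases hr.dvd_mul.1 hd with h | h <;> exact hr2 ((Nat.prime_dvd_prime_iff_eq hr Nat.prime_two).1 h)
    · refine ⟨c * wel hθ * c⁻¹, ?_, ?_⟩
      · rw [show c * wel hθ * c⁻¹ * (c * wel hθ * c⁻¹) = c * (wel hθ * wel hθ) * c⁻¹ by group, wel_mul_self]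
        group
      · rw [show c * wel hθ * c⁻¹ * (c * tor hθ k * c⁻¹) * (c * wel hθ * c⁻¹) =
          c * ((wel hθ * tor hθ k) * wel hθ) * c⁻¹ by group, wel_tor, mul_assoc (tor hθ k⁻¹), wel_mul_self, mul_one,
          ← tor_inv]
        group
  push Not at hfix
  set A := Subgroup.centralizer ({h} : Set ↥(G F m)) with hAdef
  have hA : IsTorus hθ A := ⟨h, hfix, rfl⟩
  have hq2 : 2 ∣ Fintype.card F := by rw [hF]; exact dvd_pow_self 2 (by omega)
  have hAodd : ¬ 2 ∣ Nat.card A := by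
    intro h2
    have h3 := h2.trans (torus_dvd hθ hF hA)
    have := (Nat.dvd_add_right (hq2.mul_right (Fintype.card F))).1 h3
    omega
  have hN : 2 ∣ Nat.card (Subgroup.normalizer (A : Set ↥(G F m))) := by
    rcases Nat.eq_zero_or_pos m with rfl | hm
    · -- order 20: the torus is the normal Sylow 5-subgroup
      have hq : Fintype.card F = 2 := by rw [hF]; norm_num
      have hcard : Nat.card ↥(G F 0) = 20 := by rw [card_sz hθ, hq]
      have hA5 : Nat.card A = 5 := by
        have h1 := torus_five_le hθ hF hA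
        have h2 := Nat.le_of_dvd (by omega) (torus_dvd hθ hF hA)
        rw [hq] at h2
        omega
      haveI : Fact (Nat.Prime 5) := ⟨by norm_num⟩
      let P : Sylow 5 ↥(G F 0) := Sylow.ofCard A (by
        rw [hA5, hcard]
        rw [Nat.factorization_def _ (Fact.out : Nat.Prime 5),
          show (20 : ℕ) = 4 * 5 from rfl, padicValNat.mul (by norm_num) (by norm_num),
          padicValNat.eq_zero_of_not_dvd (show ¬ 5 ∣ 4 by norm_num), padicValNat.self (by norm_num)]
        norm_num)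
      have h1 := card_sylow_modEq_one 5 ↥(G F 0)
      have h2 : Nat.card (Sylow 5 ↥(G F 0)) ∣ 4 := by
        have h3 := P.card_dvd_index
        have h4 : (P : Subgroup ↥(G F 0)).index = 4 := by
          have := Subgroup.card_mul_index (P : Subgroup ↥(G F 0))
          rw [show Nat.card (P : Subgroup ↥(G F 0)) = 5 from hA5, hcard] at this
          omega
        rwa [h4] at h3
      have h5 : Nat.card (Sylow 5 ↥(G F 0)) = 1 := by
        have := Nat.le_of_dvd (by norm_num) h2
        unfold Nat.ModEq at h1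
        omega
      haveI : Subsingleton (Sylow 5 ↥(G F 0)) := (Nat.card_eq_one_iff_unique.1 h5).1
      have hn : (P : Subgroup ↥(G F 0)).Normal := Sylow.normal_of_subsingleton P
      have e : Subgroup.normalizer (A : Set ↥(G F 0)) = ⊤ :=
        Subgroup.normalizer_eq_top_iff.2 hn
      rw [e, Subgroup.card_top, hcard]
      norm_num
    · obtain ⟨-, -, -, -, -, -, -, hn4, -⟩ := exists_tori hθ hm hF
      exact (hn4 A hA).symm ▸ dvd_mul_of_dvd_left (by norm_num) _
  haveI : Fact (Nat.Prime 2) := ⟨Nat.prime_two⟩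
  obtain ⟨i, hi⟩ := exists_prime_orderOf_dvd_card' 2 hN
  have hi2 : (i : ↥(G F m)) * i = 1 := by
    rw [← sq, ← hi, ← SubgroupClass.coe_pow, pow_orderOf_eq_one]; rfl
  have hiA : (i : ↥(G F m)) ∉ A := fun hm' => hAodd (hi ▸ by
    rw [← Subgroup.orderOf_coe]
    exact (Subgroup.orderOf_coe (⟨(i : ↥(G F m)), hm'⟩ : A)).symm ▸ orderOf_dvd_natCard _)
  have hhA : h ∈ A := Subgroup.mem_centralizer_singleton_iff.2 rfl
  have hi' : (i : ↥(G F m))⁻¹ = i := inv_eq_of_mul_eq_one_right hi2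
  have hconj : ↑i * h * ↑i ∈ A := by
    have := (Subgroup.mem_normalizer_iff.1 i.2 h).1 hhA
    rwa [hi'] at this
  refine ⟨i, hi2, ?_⟩
  set y := h * (↑i * h * ↑i) with hy
  have hyA : y ∈ A := mul_mem hhA hconj
  have hcomm : h * (↑i * h * ↑i) = (↑i * h * ↑i) * h :=
    (Subgroup.mem_centralizer_singleton_iff.1 hconj).symm
  have hyi : (i : ↥(G F m)) ∈ Subgroup.centralizer ({y} : Set ↥(G F m)) := by
    rw [Subgroup.mem_centralizer_singleton_iff]
    calc (i : ↥(G F m)) * y = (↑i * h * ↑i) * h * ↑i := by rw [hy]; group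
      _ = y * ↑i := by rw [hy, hcomm]
  by_cases hy1 : y = 1
  · exact (inv_eq_of_mul_eq_one_right hy1).symm
  · rw [torus_centralizer hθ hF hA hyA hy1] at hyi
    exact absurd hyi hiA

theorem cenU_good (hF : Fintype.card F = 2 ^ (2 * m + 1)) : GoodPair 2 (cenU hθ) := by
  have hsq : ∀ a ∈ cenU hθ, a * a = 1 := by
    rintro _ ⟨b, rfl⟩
    rw [u_sq, mul_zero, u_zero]
  refine ⟨?_, ?_, ?_⟩
  · rintro x a ⟨b, rfl⟩ ha1 hn
    exact conjS_eq_self_iff.2 (B_normalizes_cenU hθ (le_B_of_fix hθ (fun e => ha1 (by rw [e, u_zero])) hn))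
  · intro h r hr hr2 ho
    have hh1 : h ≠ 1 := fun e => hr.one_lt.ne' (by rw [← ho, e, orderOf_one])
    have hsq' : h * h ≠ 1 := fun e => hr2 (ho ▸ orderOf_eq_prime (by rw [sq, e]) hh1)
    obtain ⟨i, hi, hinv⟩ := sz_inverted hθ hF hr hr2 ho
    refine Or.inl ?_
    have hi1 : i ≠ 1 := by
      rintro rfl
      rw [one_mul, mul_one] at hinv
      exact hsq' (mul_eq_one_iff_eq_inv.2 hinv)
    have hj : i * h * (i * h) = 1 := by
      rw [show i * h * (i * h) = i * h * i * h by group, hinv, inv_mul_cancel]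
    have hj1 : i * h ≠ 1 := fun e => hsq' (by rw [← inv_eq_of_mul_eq_one_right e, inv_eq_of_mul_eq_one_right hi, hi])
    obtain ⟨c, b, e⟩ := involution_form hθ hF hi1 hi
    obtain ⟨d, b', e'⟩ := involution_form hθ hF hj1 hj
    refine ⟨c, d, i, e ▸ conj_mem_conjS ⟨b, rfl⟩, i * h, e' ▸ conj_mem_conjS ⟨b', rfl⟩, ?_⟩
    rw [← mul_assoc, hi, one_mul]
  · intro V hV hne hVn hnV
    have hVc : V ≤ cenU hθ := by
      intro v hv
      refine mem_cenU_of_invol hθ hF ?_ (by rw [← sq]; exact hV.2 v hv)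
      have h1 := hVn hv
      rcases eq_or_ne v 1 with rfl | -
      · exact one_mem _
      -- `v` fixes the fixed point of `cenU`
      have hw : v * u hθ 0 (1 : F) * v⁻¹ ∈ cenU hθ := (Subgroup.mem_normalizer_iff.1 h1 _).1 ⟨1, rfl⟩
      obtain ⟨c, hc⟩ := hw
      have hne' : u hθ 0 (1 : F) ≠ 1 := fun e => one_ne_zero (u_injective hθ (e.trans (u_zero hθ).symm)).2
      exact mem_B_of_conj hθ (u_mem hθ 0 1) hne' (hc ▸ u_mem hθ 0 c)
    refine le_antisymm hVc ?_
    obtain ⟨v, hv, hv1⟩ := (Subgroup.bot_or_exists_ne_one V).resolve_left hne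
    obtain ⟨b, rfl⟩ := hVc hv
    have hb : b ≠ 0 := fun e => hv1 (by rw [e, u_zero])
    rintro _ ⟨c, rfl⟩
    rcases eq_or_ne c 0 with rfl | hc
    · rw [u_zero]; exact one_mem _
    obtain ⟨k, hk⟩ := exists_weight_th hθ (mul_ne_zero hc (inv_ne_zero hb))
    have hg : u hθ 0 0 * tor hθ k ∈ B hθ := mul_mem (U_le_B hθ (u_mem hθ 0 0)) (tor_mem_B hθ k)
    have := (Subgroup.mem_normalizer_iff.1 (hnV (B_normalizes_cenU hθ hg)) _).1 hv
    rwa [conj_center, div_eq_mul_one_div, hk, show b * (c * b⁻¹) = c by field_simp] at this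

theorem sz_good (hF : Fintype.card F = 2 ^ (2 * m + 1)) {A : Subgroup ↥(G F m)}
    (hA : Cfsg.IsElementaryAbelian 2 A) (hc : Nat.card A = Fintype.card F) : GoodPair 2 A := by
  obtain ⟨a, ha, ha1⟩ := (Subgroup.bot_or_exists_ne_one A).resolve_left (fun e => by
    rw [e, Subgroup.card_bot] at hc
    exact (Fintype.one_lt_card (α := F)).ne hc)
  obtain ⟨c, b, rfl⟩ := involution_form hθ hF ha1 (by rw [← sq]; exact hA.2 _ ha)
  have hne : u hθ 0 b ≠ 1 := fun e => ha1 (by rw [e, mul_one, mul_inv_cancel])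
  suffices h : A ≤ conjS c (cenU hθ) by
    rw [Subgroup.eq_of_le_of_card_ge h (by rw [card_conjS, card_cenU, hc])]
    exact (cenU_good hθ hF).conj c
  intro g hg
  have hcomm : g * (c * u hθ 0 b * c⁻¹) = c * u hθ 0 b * c⁻¹ * g :=
    congrArg Subtype.val (hA.1.is_comm.comm (⟨g, hg⟩ : A) ⟨_, ha⟩)
  have hU := commute_u hθ hne (centralizer_conj hθ hcomm)
  refine mem_conjS.2 (mem_cenU_of_invol hθ hF (U_le_B hθ hU) ?_)
  rw [show c⁻¹ * g * c * (c⁻¹ * g * c) = c⁻¹ * (g * g) * c by group, ← sq g, hA.2 g hg]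
  group

end Sz

theorem dihedral_good {r : ℕ} (hr : r.Prime) (hr2 : r ≠ 2) {A : Subgroup (DihedralGroup r)}
    (hA : Cfsg.IsElementaryAbelian 2 A) (hne : A ≠ ⊥) : GoodPair 2 A := by
  haveI : NeZero r := ⟨hr.ne_zero⟩
  haveI : Fact r.Prime := ⟨hr⟩
  have h20 : (2 : ZMod r) ≠ 0 := fun e => hr2 ((Nat.prime_dvd_prime_iff_eq hr Nat.prime_two).1
    ((ZMod.natCast_eq_zero_iff 2 r).1 (by exact_mod_cast e)))
  have hinv : ∀ g : DihedralGroup r, g * g = 1 → g ≠ 1 → ∃ i, g = DihedralGroup.sr i := by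
    rintro (i | i) h h1
    · exfalso
      rw [DihedralGroup.r_mul_r, DihedralGroup.one_def, DihedralGroup.r.injEq, ← two_mul] at h
      exact h1 (by rw [(mul_eq_zero.1 h).resolve_left h20]; rfl)
    · exact ⟨i, rfl⟩
  obtain ⟨a, ha, ha1⟩ := (Subgroup.bot_or_exists_ne_one A).resolve_left hne
  obtain ⟨i, rfl⟩ := hinv a (by rw [← sq]; exact hA.2 a ha) ha1
  have hconj : ∀ (g : DihedralGroup r) (j : ZMod r), ∃ l, g * DihedralGroup.sr j * g⁻¹ = DihedralGroup.sr l := by
    intro g j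
    refine hinv _ ?_ fun e => ?_
    · rw [show g * DihedralGroup.sr j * g⁻¹ * (g * DihedralGroup.sr j * g⁻¹) =
        g * (DihedralGroup.sr j * DihedralGroup.sr j) * g⁻¹ by group, DihedralGroup.sr_mul_self]
      group
    · rw [conj_eq_one_iff, DihedralGroup.one_def] at e
      cases e
  have hcomm : ∀ j l : ZMod r, Commute (DihedralGroup.sr j) (DihedralGroup.sr l) → j = l := by
    intro j l h
    have h' := h.eq
    rw [DihedralGroup.sr_mul_sr, DihedralGroup.sr_mul_sr, DihedralGroup.r.injEq] at h'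
    have : (2 : ZMod r) * (j - l) = 0 := by linear_combination -h'
    exact sub_eq_zero.1 ((mul_eq_zero.1 this).resolve_left h20)
  have hAeq : ∀ g ∈ A, g = 1 ∨ g = DihedralGroup.sr i := by
    intro g hg
    by_cases hg1 : g = 1
    · exact Or.inl hg1
    obtain ⟨l, rfl⟩ := hinv g (by rw [← sq]; exact hA.2 g hg) hg1
    exact Or.inr (congrArg _ (hcomm l i (congrArg Subtype.val (hA.1.is_comm.comm (⟨_, hg⟩ : A) ⟨_, ha⟩))))
  have hN : ∀ (g x : DihedralGroup r) (j : ZMod r), x * DihedralGroup.sr i * x⁻¹ = DihedralGroup.sr j →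
      g ∈ Subgroup.normalizer (conjS x A : Set (DihedralGroup r)) → Commute g (DihedralGroup.sr j) := by
    intro g x j hj hg
    have h1 := mem_conjS.1 ((Subgroup.mem_normalizer_iff.1 hg _).1 (hj ▸ conj_mem_conjS ha))
    obtain ⟨l, hl⟩ := hconj g j
    rw [hl] at h1
    rcases hAeq _ h1 with e | e
    · exfalso
      have : DihedralGroup.sr l = (1 : DihedralGroup r) := by
        calc DihedralGroup.sr l = x * (x⁻¹ * DihedralGroup.sr l * x) * x⁻¹ := by group
          _ = 1 := by rw [e, mul_one, mul_inv_cancel]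
      rw [DihedralGroup.one_def] at this
      cases this
    · have e2 : DihedralGroup.sr l = DihedralGroup.sr j := by
        rw [← hj, ← e]; group
      rw [e2] at hl
      exact mul_inv_eq_iff_eq_mul.1 hl
  refine ⟨?_, ?_, ?_⟩
  · intro x g hg hg1 hn
    obtain ⟨rfl⟩ : g = DihedralGroup.sr i := (hAeq g hg).resolve_left hg1
    obtain ⟨j, hj⟩ := hconj x i
    have e := hcomm i j (hN _ x j hj hn)
    subst e
    refine Subgroup.eq_of_le_of_card_ge ?_ (by rw [card_conjS])
    intro y hy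
    rcases hAeq _ (mem_conjS.1 hy) with e | e
    · rw [show y = x * (x⁻¹ * y * x) * x⁻¹ by group, e, mul_one, mul_inv_cancel]; exact one_mem _
    · rw [show y = x * (x⁻¹ * y * x) * x⁻¹ by group, e, hj]; exact ha
  · intro h q hq hqp ho
    rcases h with j | j
    swap
    · exact absurd ((DihedralGroup.orderOf_sr j).symm.trans ho).symm hqp
    refine Or.inl ?_
    have hall : ∀ l : ZMod r, ∃ x, DihedralGroup.sr l ∈ conjS x A := by
      intro l
      refine ⟨DihedralGroup.r ((i - l) / 2), ?_⟩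
      have := conj_mem_conjS (g := DihedralGroup.r ((i - l) / 2)) ha
      rwa [DihedralGroup.inv_r, DihedralGroup.r_mul_sr, DihedralGroup.sr_mul_r,
        show i - (i - l) / 2 + -((i - l) / 2) = l by field_simp; ring] at this
    obtain ⟨x, hx⟩ := hall 0
    obtain ⟨y, hy⟩ := hall j
    exact ⟨x, y, _, hx, _, hy, by rw [DihedralGroup.sr_mul_sr, sub_zero]⟩
  · intro V hV hVne hVn _
    have hV' : ∀ v ∈ V, v = 1 ∨ v = DihedralGroup.sr i := by
      intro v hv
      by_cases hv1 : v = 1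
      · exact Or.inl hv1
      obtain ⟨l, rfl⟩ := hinv v (by rw [← sq]; exact hV.2 v hv) hv1
      have := hN (DihedralGroup.sr l) 1 i (by group) (by rw [conjS_one]; exact hVn hv)
      exact Or.inr (congrArg _ (hcomm l i this))
    obtain ⟨v, hv, hv1⟩ := (Subgroup.bot_or_exists_ne_one V).resolve_left hVne
    refine le_antisymm (fun w hw => ?_) (fun w hw => ?_)
    · rcases hV' w hw with rfl | rfl
      · exact one_mem _
      · exact ha
    · rcases hAeq w hw with rfl | rfl
      · exact one_mem _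
      · exact (hV' v hv).resolve_left hv1 ▸ hv

end Cfsg.Agent.Lib.LocalEven
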