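import Cfsg.Agent.Lib.LocalEven.WeaklyClosed
import Cfsg.Agent.Lib.Subnormal.Join
import Cfsg.Agent.Lib.Cores.PCore

/-!
`p`-closed, `p`-irreducible groups and groups minimal over a subgroup.
-/

set_option autoImplicit false

open scoped commutatorElement

namespace Cfsg.Agent.Lib.LocalEven

universe u

variable {G : Type u} [Group G] {p : ℕ}

theorem isPClosed_iff [Finite G] [Fact p.Prime] :
    Cfsg.IsPClosed p G ↔ ∀ A : Subgroup G, IsPGroup p A → A ≤ Cfsg.pCore p G := by
  constructor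
  · intro h A hA
    obtain ⟨P, hP⟩ := hA.exists_le_sylow
    exact hP.trans (le_pCore (h P) P.isPGroup')
  · intro h P
    rw [le_antisymm (h _ P.isPGroup') (pCore_le_sylow P)]
    exact pCore_normal p G

theorem isPClosed_sub_iff [Finite G] [Fact p.Prime] {N : Subgroup G} :
    Cfsg.IsPClosed p ↥N ↔ ∀ A : Subgroup G, A ≤ N → IsPGroup p A → A ≤ Cfsg.pCoreOf p N := by
  rw [isPClosed_iff]
  constructor
  · intro h A hA hp
    rw [← Subgroup.map_subgroupOf_eq_of_le hA]
    exact Subgroup.map_mono (h _ hp.comap_subtype)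
  · intro h A hp
    have := h (A.map N.subtype) (Subgroup.map_subtype_le A) (hp.map _)
    exact (Subgroup.map_le_map_iff_of_injective N.subtype_injective).1 this

theorem isPClosed_mono [Finite G] [Fact p.Prime] {N M : Subgroup G} (h : Cfsg.IsPClosed p ↥M)
    (hNM : N ≤ M) : Cfsg.IsPClosed p ↥N :=
  isPClosed_sub_iff.2 fun A hA hp => le_trans (le_inf (isPClosed_sub_iff.1 h A (hA.trans hNM) hp) hA)
    (le_pCoreOf inf_le_right (le_normalizer_inf (hNM.trans (le_normalizer_pCoreOf M)) Subgroup.le_normalizer)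
      (pCoreOf_isPGroup M).to_inf_left)

theorem pCoreOf_le_pCore_of_normal (N : Subgroup G) [hN : N.Normal] :
    Cfsg.pCoreOf p N ≤ Cfsg.pCore p G :=
  pCoreOf_le_pCore_of_subnormal hN.isSubnormal

theorem le_pCore_of_isPClosed [Finite G] [Fact p.Prime] {N A : Subgroup G} [N.Normal]
    (h : Cfsg.IsPClosed p ↥N) (hA : A ≤ N) (hp : IsPGroup p A) : A ≤ Cfsg.pCore p G :=
  (isPClosed_sub_iff.1 h A hA hp).trans (pCoreOf_le_pCore_of_normal N)

theorem isPClosed_of_sylow_le [Finite G] [Fact p.Prime] {N T : Subgroup G}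
    (hT : IsSylowOf p T N) (h : N ≤ Subgroup.normalizer (T : Set G)) : Cfsg.IsPClosed p ↥N :=
  isPClosed_sub_iff.2 fun _ hA hp => (hT.eq_of_normal h hA hp).trans (le_pCoreOf hT.le h hT.isPGroup)

theorem exists_coatom_ge [Finite G] {A : Subgroup G} (h : A ≠ ⊤) : ∃ M, IsCoatom M ∧ A ≤ M := by
  rcases eq_top_or_exists_le_coatom A with h1 | h1
  · exact absurd h1 h
  · exact h1

/-- Either a normal subgroup covers `G` modulo `T`, or it lies in the maximal subgroup over `T`. -/
theorem normal_sup_eq_top_or_le [Finite G] {T M N : Subgroup G}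
    (hu : ∀ X : Subgroup G, IsCoatom X → T ≤ X → X = M) : N ⊔ T = ⊤ ∨ N ≤ M := by
  by_contra hcon
  push_neg at hcon
  obtain ⟨X, hX, hle⟩ := exists_coatom_ge hcon.1
  exact hcon.2 ((le_sup_left.trans hle).trans (hu X hX (le_sup_right.trans hle)).le)

theorem pResidual_le_of_sup_eq_top [Finite G] [Fact p.Prime] {T N : Subgroup G} [N.Normal]
    (hT : IsPGroup p T) (h : N ⊔ T = ⊤) : Cfsg.pResidual p G ≤ N := by
  have h1 := pResOf_sup_le (p := p) (le_normalizer_of_normal T N)
    (by rw [pResOf_eq_bot_of_isPGroup hT]; exact bot_le)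
  rwa [sup_comm, h, pResOf_top] at h1

/-- A normal subgroup inside the maximal subgroup over `Y ≤ T` is `p`-closed. -/
theorem inf_sylow_normal_of_le [Finite G] [Fact p.Prime] {T Y M N : Subgroup G} [hN : N.Normal]
    (hT : IsSylowOf p T (⊤ : Subgroup G)) (hYT : Y ≤ T)
    (hu : ∀ X : Subgroup G, IsCoatom X → Y ≤ X → X = M) (hM : IsCoatom M) (hNM : N ≤ M) :
    (T ⊓ N).Normal := by
  by_contra hne
  have hn : Subgroup.normalizer ((T ⊓ N : Subgroup G) : Set G) ≠ ⊤ := fun h =>
    hne (Subgroup.normalizer_eq_top_iff.1 h)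
  obtain ⟨X, hX, hle⟩ := exists_coatom_ge hn
  have hYX : Y ≤ X :=
    (hYT.trans (le_normalizer_inf Subgroup.le_normalizer (le_normalizer_of_normal _ N))).trans hle
  rw [hu X hX hYX] at hle
  refine hM.1 (top_le_iff.1 ?_)
  rw [frattini_argument' le_top (le_normalizer_of_normal ⊤ N) (hT.inf_normal le_top (le_normalizer_of_normal ⊤ N))]
  exact sup_le hNM (inf_le_right.trans hle)

theorem isPClosed_of_le_max [Finite G] [Fact p.Prime] {T Y M N : Subgroup G} [hN : N.Normal]
    (hT : IsSylowOf p T (⊤ : Subgroup G)) (hYT : Y ≤ T)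
    (hu : ∀ X : Subgroup G, IsCoatom X → Y ≤ X → X = M) (hM : IsCoatom M) (hNM : N ≤ M) :
    Cfsg.IsPClosed p ↥N ∧ T ⊓ N ≤ Cfsg.pCore p G :=
  haveI := inf_sylow_normal_of_le hT hYT hu hM hNM
  ⟨isPClosed_of_sylow_le (hT.inf_normal le_top (le_normalizer_of_normal ⊤ N)) (le_normalizer_of_normal _ _),
    le_pCore ‹_› hT.isPGroup.to_inf_left⟩

theorem subnormal_exists_conj {X : Subgroup G} (hX : X.IsSubnormal) :
    X.Normal ∨ ∃ g : G, conjS g X ≠ X ∧ conjS g X ≤ Subgroup.normalizer (X : Set G) := by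
  suffices h : ∀ K : Subgroup G, K.IsSubnormal → ∀ X : Subgroup G, X ≤ K →
      K ≤ Subgroup.normalizer (X : Set G) →
      X.Normal ∨ ∃ g : G, conjS g X ≠ X ∧ conjS g X ≤ Subgroup.normalizer (X : Set G) from
    h X hX X le_rfl Subgroup.le_normalizer
  intro K hK
  induction hK with
  | top => exact fun X _ h => Or.inl (normal_of_le_normalizer h)
  | step K K2 hKK2 _ hn ih =>
    intro X hXK hKX
    by_cases h2 : K2 ≤ Subgroup.normalizer (X : Set G)
    · exact ih X (hXK.trans hKK2) h2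
    · obtain ⟨g, hg, hgX⟩ := SetLike.not_le_iff_exists.1 h2
      exact Or.inr ⟨g, fun e => hgX (conjS_eq_self_iff.1 e), (conjS_mono g hXK).trans
        ((conjS_eq_self_iff.2 (le_normalizer_of_subgroupOf_normal hKK2 hn hg)).le.trans hKX)⟩

/-- The join of the subnormal subgroups in a maximal subgroup is normal. -/
theorem subnormal_le_max_le_core [Finite G] {M N : Subgroup G} (hM : IsCoatom M) (hN : N.IsSubnormal)
    (hNM : N ≤ M) : N ≤ M.normalCore := by
  set S := {A : Subgroup G | A.IsSubnormal ∧ A ≤ M} with hS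
  have hX : (sSup S).IsSubnormal := Subnormal.isSubnormal_sSup fun A hA => hA.1
  have hXM : sSup S ≤ M := sSup_le fun A hA => hA.2
  have hkey : ∀ g : G, conjS g (sSup S) ≤ M → conjS g (sSup S) ≤ sSup S := fun g hg =>
    le_sSup (show conjS g (sSup S) ∈ S from ⟨hX.map (MulEquiv.surjective (MulAut.conj g)), hg⟩)
  have hMn : M ≤ Subgroup.normalizer ((sSup S : Subgroup G) : Set G) := by
    rw [le_normalizer_iff_forall]
    intro m hm
    refine le_antisymm (hkey m (conjS_le_of_mem hXM hm)) ?_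
    have := conjS_mono m (hkey m⁻¹ (conjS_le_of_mem hXM (inv_mem hm)))
    rwa [conjS_cancel_inv] at this
  have hn : (sSup S).Normal := by
    by_contra hnn
    have hNX : Subgroup.normalizer ((sSup S : Subgroup G) : Set G) = M := by
      rcases hMn.eq_or_lt with h | h
      · exact h.symm
      · exact absurd (Subgroup.normalizer_eq_top_iff.1 (hM.2 _ h)) hnn
    rcases subnormal_exists_conj hX with h | ⟨g, hg, hle⟩
    · exact hnn h
    · exact hg (Subgroup.eq_of_le_of_card_ge (hkey g (hle.trans hNX.le)) (card_conjS g _).ge)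
  exact (le_sSup (show N ∈ S from ⟨hN, hNM⟩)).trans (Subgroup.normal_le_normalCore.2 hXM)

theorem pResOf_le_of_le_sup [Finite G] [Fact p.Prime] {D N X : Subgroup G} [N.Normal]
    (hD : IsPGroup p D) (h : X ≤ D ⊔ N) : pResOf p X ≤ N :=
  (pResOf_mono h).trans (pResOf_sup_le (le_normalizer_of_normal D N)
    (by rw [pResOf_eq_bot_of_isPGroup hD]; exact bot_le))

theorem isPClosed_map_iff [Finite G] [hp : Fact p.Prime] {G' : Type u} [Group G'] [Finite G']
    {f : G →* G'} (hk : IsPGroup p f.ker) {N : Subgroup G} :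
    Cfsg.IsPClosed p ↥(N.map f) ↔ Cfsg.IsPClosed p ↥N := by
  constructor
  · intro h
    rw [isPClosed_sub_iff] at h ⊢
    intro A hA hAp
    have h1 := h (A.map f) (Subgroup.map_mono hA) (hAp.map f)
    set D := (Cfsg.pCoreOf p (N.map f)).comap f with hD
    have hDp : IsPGroup p D := (pCoreOf_isPGroup (N.map f)).comap_of_ker_isPGroup f hk
    refine (le_inf hA (Subgroup.map_le_iff_le_comap.1 h1)).trans ?_
    refine le_pCoreOf inf_le_left ?_ hDp.to_inf_right
    refine le_normalizer_inf Subgroup.le_normalizer fun n hn => ?_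
    rw [Subgroup.mem_normalizer_iff]
    intro x
    simp only [Subgroup.mem_comap, map_mul, map_inv]
    exact Subgroup.mem_normalizer_iff.1 (le_normalizer_pCoreOf (N.map f) (Subgroup.mem_map_of_mem f hn)) (f x)
  · intro h
    rw [isPClosed_sub_iff] at h ⊢
    intro A hA hAp
    obtain ⟨T, hT⟩ := exists_isSylowOf p (A.comap f ⊓ N)
    have hAe : A ≤ (A.comap f ⊓ N).map f := by
      intro a ha
      obtain ⟨n, hn, rfl⟩ := hA ha
      exact Subgroup.mem_map_of_mem f (Subgroup.mem_inf.2 ⟨ha, hn⟩)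
    have hAC : IsPGroup p ↥(A.comap f ⊓ N) := (hAp.comap_of_ker_isPGroup f hk).to_inf_left
    refine hAe.trans ((Subgroup.map_mono (h _ inf_le_right hAC)).trans ?_)
    exact le_pCoreOf (Subgroup.map_mono (pCoreOf_le N))
      ((Subgroup.map_mono (le_normalizer_pCoreOf N)).trans (Subgroup.le_normalizer_map f))
      ((pCoreOf_isPGroup N).map f)

theorem index_eq_relIndex_of_sup_eq_top [Finite G] {X D : Subgroup G} [D.Normal] (h : X ⊔ D = ⊤) :
    X.index = X.relIndex D := by
  have h1 := card_mul_relIndex' (le_top : X ≤ ⊤)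
  have h2 := card_mul_relIndex' (le_top : D ≤ ⊤)
  have h3 := card_mul_relIndex' (inf_le_left : X ⊓ D ≤ X)
  have h4 := card_mul_relIndex' (inf_le_right : X ⊓ D ≤ D)
  rw [Subgroup.relIndex_top_right] at h1
  rw [← h, Subgroup.relIndex_sup_right, h] at h2
  rw [Subgroup.inf_relIndex_left] at h3
  rw [Subgroup.inf_relIndex_right] at h4
  have h5 : D.relIndex X ≠ 0 := Subgroup.index_ne_zero_of_finite
  have h6 : Nat.card ↥(X ⊓ D) * (X.index * D.relIndex X) =
      Nat.card ↥(X ⊓ D) * (X.relIndex D * D.relIndex X) := by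
    rw [← mul_assoc, ← mul_assoc, h4, h2, ← h1, ← h3]; ring
  exact Nat.eq_of_mul_eq_mul_right (Nat.pos_of_ne_zero h5) (Nat.eq_of_mul_eq_mul_left Nat.card_pos h6)

theorem isPClosed_iff_top [Finite G] [Fact p.Prime] :
    Cfsg.IsPClosed p ↥(⊤ : Subgroup G) ↔ Cfsg.IsPClosed p G := by
  rw [isPClosed_sub_iff, isPClosed_iff, pCoreOf_top]
  exact ⟨fun h A hA => h A le_top hA, fun h A _ hA => h A hA⟩

end Cfsg.Agent.Lib.LocalEven
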