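import Cfsg.Agent.Lib.LocalEven.FrakH
import Cfsg.Agent.Lib.Involutions.BaerSuzuki

/-!
The asymmetric L-lemma: subgroups `L` of `H ∈ ℌ` minimal with `Y ≰ O_p(L)`.
-/

set_option autoImplicit false

open scoped commutatorElement

namespace Cfsg.Agent.Lib.LocalEven

universe u

variable {G : Type u} [Group G] {p : ℕ} [hp : Fact p.Prime] [Finite G]

/-- The data used in the asymmetric L-lemma. -/
structure LData (p : ℕ) (H L Y O : Subgroup G) : Prop where
  hLH : L ≤ H
  hYL : Y ≤ L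
  sup : L ⊔ O = H
  hYO : Y ≤ O
  hOY : O ≤ Subgroup.centralizer (Y : Set G)
  hpO : IsPGroup p O
  hP0 : Cfsg.pCoreOf p H ≤ Subgroup.normalizer (Y : Set G)
  hP0O : Cfsg.pCoreOf p H ≤ Subgroup.normalizer (O : Set G)
  hNOY : Subgroup.normalizer (O : Set G) ≤ Subgroup.normalizer (Y : Set G)
  hch : H ⊓ Subgroup.centralizer (Cfsg.pCoreOf p H : Set G) ≤ Cfsg.pCoreOf p H
  hwc : Wc p O
  hasym : ¬ Cfsg.IsSymmetricIn Y
  hnot : ¬ Y ≤ Cfsg.pCoreOf p L
  hmin : ∀ X : Subgroup G, X ≤ L → Y ≤ X → ¬ Y ≤ Cfsg.pCoreOf p X → X = L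

namespace LData

variable {H L Y O : Subgroup G}

theorem hOH (D : LData p H L Y O) : O ≤ H := le_sup_right.trans D.sup.le

theorem hYH (D : LData p H L Y O) : Y ≤ H := D.hYL.trans D.hLH

theorem hYp (D : LData p H L Y O) : IsPGroup p Y := D.hpO.to_le D.hYO

theorem hYY (D : LData p H L Y O) : Y ≤ Subgroup.centralizer (Y : Set G) := D.hYO.trans D.hOY

theorem asym_commute (D : LData p H L Y O) {n : G} (h1 : conjS n Y ≤ Subgroup.normalizer (Y : Set G))
    (h2 : conjS n⁻¹ Y ≤ Subgroup.normalizer (Y : Set G)) : ⁅Y, conjS n Y⁆ = ⊥ := by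
  by_contra hne
  refine D.hasym ⟨n, hne, le_inf (commutator_le_of_le_normalizer h1) (commutator_le_of_le_normalizer' ?_)⟩
  have := conjS_mono n h2
  rwa [conjS_cancel_inv, conjS_normalizer] at this

theorem commutator_P0 (D : LData p H L Y O) :
    ⁅Cfsg.pCoreOf p H, Y⁆ ≤ Y ⊓ Cfsg.pCoreOf p H :=
  le_inf (commutator_le_of_le_normalizer' D.hP0)
    (commutator_le_of_le_normalizer (D.hYH.trans (le_normalizer_pCoreOf H)))

theorem conjS_P0 (_D : LData p H L Y O) {h : G} (hh : h ∈ H) :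
    conjS h (Cfsg.pCoreOf p H) = Cfsg.pCoreOf p H :=
  conjS_eq_self_iff.2 (le_normalizer_pCoreOf H hh)

theorem commutator_P0_conj (D : LData p H L Y O) {h : G} (hh : h ∈ H) :
    ⁅Cfsg.pCoreOf p H, conjS h Y⁆ ≤ conjS h (Y ⊓ Cfsg.pCoreOf p H) := by
  have := conjS_mono h D.commutator_P0
  rwa [conjS_commutator, D.conjS_P0 hh] at this

theorem conjD0_le (D : LData p H L Y O) {h : G} (hh : h ∈ H) :
    conjS h (Y ⊓ Cfsg.pCoreOf p H) ≤ Cfsg.pCoreOf p H :=
  (conjS_mono h inf_le_right).trans (D.conjS_P0 hh).le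

theorem commutator_P0_O (D : LData p H L Y O) :
    ⁅Cfsg.pCoreOf p H, O⁆ ≤ Cfsg.pCoreOf p H ⊓ Subgroup.centralizer (Y : Set G) :=
  le_inf (commutator_le_of_le_normalizer (D.hOH.trans (le_normalizer_pCoreOf H)))
    ((commutator_le_of_le_normalizer' D.hP0O).trans D.hOY)

theorem gen_inv (_D : LData p H L Y O) {h : G} (hh : h ∈ L) (hg : Y ⊔ conjS h Y = L) :
    Y ⊔ conjS h⁻¹ Y = L := by
  have := congrArg (conjS h⁻¹) hg
  rwa [conjS_sup, conjS_inv_cancel, conjS_mem_eq_self (inv_mem hh), sup_comm] at this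

/-- `O_p(H)` is covered by a conjugate of `C(Y) ∩ O_p(H)` and `Y ∩ O_p(H)`, modulo `H`-trivial layers. -/
theorem cover (D : LData p H L Y O) {h : G} (hh : h ∈ L) (hg : Y ⊔ conjS h Y = L) :
    H ≤ Subgroup.normalizer
        ((conjS h (Cfsg.pCoreOf p H ⊓ Subgroup.centralizer (Y : Set G)) ⊔ (Y ⊓ Cfsg.pCoreOf p H) :
          Subgroup G) : Set G) ∧
      Cfsg.pCoreOf p H ⊓ Subgroup.centralizer (Y : Set G) ≤
        conjS h (Cfsg.pCoreOf p H ⊓ Subgroup.centralizer (Y : Set G)) ⊔ (Y ⊓ Cfsg.pCoreOf p H) := by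
  set P0 := Cfsg.pCoreOf p H with hP0
  set K := P0 ⊓ Subgroup.centralizer (Y : Set G) with hK
  set D0 := Y ⊓ P0 with hD0
  set B := K ⊔ conjS h⁻¹ D0 with hB
  have hhH : h ∈ H := D.hLH hh
  have hBP : B ≤ P0 := sup_le inf_le_left (D.conjD0_le (inv_mem hhH))
  have hn : H ≤ Subgroup.normalizer (B : Set G) := by
    refine D.sup.ge.trans (sup_le ((D.gen_inv hh hg).ge.trans (sup_le ?_ ?_)) ?_) <;>
      refine le_normalizer_of_commutator_le ((Subgroup.commutator_mono hBP le_rfl).trans ?_)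
    · exact D.commutator_P0.trans ((le_inf inf_le_right (inf_le_left.trans D.hYY)).trans le_sup_left)
    · exact (D.commutator_P0_conj (inv_mem hhH)).trans le_sup_right
    · exact D.commutator_P0_O.trans le_sup_left
  have e : conjS h K ⊔ D0 = B := by
    rw [← conjS_cancel_inv h D0, ← conjS_sup]
    exact conjS_eq_self_iff.2 (hn hhH)
  rw [e]
  exact ⟨hn, le_sup_left⟩

/-- If `m ∈ L` and `Y^m` commutes with `Y` then `m` normalizes `Y`. -/
theorem key (D : LData p H L Y O) {h : G} (hh : h ∈ L) (hg : Y ⊔ conjS h Y = L) {m : G} (hm : m ∈ L)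
    (hc : ⁅Y, conjS m Y⁆ = ⊥) : m ∈ Subgroup.normalizer (Y : Set G) := by
  set P0 := Cfsg.pCoreOf p H with hP0
  set K := P0 ⊓ Subgroup.centralizer (Y : Set G) with hK
  set D0 := Y ⊓ P0 with hD0
  have hhH : h ∈ H := D.hLH hh
  have hmH : m ∈ H := D.hLH hm
  have hD0K : D0 ≤ K := le_inf inf_le_right (inf_le_left.trans D.hYY)
  -- `Γ`
  set Γ := conjS h D0 ⊔ D0 with hΓ
  have hΓP : Γ ≤ P0 := sup_le (D.conjD0_le hhH) inf_le_right
  have hΓn : L ≤ Subgroup.normalizer (Γ : Set G) := by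
    refine hg.ge.trans (sup_le ?_ ?_) <;>
      refine le_normalizer_of_commutator_le ((Subgroup.commutator_mono hΓP le_rfl).trans ?_)
    · exact D.commutator_P0.trans le_sup_right
    · exact (D.commutator_P0_conj hhH).trans le_sup_left
  have hP0D0 : P0 ≤ Subgroup.normalizer (D0 : Set G) := le_normalizer_inf D.hP0 Subgroup.le_normalizer
  have hCm : conjS m Y ≤ Subgroup.centralizer (Y : Set G) :=
    le_centralizer_iff_commutator.2 (by rw [Subgroup.commutator_comm]; exact hc)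
  have hLc : ∀ c : G, c ∈ Subgroup.centralizer (Y : Set G) →
      c ∈ Subgroup.centralizer (conjS h Y : Set G) → ∀ l ∈ L, l * c = c * l := by
    intro c h1 h2 l hl
    have : L ≤ Subgroup.centralizer ({c} : Set G) := hg.ge.trans (sup_le
      (fun y hy => Subgroup.mem_centralizer_singleton_iff.2 (Subgroup.mem_centralizer_iff.1 h1 y hy))
      (fun y hy => Subgroup.mem_centralizer_singleton_iff.2 (Subgroup.mem_centralizer_iff.1 h2 y hy)))
    exact Subgroup.mem_centralizer_singleton_iff.1 (this hl)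
  have hD0m : conjS m D0 = D0 := by
    refine Subgroup.eq_of_le_of_card_ge ?_ (by rw [card_conjS])
    intro x hx
    have hxΓ : x ∈ Γ := (conjS_mono m (le_sup_right : D0 ≤ Γ)).trans (conjS_eq_self_iff.2 (hΓn hm)).le hx
    have hxC : x ∈ Subgroup.centralizer (Y : Set G) := hCm (conjS_mono m inf_le_left hx)
    rw [hΓ, ← SetLike.mem_coe,
      Subgroup.coe_mul_of_left_le_normalizer_right _ _ ((D.conjD0_le hhH).trans hP0D0)] at hxΓ
    obtain ⟨b, hb, a, ha, rfl⟩ := Set.mem_mul.1 hxΓ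
    refine mul_mem ?_ ha
    have hb1 : b ∈ Subgroup.centralizer (Y : Set G) := by
      have := mul_mem hxC (inv_mem (D.hYY (Subgroup.mem_inf.1 ha).1))
      rwa [mul_inv_cancel_right] at this
    have hb2 : b ∈ Subgroup.centralizer (conjS h Y : Set G) := by
      rw [← conjS_centralizer]
      exact conjS_mono h (inf_le_left.trans D.hYY) hb
    have e := hLc b hb1 hb2 h hh
    have := mem_conjS.1 hb
    rwa [mul_assoc, ← e, inv_mul_cancel_left] at this
  -- action on `K`
  have hact : ∀ k ∈ K, m * k * m⁻¹ ∈ K ∧ m * k * m⁻¹ * k⁻¹ ∈ D0 := by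
    intro k hk
    have hk' := (D.cover hh hg).2 hk
    have hKn : conjS h K ≤ Subgroup.normalizer (D0 : Set G) :=
      ((conjS_mono h inf_le_left).trans (D.conjS_P0 hhH).le).trans hP0D0
    rw [← SetLike.mem_coe, Subgroup.coe_mul_of_left_le_normalizer_right _ _ hKn] at hk'
    obtain ⟨c, hc', a, ha, rfl⟩ := Set.mem_mul.1 hk'
    have hc1 : c ∈ Subgroup.centralizer (Y : Set G) := by
      have := mul_mem (Subgroup.mem_inf.1 hk).2 (inv_mem (D.hYY (Subgroup.mem_inf.1 ha).1))
      rwa [mul_inv_cancel_right] at this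
    have hc2 : c ∈ Subgroup.centralizer (conjS h Y : Set G) := by
      rw [← conjS_centralizer]
      exact conjS_mono h inf_le_right hc'
    have hcP : c ∈ P0 := ((conjS_mono h inf_le_left).trans (D.conjS_P0 hhH).le) hc'
    have e := hLc c hc1 hc2 m hm
    have ha' : m * a * m⁻¹ ∈ D0 := hD0m.le (conj_mem_conjS ha)
    have e2 : m * (c * a) * m⁻¹ = c * (m * a * m⁻¹) := by rw [← mul_assoc m c a, e]; group
    refine ⟨e2 ▸ mul_mem (Subgroup.mem_inf.2 ⟨hcP, hc1⟩) (hD0K ha'), ?_⟩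
    rw [e2, show c * (m * a * m⁻¹) * (c * a)⁻¹ = c * (m * a * m⁻¹ * a⁻¹) * c⁻¹ by group]
    exact (Subgroup.mem_normalizer_iff.1 (hP0D0 hcP) _).1 (mul_mem ha' (inv_mem ha))
  have hKm : conjS m K = K := by
    refine Subgroup.eq_of_le_of_card_ge ?_ (by rw [card_conjS])
    intro x hx
    have := (hact _ (mem_conjS.1 hx)).1
    simpa [mul_assoc] using this
  -- `N`
  set N := O ⊔ conjS m O with hN
  have hNH : N ≤ H := sup_le D.hOH (conjS_le_of_mem D.hOH hmH)
  have hNc : N ≤ Subgroup.centralizer (D0 : Set G) := by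
    refine sup_le (D.hOY.trans (Subgroup.centralizer_le inf_le_left)) ?_
    rw [← hD0m, ← conjS_centralizer]
    exact conjS_mono m (D.hOY.trans (Subgroup.centralizer_le inf_le_left))
  have hON : O ≤ Subgroup.normalizer (K : Set G) :=
    le_normalizer_inf (D.hOH.trans (le_normalizer_pCoreOf H))
      (le_normalizer_centralizer (D.hOY.trans (Subgroup.centralizer_le_normalizer _)))
  have hOmN : conjS m O ≤ Subgroup.normalizer (K : Set G) := by
    have := conjS_mono m hON
    rwa [conjS_normalizer, hKm] at this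
  have hP0K : P0 ≤ Subgroup.normalizer (K : Set G) :=
    le_normalizer_inf Subgroup.le_normalizer (le_normalizer_centralizer D.hP0)
  have hNP : ⁅N, P0⁆ ≤ K := by
    refine commutator_sup_le hON hOmN ((Subgroup.commutator_comm _ _).le.trans D.commutator_P0_O) ?_
    have := conjS_mono m ((Subgroup.commutator_comm O P0).le.trans D.commutator_P0_O)
    rwa [conjS_commutator, D.conjS_P0 hmH, hKm] at this
  have hbot : ∀ A : Subgroup G, A ≤ Subgroup.normalizer ((⊥ : Subgroup G) : Set G) := by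
    intro A a _
    rw [← conjS_eq_self_iff, conjS, Subgroup.map_bot]
  have hNY : ⁅N, Y⁆ ≤ P0 := by
    have h1 : ⁅⁅Y, P0⁆, N⁆ ≤ ⊥ := by
      rw [← (le_centralizer_iff_commutator.1 hNc : ⁅N, D0⁆ = ⊥), Subgroup.commutator_comm N D0]
      exact Subgroup.commutator_mono ((Subgroup.commutator_comm _ _).le.trans D.commutator_P0) le_rfl
    have h2 : ⁅⁅P0, N⁆, Y⁆ ≤ ⊥ := by
      rw [← (le_centralizer_iff_commutator.1 (inf_le_right : K ≤ _) : ⁅K, Y⁆ = ⊥)]
      exact Subgroup.commutator_mono ((Subgroup.commutator_comm _ _).le.trans hNP) le_rfl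
    have h3 := le_bot_iff.1 (three_subgroup (hbot N) (hbot Y) (hbot P0) h1 h2)
    refine le_trans (le_inf ?_ (le_centralizer_iff_commutator.2 h3)) D.hch
    exact (Subgroup.commutator_mono hNH D.hYH).trans (commutator_le_of_le_normalizer Subgroup.le_normalizer)
  have hconjN : ∀ n ∈ N, conjS n Y ≤ Subgroup.normalizer (Y : Set G) := by
    intro n hn x hx
    have hy := mem_conjS.1 hx
    rw [show x = ⁅n, n⁻¹ * x * n⁆ * (n⁻¹ * x * n) by simp [commutatorElement_def, mul_assoc]]
    exact mul_mem (D.hP0 (hNY (Subgroup.commutator_mem_commutator hn hy))) (Subgroup.le_normalizer hy)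
  have hNYK : ∀ n ∈ N, ∀ y ∈ Y, n * y * n⁻¹ * y⁻¹ ∈ K := by
    intro n hn y hy
    refine Subgroup.mem_inf.2 ⟨hNY (Subgroup.commutator_mem_commutator hn hy), mul_mem ?_ (inv_mem (D.hYY hy))⟩
    have := D.asym_commute (hconjN n hn) (hconjN _ (inv_mem hn))
    rw [Subgroup.commutator_comm] at this
    exact le_centralizer_iff_commutator.2 this (conj_mem_conjS hy)
  have hfix : ∀ n ∈ N, ∀ d ∈ D0, n * d * n⁻¹ = d := by
    intro n hn d hd
    rw [← Subgroup.mem_centralizer_iff.1 (hNc hn) d hd]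
    group
  let S : Subgroup G :=
    { carrier := {n | n ∈ N ∧ ∃ o ∈ O, ∀ k ∈ K, (n * k * n⁻¹) * (o * k * o⁻¹)⁻¹ ∈ D0}
      one_mem' := ⟨one_mem _, 1, one_mem _, fun k _ => by simp⟩
      mul_mem' := by
        rintro a b ⟨ha, o1, ho1, h1⟩ ⟨hb, o2, ho2, h2⟩
        refine ⟨mul_mem ha hb, o1 * o2, mul_mem ho1 ho2, fun k hk => ?_⟩
        have hk' : o2 * k * o2⁻¹ ∈ K := (Subgroup.mem_normalizer_iff.1 (hON ho2) k).1 hk
        have e := hfix a ha _ (h2 k hk)
        have := mul_mem (h2 k hk) (h1 _ hk')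
        convert this using 1
        nth_rewrite 1 [← e]
        group
      inv_mem' := by
        rintro a ⟨ha, o, ho, h1⟩
        refine ⟨inv_mem ha, o⁻¹, inv_mem ho, fun k hk => ?_⟩
        have hk' : o⁻¹ * k * o⁻¹⁻¹ ∈ K := (Subgroup.mem_normalizer_iff.1 (hON (inv_mem ho)) k).1 hk
        have e := hfix a⁻¹ (inv_mem ha) _ (h1 _ hk')
        convert inv_mem (h1 _ hk') using 1
        nth_rewrite 1 [← e]
        group }
  have hNS : N ≤ S := by
    refine sup_le (fun o ho => ⟨le_sup_left (b := conjS m O) ho, o, ho, fun k _ => by simp⟩) fun x hx => ?_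
    refine ⟨le_sup_right (a := O) hx, _, mem_conjS.1 hx, fun k hk => ?_⟩
    set o := m⁻¹ * x * m with ho
    have hoO : o ∈ O := mem_conjS.1 hx
    have hj : m⁻¹ * k * m ∈ K := mem_conjS.1 (by rw [hKm]; exact hk)
    have h1 := (hact _ hj).2
    have hi : o * (m⁻¹ * k * m) * o⁻¹ ∈ K := (Subgroup.mem_normalizer_iff.1 (hON hoO) _).1 hj
    have h2 := (hact _ hi).2
    have hoN : o ∈ N := le_sup_left (b := conjS m O) hoO
    have e := hfix o hoN _ h1
    convert mul_mem h2 (inv_mem h1) using 1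
    nth_rewrite 1 [← e]
    rw [ho]
    group
  have hres : pResOf p N ≤ Subgroup.centralizer (Y : Set G) := by
    refine pResOf_le_centralizer fun x hx hxc => ?_
    have hD : ∀ d ∈ D0, Commute x d := fun d hd =>
      (Subgroup.mem_centralizer_iff.1 (hNc hx) d hd).symm
    obtain ⟨-, o, ho, hxo⟩ := hNS hx
    obtain ⟨s, hs⟩ := D.hpO ⟨o, ho⟩
    have hs' : o ^ p ^ s = 1 := congrArg Subtype.val hs
    obtain ⟨t, ht⟩ := exists_pow_eq_self_of_coprime
      ((Nat.Coprime.pow_right s hxc).symm : (p ^ s).Coprime (orderOf x))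
    have hpow : ∀ j : ℕ, ∀ k ∈ K, (x ^ j * k * (x ^ j)⁻¹) * (o ^ j * k * (o ^ j)⁻¹)⁻¹ ∈ D0 := by
      intro j
      induction j with
      | zero => intro k _; simp
      | succ j ih =>
        intro k hk
        have hk' : o * k * o⁻¹ ∈ K := (Subgroup.mem_normalizer_iff.1 (hON ho) k).1 hk
        have e := hfix (x ^ j) (pow_mem hx j) _ (hxo k hk)
        convert mul_mem (hxo k hk) (ih _ hk') using 1
        nth_rewrite 1 [← e]
        rw [pow_succ, pow_succ]
        group
    have hK' : ∀ k ∈ K, Commute x k := by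
      intro k hk
      have h1 := hpow (p ^ s * t) k hk
      rw [pow_mul, ht, pow_mul, hs', one_pow] at h1
      simp only [one_mul, inv_one, mul_one] at h1
      refine commute_mem_of_coprime_stab ((pCoreOf_isPGroup H).to_inf_right) hxc h1 ?_
      exact Subgroup.mem_centralizer_singleton_iff.2 (hD _ h1).eq.symm
    intro y hy
    refine Subgroup.mem_centralizer_singleton_iff.2 ?_
    have h1 := hNYK x hx y hy
    exact (commute_mem_of_coprime_stab ((pCoreOf_isPGroup H).to_inf_left) hxc h1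
      (Subgroup.mem_centralizer_singleton_iff.2 (hK' _ h1).eq.symm)).eq.symm
  -- conclusion
  obtain ⟨c, hcN, ec⟩ := D.hwc.exists_conj D.hpO (le_sup_left : O ≤ N) (g := m) le_sup_right
  obtain ⟨T1, hT1, hOT1⟩ := exists_isSylowOf_le (le_sup_left : O ≤ N) D.hpO
  have hT1n : T1 ≤ Subgroup.normalizer (pResOf p N : Set G) := hT1.le.trans (self_le_normalizer_pResOf N)
  rw [← pResOf_sup_sylow hT1, sup_comm, ← SetLike.mem_coe,
    Subgroup.coe_mul_of_left_le_normalizer_right _ _ hT1n] at hcN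
  obtain ⟨t, ht, a, ha, rfl⟩ := Set.mem_mul.1 hcN
  set a' := t * a * t⁻¹ with ha'
  have ha'N : a' ∈ pResOf p N := (Subgroup.mem_normalizer_iff.1 (hT1n ht) a).1 ha
  have htO : conjS t O = O := conjS_eq_self_iff.2 (D.hwc.le_normalizer' hT1.isPGroup hOT1 ht)
  rw [show t * a = a' * t by rw [ha']; group, conjS_mul, htO] at ec
  have hn : a'⁻¹ * m ∈ Subgroup.normalizer (O : Set G) := by
    rw [← conjS_eq_self_iff, conjS_mul, ec, conjS_inv_cancel]
  have h1 := mul_mem (Subgroup.centralizer_le_normalizer _ (hres ha'N)) (D.hNOY hn)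
  rwa [mul_inv_cancel_left] at h1

theorem isPGroup_sup (D : LData p H L Y O) {g : G} (hg : g ∈ L) (hne : Y ⊔ conjS g Y ≠ L) :
    IsPGroup p ↥(Y ⊔ conjS g Y) := by
  set J := Y ⊔ conjS g Y with hJ
  have hJL : J ≤ L := sup_le D.hYL (conjS_le_of_mem D.hYL hg)
  have h1 : Y ≤ Cfsg.pCoreOf p J := by
    by_contra h
    exact hne (D.hmin J hJL le_sup_left h)
  have h2 : conjS g Y ≤ Cfsg.pCoreOf p J := by
    have hle : conjS g⁻¹ J ≤ L := (conjS_mono _ hJL).trans (conjS_mem_eq_self (inv_mem hg)).le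
    have hY : Y ≤ conjS g⁻¹ J := by
      have := conjS_mono g⁻¹ (le_sup_right : conjS g Y ≤ J)
      rwa [conjS_inv_cancel] at this
    have h3 : Y ≤ Cfsg.pCoreOf p (conjS g⁻¹ J) := by
      by_contra h
      refine hne ?_
      have := congrArg (conjS g) (D.hmin _ hle hY h)
      rwa [conjS_cancel_inv, conjS_mem_eq_self hg] at this
    have := conjS_mono g h3
    rwa [conjS_pCoreOf, conjS_cancel_inv] at this
  exact (pCoreOf_isPGroup J).to_le (sup_le h1 h2)

theorem exists_gen (D : LData p H L Y O) : ∃ h ∈ L, Y ⊔ conjS h Y = L := by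
  by_contra hne
  push Not at hne
  obtain ⟨N, hNn, hNp, hYN⟩ := Involutions.baer_suzuki (Y.subgroupOf L) D.hYp.comap_subtype (fun g => by
    have h1 := D.isPGroup_sup g.2 (hne g g.2)
    refine h1.comap_subtype (K := L) |>.to_le ?_
    refine sup_le (Subgroup.comap_mono le_sup_left) ?_
    rintro _ ⟨y, hy, rfl⟩
    exact Subgroup.mem_sup_right (conj_mem_conjS (Subgroup.mem_subgroupOf.1 hy)))
  refine D.hnot ?_
  refine le_trans (Subgroup.map_subgroupOf_eq_of_le D.hYL).ge ?_
  exact Subgroup.map_mono (hYN.trans (le_pCore hNn hNp))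

theorem le_normalizer_of_pgroup (D : LData p H L Y O) {J : Subgroup G} (hJ : IsPGroup p J)
    (hYJ : Y ≤ J) (hJL : J ≤ L) : J ≤ Subgroup.normalizer (Y : Set G) := by
  obtain ⟨h, hh, hg⟩ := D.exists_gen
  by_contra hne
  haveI : Group.IsNilpotent J := hJ.isNilpotent
  set R1 := J ⊓ Subgroup.normalizer (Y : Set G) with hR1
  have hlt : R1.subgroupOf J < ⊤ := lt_top_iff_ne_top.2 fun e =>
    hne ((Subgroup.subgroupOf_eq_top.1 e).trans inf_le_right)
  obtain ⟨x, hx, hxn⟩ := SetLike.exists_of_lt (Group.normalizerCondition_of_isNilpotent _ hlt)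
  have hxR1 : conjS (x : G) R1 = R1 := by
    rw [conjS_eq_self_iff, Subgroup.mem_normalizer_iff]
    intro y
    by_cases hy : y ∈ J
    · exact Subgroup.mem_normalizer_iff.1 hx ⟨y, hy⟩
    · constructor
      · exact fun hy' => absurd (Subgroup.mem_inf.1 hy').1 hy
      · intro hy'
        refine absurd ?_ hy
        have := mul_mem (mul_mem (inv_mem x.2) (Subgroup.mem_inf.1 hy').1) x.2
        simpa [mul_assoc] using this
  have hY1 : Y ≤ R1 := le_inf hYJ Subgroup.le_normalizer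
  refine hxn (Subgroup.mem_subgroupOf.2 (Subgroup.mem_inf.2 ⟨x.2, D.key hh hg (hJL x.2) ?_⟩))
  refine D.asym_commute (((conjS_mono _ hY1).trans hxR1.le).trans inf_le_right) ?_
  have h1 := conjS_mono (x : G)⁻¹ (hY1.trans hxR1.ge)
  rw [conjS_inv_cancel] at h1
  exact h1.trans inf_le_right

theorem dichotomy (D : LData p H L Y O) {m : G} (hm : m ∈ L) :
    m ∈ Subgroup.normalizer (Y : Set G) ∨ Y ⊔ conjS m Y = L := by
  by_cases e : Y ⊔ conjS m Y = L
  · exact Or.inr e
  refine Or.inl ?_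
  obtain ⟨h, hh, hg⟩ := D.exists_gen
  refine D.key hh hg hm (D.asym_commute ?_ ?_)
  · exact (le_sup_right : conjS m Y ≤ _).trans
      (D.le_normalizer_of_pgroup (D.isPGroup_sup hm e) le_sup_left (sup_le D.hYL (conjS_le_of_mem D.hYL hm)))
  · have e' : Y ⊔ conjS m⁻¹ Y ≠ L := fun h' => e (by simpa using D.gen_inv (inv_mem hm) h')
    exact (le_sup_right : conjS m⁻¹ Y ≤ _).trans
      (D.le_normalizer_of_pgroup (D.isPGroup_sup (inv_mem hm) e') le_sup_left
        (sup_le D.hYL (conjS_le_of_mem D.hYL (inv_mem hm))))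

theorem le_normalizer_of_proper (D : LData p H L Y O) {X : Subgroup G} (hYX : Y ≤ X) (hXL : X < L) :
    X ≤ Subgroup.normalizer (Y : Set G) := fun x hx =>
  (D.dichotomy (hXL.le hx)).resolve_right fun e =>
    hXL.not_ge (e.ge.trans (sup_le hYX (conjS_le_of_mem hYX hx)))

/-- `L` has characteristic `p`. -/
theorem charP (D : LData p H L Y O) :
    L ⊓ Subgroup.centralizer (Cfsg.pCoreOf p L : Set G) ≤ Cfsg.pCoreOf p L := by
  obtain ⟨h, hh, hg⟩ := D.exists_gen
  set P0 := Cfsg.pCoreOf p H with hP0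
  set C := L ⊓ Subgroup.centralizer (Cfsg.pCoreOf p L : Set G) with hC
  have hPL : ⁅P0, L⁆ ≤ Cfsg.pCoreOf p L := by
    have hLP : P0 ⊓ L ≤ Cfsg.pCoreOf p L :=
      le_pCoreOf inf_le_right (le_normalizer_inf (D.hLH.trans (le_normalizer_pCoreOf H)) Subgroup.le_normalizer)
        (pCoreOf_isPGroup H).to_inf_left
    have hn : L ≤ Subgroup.normalizer ((P0 ⊓ L : Subgroup G) : Set G) :=
      le_normalizer_inf (D.hLH.trans (le_normalizer_pCoreOf H)) Subgroup.le_normalizer
    refine le_trans ?_ hLP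
    rw [Subgroup.commutator_comm]
    refine (Subgroup.commutator_mono hg.ge le_rfl).trans (commutator_sup_le (D.hYL.trans hn)
      ((conjS_le_of_mem D.hYL hh).trans hn) ?_ ?_) <;> rw [Subgroup.commutator_comm]
    · exact D.commutator_P0.trans (le_inf inf_le_right (inf_le_left.trans D.hYL))
    · exact (D.commutator_P0_conj (D.hLH hh)).trans
        (le_inf (D.conjD0_le (D.hLH hh)) ((conjS_mono h inf_le_left).trans (conjS_le_of_mem D.hYL hh)))
  refine le_pCoreOf inf_le_left
    (le_normalizer_inf Subgroup.le_normalizer (le_normalizer_centralizer (le_normalizer_pCoreOf L)))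
    (isPGroup_of_pResOf_eq_bot ?_)
  rw [eq_bot_iff, pResOf_le_iff]
  intro x hx hc
  obtain ⟨hxL, hxC⟩ := Subgroup.mem_inf.1 hx
  have hxP : x ∈ Subgroup.centralizer (P0 : Set G) := by
    rw [Subgroup.mem_centralizer_iff]
    intro a ha
    have hm : x * a * x⁻¹ * a⁻¹ ∈ Cfsg.pCoreOf p L := by
      refine hPL ?_
      rw [Subgroup.commutator_comm]
      exact Subgroup.commutator_mem_commutator hxL ha
    exact (commute_mem_of_coprime_stab (pCoreOf_isPGroup L) hc hm
      (Subgroup.mem_centralizer_singleton_iff.2 (Subgroup.mem_centralizer_iff.1 hxC _ hm))).eq.symm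
  obtain ⟨k, hk⟩ := pCoreOf_isPGroup (p := p) H ⟨x, D.hch (Subgroup.mem_inf.2 ⟨D.hLH hxL, hxP⟩)⟩
  exact Subgroup.mem_bot.2 (eq_one_of_coprime_of_pow hc (congrArg Subtype.val hk))

/-- `O_p(L) ∩ Y ≤ O_p(H)`. -/
theorem inf_pCoreOf_le (D : LData p H L Y O) : Cfsg.pCoreOf p L ⊓ Y ≤ Cfsg.pCoreOf p H := by
  obtain ⟨h, hh, hg⟩ := D.exists_gen
  set P0 := Cfsg.pCoreOf p H with hP0
  set R0 := Cfsg.pCoreOf p L with hR0
  set K := P0 ⊓ Subgroup.centralizer (Y : Set G) with hK
  set D0 := Y ⊓ P0 with hD0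
  set Z0 := P0 ⊓ Subgroup.centralizer (H : Set G) with hZ0
  set B := conjS h K ⊔ D0 with hB
  obtain ⟨hBn, hKB⟩ := D.cover hh hg
  have hhH : h ∈ H := D.hLH hh
  have hKh : conjS h K ≤ P0 := (conjS_mono h inf_le_left).trans (D.conjS_P0 hhH).le
  have hBP : B ≤ P0 := sup_le hKh inf_le_right
  have hRY : R0 ≤ Subgroup.normalizer (Y : Set G) :=
    (le_sup_left : R0 ≤ R0 ⊔ Y).trans (D.le_normalizer_of_pgroup
      ((pCoreOf_isPGroup L).to_sup_of_normal_left' D.hYp (D.hYL.trans (le_normalizer_pCoreOf L)))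
      le_sup_right (sup_le (pCoreOf_le L) D.hYL))
  have hHZ : H ≤ Subgroup.normalizer (Z0 : Set G) :=
    le_normalizer_inf (le_normalizer_pCoreOf H) (le_normalizer_centralizer Subgroup.le_normalizer)
  have hP0B : ⁅H, P0⁆ ≤ B := by
    have hLB : L ≤ Subgroup.normalizer (B : Set G) := D.hLH.trans hBn
    refine (Subgroup.commutator_mono D.sup.ge le_rfl).trans (commutator_sup_le hLB (D.hOH.trans hBn) ?_ ?_)
    · refine (Subgroup.commutator_mono hg.ge le_rfl).trans (commutator_sup_le (D.hYL.trans hLB)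
        ((conjS_le_of_mem D.hYL hh).trans hLB) ?_ ?_) <;> rw [Subgroup.commutator_comm]
      · exact D.commutator_P0.trans le_sup_right
      · exact ((D.commutator_P0_conj hhH).trans
          (conjS_mono h (le_inf inf_le_right (inf_le_left.trans D.hYY)))).trans le_sup_left
    · rw [Subgroup.commutator_comm]
      exact D.commutator_P0_O.trans hKB
  have hBDY : ⁅B, R0 ⊓ Y⁆ ≤ Z0 := by
    refine commutator_sup_le ((hKh.trans (pCoreOf_le H)).trans hHZ) ((inf_le_left.trans D.hYH).trans hHZ) ?_ ?_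
    · have hRh : R0 ≤ Subgroup.normalizer (conjS h K : Set G) := by
        have h1 : R0 ≤ Subgroup.normalizer (K : Set G) :=
          le_normalizer_inf (((pCoreOf_le L).trans D.hLH).trans (le_normalizer_pCoreOf H))
            (le_normalizer_centralizer hRY)
        have := conjS_mono h h1
        rwa [conjS_eq_self_iff.2 (le_normalizer_pCoreOf L hh), conjS_normalizer] at this
      have h1 : ⁅conjS h K, R0 ⊓ Y⁆ ≤ conjS h K := commutator_le_of_le_normalizer (inf_le_left.trans hRh)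
      have h2 : ⁅conjS h K, R0 ⊓ Y⁆ ≤ Y :=
        (Subgroup.commutator_mono hKh inf_le_right).trans (D.commutator_P0.trans inf_le_left)
      refine (le_inf h1 h2).trans fun x hx => ?_
      obtain ⟨hx1, hx2⟩ := Subgroup.mem_inf.1 hx
      refine Subgroup.mem_inf.2 ⟨hKh hx1, ?_⟩
      have hA : H ≤ Subgroup.centralizer ({x} : Set G) := by
        refine D.sup.ge.trans (sup_le (hg.ge.trans (sup_le ?_ ?_)) ?_) <;> intro z hz <;>
          rw [Subgroup.mem_centralizer_singleton_iff]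
        · exact Subgroup.mem_centralizer_iff.1 (D.hYY hx2) z hz
        · have h3 : x ∈ Subgroup.centralizer (conjS h Y : Set G) := by
            rw [← conjS_centralizer]; exact conjS_mono h inf_le_right hx1
          exact Subgroup.mem_centralizer_iff.1 h3 z hz
        · exact (Subgroup.mem_centralizer_iff.1 (D.hOY hz) x hx2).symm
      exact Subgroup.mem_centralizer_iff.2 fun z hz => Subgroup.mem_centralizer_singleton_iff.1 (hA hz)
    · rw [(le_centralizer_iff_commutator.1 ((inf_le_left.trans D.hYY).trans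
        (Subgroup.centralizer_le inf_le_right)) : ⁅D0, R0 ⊓ Y⁆ = ⊥)]
      exact bot_le
  set St := trivialMod H B Z0 hHZ with hSt
  have hle : R0 ⊓ Y ≤ St := le_trivialMod hHZ (inf_le_right.trans D.hYH)
    ((Subgroup.commutator_comm _ _).le.trans hBDY)
  refine hle.trans (le_pCoreOf (trivialMod_le hHZ) (le_normalizer_trivialMod hHZ hBn) ?_)
  refine isPGroup_of_pResOf_eq_bot ?_
  rw [eq_bot_iff, pResOf_le_iff]
  intro x hx hc
  have hxH : x ∈ H := trivialMod_le hHZ hx
  have hxB : ∀ b ∈ B, Commute x b := fun b hb => by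
    have hm : x * b * x⁻¹ * b⁻¹ ∈ Z0 :=
      commutator_trivialMod_le hHZ (Subgroup.commutator_mem_commutator hx hb)
    exact commute_mem_of_coprime_stab (pCoreOf_isPGroup H).to_inf_left hc hm
      (Subgroup.mem_centralizer_singleton_iff.2
        (Subgroup.mem_centralizer_iff.1 (Subgroup.mem_inf.1 hm).2 x hxH).symm)
  have hxP : x ∈ Subgroup.centralizer (P0 : Set G) := Subgroup.mem_centralizer_iff.2 fun a ha => by
    have hm : x * a * x⁻¹ * a⁻¹ ∈ B := hP0B (Subgroup.commutator_mem_commutator hxH ha)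
    exact (commute_mem_of_coprime_stab ((pCoreOf_isPGroup H).to_le hBP) hc hm
      (Subgroup.mem_centralizer_singleton_iff.2 (hxB _ hm).eq.symm)).eq.symm
  obtain ⟨k, hk⟩ := pCoreOf_isPGroup (p := p) H ⟨x, D.hch (Subgroup.mem_inf.2 ⟨hxH, hxP⟩)⟩
  exact Subgroup.mem_bot.2 (eq_one_of_coprime_of_pow hc (congrArg Subtype.val hk))

end LData

end Cfsg.Agent.Lib.LocalEven
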