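import Cfsg.Agent.Lib.LocalEven.CharP
import Cfsg.Agent.Lib.LocalEven.FStarAction
import Cfsg.Agent.Lib.Coprime.Generation

/-!
Local characteristic `p`: every subnormal subgroup of order divisible by `p` meets the centre of a
Sylow `p`-subgroup.
-/

set_option autoImplicit false

open scoped commutatorElement

namespace Cfsg.Agent.Lib.LocalEven

universe u

variable {G : Type u} [Group G] [Finite G] {p : ℕ} [hp : Fact p.Prime]

theorem isSubnormal_inf_right {A B : Subgroup G} (hA : A.IsSubnormal) (hBA : B ≤ A)
    (hn : A ≤ Subgroup.normalizer (B : Set G)) : B.IsSubnormal :=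
  Subgroup.IsSubnormal.step B A hBA hA (subgroupOf_normal_of_le hn)

/-- The centralizer of an element of order `p`. -/
theorem hasCharP_centralizer_of_local (hH : Cfsg.IsOfLocalCharacteristic p G) {z : G} (hz : orderOf z = p) :
    HasCharP p (Subgroup.centralizer ({z} : Set G)) := by
  set R := Subgroup.zpowers z with hR
  have h1 := (hasCharP_iff_core _).2 (hH.2 R (IsPGroup.of_card (n := 1) (by rw [hR, Nat.card_zpowers, hz, pow_one]))
    (fun h => by rw [hR, Subgroup.zpowers_eq_bot] at h; rw [h, orderOf_one] at hz; exact hp.out.ne_one hz.symm))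
  rw [show Subgroup.centralizer ({z} : Set G) = Subgroup.centralizer (R : Set G) by
    rw [hR, Subgroup.zpowers_eq_closure, Subgroup.centralizer_closure]]
  exact hch_of_normal h1 (Subgroup.centralizer_le_normalizer _) (le_normalizer_centralizer le_rfl)

/-- When `O_p(G) = 1` no nontrivial subnormal subgroup centralizes an element of order `p`. -/
theorem eq_bot_of_subnormal_centralizes (hH : Cfsg.IsOfLocalCharacteristic p G) (hO : Cfsg.pCore p G = ⊥)
    {z : G} (hz : orderOf z = p) {Y : Subgroup G} (hY : Y.IsSubnormal)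
    (hc : Y ≤ Subgroup.centralizer ({z} : Set G)) : Y = ⊥ := by
  set N := Subgroup.centralizer ({z} : Set G) with hN
  have hch := (hasCharP_iff_core N).1 (hasCharP_centralizer_of_local hH hz)
  have hch' : (⊤ : Subgroup ↥N) ⊓ Subgroup.centralizer (Cfsg.pCoreOf p (⊤ : Subgroup ↥N) : Set ↥N) ≤
      Cfsg.pCoreOf p (⊤ : Subgroup ↥N) := by
    rw [pCoreOf_top, top_inf_eq]; exact hch
  have h := hch_of_subnormal hch' (hY.subgroupOf (K := N))
  have h1 : Cfsg.pCoreOf p (Y.subgroupOf N) = ⊥ := by
    rw [← Subgroup.map_eq_bot_iff_of_injective _ N.subtype_injective, ← le_bot_iff, ← hO]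
    have hle : (Cfsg.pCoreOf p (Y.subgroupOf N)).map N.subtype ≤ Y := by
      conv_rhs => rw [← Subgroup.map_subgroupOf_eq_of_le hc]
      exact Subgroup.map_mono (pCoreOf_le _)
    refine le_pCore_of_subnormal (isSubnormal_inf_right hY hle ?_) ((pCoreOf_isPGroup _).map _)
    conv_lhs => rw [← Subgroup.map_subgroupOf_eq_of_le hc]
    exact (Subgroup.map_mono (le_normalizer_pCoreOf _)).trans (Subgroup.le_normalizer_map N.subtype)
  rw [h1] at h
  rw [← Subgroup.map_subgroupOf_eq_of_le hc, ← le_bot_iff]
  refine (Subgroup.map_mono (f := N.subtype) (fun x hx => h ⟨hx, ?_⟩)).trans_eq (Subgroup.map_bot _)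
  refine Subgroup.mem_centralizer_iff.2 fun y hy => ?_
  rw [Subgroup.mem_bot.1 hy]; simp

/-- A subnormal subgroup of order divisible by `p` meets `Ω₁(Z(T))`. -/
theorem exists_central_mem_subnormal (hH : Cfsg.IsOfLocalCharacteristic p G) (hO : Cfsg.pCore p G = ⊥)
    (T : Sylow p G) {X : Subgroup G} (hX : X.IsSubnormal) (hTX : (T : Subgroup G) ⊓ X ≠ ⊥) :
    ∃ z ∈ X, orderOf z = p ∧ z ∈ (T : Subgroup G) ∧ z ∈ Subgroup.centralizer ((T : Subgroup G) : Set G) := by
  classical
  set F := Cfsg.generalizedFittingSubgroup G with hF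
  haveI hFn : F.Normal := genFitting_normal (X := G)
  obtain ⟨P, hPTX, hP1, hPp, -⟩ := exists_omZ_inf (T := (T : Subgroup G) ⊓ X) (R := (T : Subgroup G) ⊓ X)
    (T.isPGroup'.to_le inf_le_left) (T.isPGroup'.to_le inf_le_left) Subgroup.le_normalizer hTX
  have hPo : orderOf P = p := orderOf_eq_prime hPp hP1
  have hPpg : IsPGroup p ↥(Subgroup.zpowers P) := IsPGroup.of_card (n := 1) (by rw [Nat.card_zpowers, hPo, pow_one])
  have hbot := fun {Y : Subgroup G} {z : G} => eq_bot_of_subnormal_centralizes (Y := Y) (z := z) hH hO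
  have hcc : ∀ {Y : Subgroup G} {z : G}, ⁅Y, Subgroup.zpowers z⁆ = ⊥ → Y ≤ Subgroup.centralizer ({z} : Set G) :=
    fun {Y z} h y hy => Subgroup.mem_centralizer_singleton_iff.2
      (Subgroup.mem_centralizer_iff.1 (le_centralizer_iff_commutator.2 h hy) z (Subgroup.mem_zpowers z)).symm
  by_cases hpF : (Nat.card F).Coprime p
  · -- `F` is a `p'`-group: the Sylow subgroup has a unique subgroup of order `p`
    have hFne : F ≠ ⊥ := fun h => by
      have h1 := eq_bot_of_centralizes_genFitting hO hPpg (by
        rw [← hF, h, Subgroup.coe_bot]; intro x _; rw [Subgroup.mem_centralizer_iff]; rintro y rfl; simp)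
      exact hP1 (Subgroup.zpowers_eq_bot.1 h1)
    have hfix : ∀ a : G, orderOf a = p → F ⊓ Subgroup.centralizer ({a} : Set G) = ⊥ := by
      intro a ha
      set N := Subgroup.centralizer ({a} : Set G) with hNa
      have h2 := (hasCharP_iff N).1 (hasCharP_centralizer_of_local hH ha)
      have h3 := Components.pPrimeCore_eq_bot_of_genFitting h2
      have h4 : (F ⊓ N).subgroupOf N ≤ Cfsg.pPrimeCore p ↥N := by
        refine Components.le_pPrimeCore (subgroupOf_normal_of_le (le_normalizer_inf (le_normalizer_of_normal _ _)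
          Subgroup.le_normalizer)) (hpF.coprime_dvd_left ?_)
        rw [Nat.card_congr (Subgroup.subgroupOfEquivOfLe (inf_le_right : F ⊓ N ≤ N)).toEquiv]
        exact Subgroup.card_dvd_of_le inf_le_left
      rw [h3, le_bot_iff] at h4
      rw [← Subgroup.map_subgroupOf_eq_of_le (inf_le_right : F ⊓ N ≤ N), h4, Subgroup.map_bot]
    obtain ⟨z, hzT, hz1, hzp, hzc⟩ := exists_omZ_inf (R := (T : Subgroup G)) T.isPGroup' T.isPGroup'
      Subgroup.le_normalizer (fun h => hTX (by rw [h, bot_inf_eq]))
    have hzo : orderOf z = p := orderOf_eq_prime hzp hz1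
    refine ⟨z, ?_, hzo, hzT, hzc⟩
    by_contra hzX
    have hzP : Commute P z := Subgroup.mem_centralizer_iff.1 hzc P (Subgroup.mem_inf.1 hPTX).1
    set E := Subgroup.closure ({z, P} : Set G) with hE
    haveI : IsMulCommutative ↥E := Subgroup.isMulCommutative_closure (by
      rintro a (rfl | rfl) b (rfl | rfl) <;> first | exact Commute.refl _ | exact hzP.eq.symm | exact hzP.eq)
    have hzE : z ∈ E := Subgroup.subset_closure (Or.inl rfl)
    have hPE : P ∈ E := Subgroup.subset_closure (Or.inr rfl)
    have hEexp : ∀ a ∈ E, a ^ p = 1 := by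
      intro a ha
      induction ha using Subgroup.closure_induction with
      | mem a ha => rcases ha with rfl | rfl <;> assumption
      | one => exact one_pow p
      | mul a b ha hb iha ihb =>
        have hab : Commute a b := congrArg Subtype.val
          (IsMulCommutative.is_comm.comm (⟨a, ha⟩ : ↥E) ⟨b, hb⟩)
        rw [hab.mul_pow, iha, ihb, one_mul]
      | inv a _ iha => rw [inv_pow, iha, inv_one]
    have hEc : ¬ IsCyclic ↥E := by
      intro hc
      obtain ⟨g, hg⟩ := hc.exists_generator
      have hle : E ≤ Subgroup.zpowers (g : G) := fun a ha => by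
        obtain ⟨i, hi⟩ := hg ⟨a, ha⟩
        exact ⟨i, congrArg Subtype.val hi⟩
      have hcard : Nat.card ↥(Subgroup.zpowers (g : G)) ≤ p := by
        rw [Nat.card_zpowers]
        exact Nat.le_of_dvd hp.out.pos (orderOf_dvd_of_pow_eq_one (hEexp _ g.2))
      have h1 : Subgroup.zpowers P = Subgroup.zpowers (g : G) :=
        Subgroup.eq_of_le_of_card_ge (Subgroup.zpowers_le.2 (hle hPE)) (hcard.trans (by rw [Nat.card_zpowers, hPo]))
      have h2 : z ∈ Subgroup.zpowers P := h1 ▸ hle hzE
      exact hzX ((Subgroup.zpowers_le.2 (Subgroup.mem_inf.1 hPTX).2) h2)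
    have hcop : (Nat.card E).Coprime (Nat.card F) := by
      have hEp : IsPGroup p ↥E := fun a => ⟨1, Subtype.ext (by rw [pow_one]; exact hEexp a a.2)⟩
      obtain ⟨k, hk⟩ := IsPGroup.iff_card.1 hEp
      rw [hk]; exact (hpF.pow_right k).symm
    refine hFne ?_
    rw [← Coprime.iSup_centralizer_eq hEc (le_normalizer_of_normal E F) hcop]
    refine iSup₂_eq_bot.2 fun a ha => hfix a (orderOf_eq_prime (hEexp a ha.1) ha.2)
  · -- some component has order divisible by `p`; it is `F`
    have hpdF : p ∣ Nat.card F := by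
      by_contra hd; exact hpF ((hp.out.coprime_iff_not_dvd.2 hd).symm)
    obtain ⟨x, hx⟩ := exists_prime_orderOf_dvd_card' p hpdF
    have hxo : orderOf (x : G) = p := by rw [Subgroup.orderOf_coe, hx]
    haveI hfitn : (fittingSubgroup G).Characteristic := fittingSubgroup_characteristic
    have hFit0 : fittingSubgroup G = ⊥ := by
      -- `x` lies in the layer up to the fitting part, which it centralizes
      have hx' : (x : G) ∈ ((Cfsg.layer G ⊔ fittingSubgroup G : Subgroup G) : Set G) := x.2
      rw [Subgroup.mul_normal] at hx'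
      obtain ⟨e, he, f, hf, hef⟩ := hx'
      have hef' : (x : G) = e * f := hef.symm
      have hcomm : Commute e f := Components.commute_of_commutator_eq_bot Components.commutator_layer_fittingSubgroup he hf
      have hep : (e ^ p) * (f ^ p) = 1 := by rw [← hcomm.mul_pow, ← hef', ← hxo, pow_orderOf_eq_one]
      have hfo : Nat.Coprime (orderOf f) p := by
        refine (coprime_card_fitting hO).coprime_dvd_left ?_
        rw [← Subgroup.orderOf_mk f hf]; exact orderOf_dvd_natCard _
      have hfpe : f ^ p ∈ Cfsg.layer G := by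
        rw [eq_inv_of_mul_eq_one_right hep]; exact inv_mem (pow_mem he p)
      have hfe : f ∈ Cfsg.layer G := by
        obtain ⟨m, hm⟩ := exists_pow_eq_self_of_coprime (x := f) (n := p) hfo.symm
        rw [← hm]; exact pow_mem hfpe m
      have hxlay : (x : G) ∈ Cfsg.layer G := hef' ▸ mul_mem he hfe
      exact hbot hxo (Subgroup.Normal.isSubnormal inferInstance) (fun y hy => Subgroup.mem_centralizer_singleton_iff.2
        (Components.commute_of_commutator_eq_bot Components.commutator_layer_fittingSubgroup hxlay hy).symm)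
    have hFlay : F = Cfsg.layer G := by rw [hF, Cfsg.generalizedFittingSubgroup, hFit0, sup_bot_eq]
    obtain ⟨K, hK, hKp⟩ : ∃ K, Cfsg.IsComponent K ∧ p ∣ Nat.card K := by
      by_contra hcon
      push Not at hcon
      have hcop' : (Nat.card F).Coprime p := by
        have hle : Cfsg.layer G ≤ Cfsg.pPrimeCore p G := Components.layer_le_iff.2 fun K hK =>
          Components.le_pPrimeCore_of_subnormal hK.1 ((hp.out.coprime_iff_not_dvd.2 (hcon K hK)).symm)
        exact (Components.pPrimeCore_coprime p).coprime_dvd_left (Subgroup.card_dvd_of_le (hFlay ▸ hle))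
      exact hpF hcop'
    obtain ⟨y, hy⟩ := exists_prime_orderOf_dvd_card' p hKp
    have hyo : orderOf (y : G) = p := by rw [Subgroup.orderOf_coe, hy]
    have huniq : ∀ L, Cfsg.IsComponent L → L = K := by
      intro L hL
      by_contra hne
      refine Components.IsComponent.ne_bot hL (hbot hyo hL.1 fun l hl => Subgroup.mem_centralizer_singleton_iff.2 ?_)
      exact (Components.commute_of_commutator_eq_bot (Components.IsComponent.commutator_eq_bot_of_ne hL hK hne) hl y.2)
    have hFK : F = K := hFlay.trans (le_antisymm (Components.layer_le_iff.2 fun L hL => (huniq L hL).le)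
      (Components.IsComponent.le_layer hK))
    have hFX : F ≤ X := by
      have h1 := commutator_genFitting_le_of_subnormal hO hX hPpg (Subgroup.zpowers_le.2 (Subgroup.mem_inf.1 hPTX).2)
      rw [← hF] at h1
      refine le_trans ?_ h1
      haveI : ((⁅F, Subgroup.zpowers P⁆).subgroupOf F).Normal := subgroupOf_normal_of_le (le_normalizer_commutator_left _ _)
      have hq : Cfsg.IsQuasisimple ↥F := hFK ▸ hK.2
      rcases Components.IsQuasisimple.normal_eq_top_or_le_center hq ((⁅F, Subgroup.zpowers P⁆).subgroupOf F) with h | h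
      · exact Subgroup.subgroupOf_eq_top.1 h
      · exfalso
        have h2 := (commutator_facts hO hFn.isSubnormal le_rfl hPpg (le_normalizer_of_normal _ _)).2
        have h5 : ⁅F, Subgroup.zpowers P⁆ ≤ Subgroup.centralizer (F : Set G) := fun a ha => by
          have haF : a ∈ F := LocalEven.commutator_le_of_le_normalizer (le_normalizer_of_normal _ _) ha
          exact Subgroup.mem_centralizer_iff.2 fun b hb =>
            congrArg Subtype.val (Subgroup.mem_center_iff.1 (h (x := ⟨a, haF⟩) ha) ⟨b, hb⟩)
        have h3 : ⁅F, F⁆ = F := by rw [hFK]; exact Components.IsComponent.commutator_self hK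
        have h4 : ⁅⁅F, F⁆, Subgroup.zpowers P⁆ = ⊥ := by
          apply Subgroup.commutator_commutator_eq_bot_of_rotate <;>
            rw [← le_bot_iff]
          · exact (Subgroup.commutator_mono h5 le_rfl).trans (by
              rw [le_centralizer_iff_commutator.1 (le_rfl : Subgroup.centralizer (F : Set G) ≤ _)])
          · rw [Subgroup.commutator_comm (Subgroup.zpowers P)]
            exact (Subgroup.commutator_mono h5 le_rfl).trans (by
              rw [le_centralizer_iff_commutator.1 (le_rfl : Subgroup.centralizer (F : Set G) ≤ _)])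
        rw [h3] at h4
        exact hP1 (Subgroup.zpowers_eq_bot.1 (eq_bot_of_centralizes_genFitting hO hPpg
          (Subgroup.le_centralizer_iff.1 (le_centralizer_iff_commutator.2 h4))))
    have hTF := (isSylowOf_top T).inf_normal le_top (le_normalizer_of_normal ⊤ F)
    obtain ⟨z, hz, hz1, hzp, hzc⟩ := exists_omZ_inf (T := (T : Subgroup G)) (R := (T : Subgroup G) ⊓ F) T.isPGroup'
      (T.isPGroup'.to_le inf_le_left) (le_normalizer_inf Subgroup.le_normalizer (le_normalizer_of_normal _ _)) (by
        intro h
        obtain ⟨S, hS⟩ := hTF.exists_sylow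
        have h1 : (S : Subgroup ↥F) = ⊥ := by
          rw [h] at hS
          exact (Subgroup.map_eq_bot_iff_of_injective _ F.subtype_injective).1 hS
        have h2 := S.dvd_card_of_dvd_card hpdF
        rw [h1, Subgroup.card_bot] at h2
        exact hp.out.not_dvd_one h2)
    exact ⟨z, hFX (Subgroup.mem_inf.1 hz).2, orderOf_eq_prime hzp hz1, (Subgroup.mem_inf.1 hz).1, hzc⟩

end Cfsg.Agent.Lib.LocalEven
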