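import Cfsg.Prelude.Def_LocalEven
import Cfsg.Agent.Lib.LocalEven.Basic
import Cfsg.Agent.Lib.Classical.SLTwo

/-!
Coordinates for a natural `SL₂(F)`-module.
-/

set_option autoImplicit false

open Matrix
open scoped Pointwise

namespace Cfsg.Agent.Lib.LocalEven.NatMod

variable {G : Type*} [Group G] {F : Type*} [Field F]

/-- Upper unitriangular. -/
def IsUni (A : SpecialLinearGroup (Fin 2) F) : Prop := A.1 1 0 = 0 ∧ A.1 0 0 = 1 ∧ A.1 1 1 = 1

/-- The upper unitriangular matrix with parameter `a`. -/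
def uni (a : F) : SpecialLinearGroup (Fin 2) F := ⟨!![1, a; 0, 1], by simp [det_fin_two]⟩

/-- The diagonal matrix `diag(t, t⁻¹)`. -/
def diag (t : F) (ht : t ≠ 0) : SpecialLinearGroup (Fin 2) F :=
  ⟨!![t, 0; 0, t⁻¹], by simp [det_fin_two, ht]⟩

theorem isUni_uni (a : F) : IsUni (uni a) := by simp [IsUni, uni]

theorem eq_uni {A : SpecialLinearGroup (Fin 2) F} (h : IsUni A) : A = uni (A.1 0 1) := by
  obtain ⟨h1, h2, h3⟩ := h
  refine Subtype.ext (Matrix.ext fun i j => ?_)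
  fin_cases i <;> fin_cases j <;> simp [uni, h1, h2, h3]

theorem isUni_conj_iff {A : SpecialLinearGroup (Fin 2) F} (hA : A.1 1 0 = 0)
    (B : SpecialLinearGroup (Fin 2) F) : IsUni B → IsUni (A * B * A⁻¹) := by
  intro hB
  obtain ⟨h1, h2, h3⟩ := hB
  have hd := A.2
  rw [det_fin_two, hA, mul_zero, sub_zero] at hd
  refine ⟨?_, ?_, ?_⟩ <;>
    simp [SpecialLinearGroup.coe_inv, adjugate_fin_two, Matrix.mul_apply, Fin.sum_univ_two, hA, h1, h2, h3]
  · linear_combination hd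
  · linear_combination hd

theorem diag_lower_zero (t : F) (ht : t ≠ 0) : (diag t ht).1 1 0 = 0 := by simp [diag]

/-- Coordinates adapted to a Sylow `p`-subgroup. -/
structure Coords (V L T : Subgroup G) (F : Type*) [Field F] where
  hn : L ≤ Subgroup.normalizer (V : Set G)
  ρ : ↥L ≃* SpecialLinearGroup (Fin 2) F
  ψ : Additive ↥V ≃+ (Fin 2 → F)
  hact : ∀ (l : L) (v w : V), (w : G) = (l : G) * (v : G) * (l : G)⁻¹ →
    ψ (Additive.ofMul w) = (ρ l).1 *ᵥ ψ (Additive.ofMul v)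
  hTL : T ≤ L
  hT : ∀ l : L, (l : G) ∈ T ↔ IsUni (ρ l)

theorem exists_coords [Finite G] {p : ℕ} [Fact p.Prime] [Fintype F] (n : ℕ) (hF : Fintype.card F = p ^ n)
    {V L : Subgroup G} (hnat : Cfsg.IsNaturalSL2Module F V L) (hf : L ⊓ Subgroup.centralizer (V : Set G) = ⊥)
    (S : Sylow p ↥L) : Nonempty (Coords V L ((S : Subgroup ↥L).map L.subtype) F) ∧ CharP F p := by
  classical
  obtain ⟨hn, ρ, ψ, hsurj, hker, hact⟩ := hnat
  haveI hchar : CharP F p := by
    have hn0 : n ≠ 0 := fun h => by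
      have := Fintype.one_lt_card (α := F)
      rw [hF, h, pow_zero] at this
      omega
    obtain ⟨m, hq, hm⟩ := FiniteField.card F (ringChar F)
    have : ringChar F = p := by
      have h1 : ringChar F ∣ p ^ n := by rw [← hF, hm]; exact dvd_pow_self _ (PNat.ne_zero _)
      exact (Nat.prime_dvd_prime_iff_eq hq Fact.out).1 (hq.dvd_of_dvd_pow h1)
    rw [← this]; infer_instance
  have hinj : Function.Injective ρ := by
    rw [← MonoidHom.ker_eq_bot_iff, hker]
    exact (Subgroup.eq_bot_iff_forall _).2 fun x hx => Subtype.ext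
      ((Subgroup.eq_bot_iff_forall _).1 hf _ (Subgroup.mem_inf.2 ⟨x.2, hx⟩))
  set ρ₁ := MulEquiv.ofBijective ρ ⟨hinj, hsurj⟩
  let P : Sylow p (SpecialLinearGroup (Fin 2) F) := S.mapSurjective (f := ρ) hsurj
  obtain ⟨a, -, hq⟩ := Classical.exists_card_eq_pow (F := F) p
  let P₀ : Sylow p (SpecialLinearGroup (Fin 2) F) :=
    Sylow.ofCard (SpecialLinearGroup.lineStab (Classical.pInfty F).submodule) (by
      rw [← P.card_eq_multiplicity, Classical.card_lineStab_pInfty,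
        Classical.sylow_card_of_card_eq (p := p) (k := a) (m := Fintype.card F ^ 2 - 1)
          (by rw [← hq, Classical.card_SL2]) (Classical.not_dvd_card_pow_sub_one p two_ne_zero) P, hq])
  obtain ⟨g, hg⟩ := MulAction.exists_smul_eq (SpecialLinearGroup (Fin 2) F) P P₀
  have hmem : ∀ A : SpecialLinearGroup (Fin 2) F, A ∈ (P₀ : Subgroup _) ↔ IsUni A := by
    intro A
    show A ∈ SpecialLinearGroup.lineStab (Classical.pInfty F).submodule ↔ _
    constructor
    · intro h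
      rw [Classical.mem_lineStab_pInfty h]
      simp [IsUni, SpecialLinearGroup.transvection_coe]
    · intro h
      have : A = SpecialLinearGroup.transvection zero_ne_one (A.1 0 1) := by
        obtain ⟨h1, h2, h3⟩ := h
        refine Subtype.ext (Matrix.ext fun i j => ?_)
        fin_cases i <;> fin_cases j <;> simp [SpecialLinearGroup.transvection_coe, h1, h2, h3]
      rw [this, Classical.lineStab_pInfty_eq]
      exact SL2Gen.transvection_mem_lineStab zero_ne_one _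
  refine ⟨⟨⟨hn, ρ₁.trans (MulAut.conj g),
    ψ.trans (SpecialLinearGroup.toLin' g).toAddEquiv, ?_, Subgroup.map_subtype_le _, ?_⟩⟩, hchar⟩
  · intro l v w hw
    obtain ⟨w', hw', he⟩ := hact l v
    have : w = w' := Subtype.ext (hw.trans hw'.symm)
    subst this
    show g.1 *ᵥ ψ (Additive.ofMul w) = (g * ρ l * g⁻¹).1 *ᵥ (g.1 *ᵥ ψ (Additive.ofMul v))
    rw [he, Matrix.mulVec_mulVec, Matrix.mulVec_mulVec]
    have e : g * ρ l = g * ρ l * g⁻¹ * g := by group
    exact congrArg (fun M : SpecialLinearGroup (Fin 2) F => M.1 *ᵥ ψ (Additive.ofMul v)) e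
  · intro l
    rw [← hmem, ← hg]
    show (l : G) ∈ (S : Subgroup ↥L).map L.subtype ↔ MulAut.conj g (ρ l) ∈ MulAut.conj g • (P : Subgroup _)
    rw [← MulAut.smul_def, Subgroup.smul_mem_pointwise_smul_iff, Sylow.coe_mapSurjective,
      Subgroup.mem_map_iff_mem hinj]
    exact Subgroup.mem_map_iff_mem L.subtype_injective

namespace Coords

variable {V L T : Subgroup G} (c : Coords V L T F)

/-- The coordinates of an element of `V`. -/
def co (x : G) (hx : x ∈ V) : Fin 2 → F := c.ψ (Additive.ofMul ⟨x, hx⟩)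

theorem co_mul {x y : G} (hx : x ∈ V) (hy : y ∈ V) : c.co (x * y) (mul_mem hx hy) = c.co x hx + c.co y hy :=
  map_add c.ψ (Additive.ofMul ⟨x, hx⟩) (Additive.ofMul ⟨y, hy⟩)

theorem co_inj {x y : G} (hx : x ∈ V) (hy : y ∈ V) (h : c.co x hx = c.co y hy) : x = y :=
  congrArg Subtype.val (c.ψ.injective h)

theorem co_inv {x : G} (hx : x ∈ V) : c.co x⁻¹ (inv_mem hx) = -c.co x hx :=
  map_neg c.ψ (Additive.ofMul ⟨x, hx⟩)

theorem co_eq_of_eq {x y : G} (h : x = y) (hx : x ∈ V) (hy : y ∈ V) : c.co x hx = c.co y hy := by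
  subst h; rfl

theorem co_surj (u : Fin 2 → F) : ∃ x, ∃ hx : x ∈ V, c.co x hx = u :=
  ⟨_, (Additive.toMul (c.ψ.symm u)).2, c.ψ.apply_symm_apply u⟩

theorem co_one : c.co 1 (one_mem V) = 0 := map_zero c.ψ

include c in
theorem conj_mem {l x : G} (hl : l ∈ L) (hx : x ∈ V) : l * x * l⁻¹ ∈ V :=
  (Subgroup.mem_normalizer_iff.1 (c.hn hl) x).1 hx

theorem co_conj (l : L) {x : G} (hx : x ∈ V) :
    c.co ((l : G) * x * (l : G)⁻¹) (c.conj_mem l.2 hx) = (c.ρ l).1 *ᵥ c.co x hx :=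
  c.hact l ⟨x, hx⟩ ⟨_, c.conj_mem l.2 hx⟩ rfl

theorem comm_iff (l : L) {x : G} (hx : x ∈ V) :
    x * (l : G) = (l : G) * x ↔ (c.ρ l).1 *ᵥ c.co x hx = c.co x hx := by
  rw [← c.co_conj l hx]
  constructor
  · intro h
    exact c.co_eq_of_eq (by rw [← h, mul_inv_cancel_right]) _ _
  · intro h
    exact (mul_inv_eq_iff_eq_mul.1 (c.co_inj _ _ h)).symm

/-- The element of `L` with a given matrix. -/
def lift (A : SpecialLinearGroup (Fin 2) F) : G := ((c.ρ.symm A : L) : G)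

theorem lift_mem (A : SpecialLinearGroup (Fin 2) F) : c.lift A ∈ L := (c.ρ.symm A).2

theorem lift_uni_mem (a : F) : c.lift (uni a) ∈ T :=
  (c.hT _).2 (by rw [MulEquiv.apply_symm_apply]; exact isUni_uni a)

theorem co_conj_lift (A : SpecialLinearGroup (Fin 2) F) {x : G} (hx : x ∈ V) :
    c.co (c.lift A * x * (c.lift A)⁻¹) (c.conj_mem (c.lift_mem A) hx) = A.1 *ᵥ c.co x hx := by
  have := c.co_conj (c.ρ.symm A) hx
  rwa [MulEquiv.apply_symm_apply] at this

theorem mem_centralizer_T {x : G} (hx : x ∈ V) :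
    x ∈ Subgroup.centralizer (T : Set G) ↔ c.co x hx 1 = 0 := by
  rw [Subgroup.mem_centralizer_iff]
  constructor
  · intro h
    have h1 := (c.comm_iff (c.ρ.symm (uni 1)) hx).1 (h _ (c.lift_uni_mem 1)).symm
    rw [MulEquiv.apply_symm_apply] at h1
    simpa [uni, Matrix.mulVec, dotProduct, Fin.sum_univ_two] using congrFun h1 0
  · intro h t ht
    have hu := (c.hT ⟨t, c.hTL ht⟩).1 ht
    refine ((c.comm_iff ⟨t, c.hTL ht⟩ hx).2 ?_).symm
    rw [eq_uni hu]
    funext i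
    fin_cases i <;> simp [uni, Matrix.mulVec, dotProduct, Fin.sum_univ_two, h]

theorem mem_centralizer_single {s : G} (hs : s ∈ T) (hs1 : s ≠ 1) {x : G} (hx : x ∈ V) :
    x ∈ Subgroup.centralizer ({s} : Set G) ↔ c.co x hx 1 = 0 := by
  have hu := (c.hT ⟨s, c.hTL hs⟩).1 hs
  refine ⟨fun h => ?_, fun h => ?_⟩
  · have h1 := (c.comm_iff ⟨s, c.hTL hs⟩ hx).1 (Subgroup.mem_centralizer_singleton_iff.1 h)
    rw [eq_uni hu] at h1
    have h2 : (c.ρ ⟨s, c.hTL hs⟩).1 0 1 * c.co x hx 1 = 0 := by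
      simpa [uni, Matrix.mulVec, dotProduct, Fin.sum_univ_two] using congrFun h1 0
    refine (mul_eq_zero.1 h2).resolve_left fun h0 => hs1 ?_
    have : c.ρ ⟨s, c.hTL hs⟩ = 1 := by
      rw [eq_uni hu, h0]
      refine Subtype.ext (Matrix.ext fun i j => ?_)
      fin_cases i <;> fin_cases j <;> simp [uni]
    exact congrArg Subtype.val ((map_eq_one_iff _ c.ρ.injective).1 this)
  · rw [Subgroup.mem_centralizer_singleton_iff]
    exact (Subgroup.mem_centralizer_iff.1 ((c.mem_centralizer_T hx).2 h) s hs).symm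

theorem mem_normalizer_T {g : G} (hg : g ∈ L) (h : (c.ρ ⟨g, hg⟩).1 1 0 = 0) :
    g ∈ Subgroup.normalizer (T : Set G) := by
  have h' : (c.ρ ⟨g, hg⟩)⁻¹.1 1 0 = 0 := by simp [SpecialLinearGroup.coe_inv, adjugate_fin_two, h]
  rw [Subgroup.mem_normalizer_iff]
  intro t
  constructor
  · intro ht
    refine (c.hT (⟨g, hg⟩ * ⟨t, c.hTL ht⟩ * ⟨g, hg⟩⁻¹)).2 ?_
    rw [map_mul, map_mul, map_inv]
    exact isUni_conj_iff h _ ((c.hT _).1 ht)
  · intro ht
    have htL : t ∈ L := by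
      have := mul_mem (mul_mem (inv_mem hg) (c.hTL ht)) hg
      simpa [mul_assoc] using this
    refine (c.hT ⟨t, htL⟩).2 ?_
    have h2 := isUni_conj_iff h' _ ((c.hT (⟨g, hg⟩ * ⟨t, htL⟩ * ⟨g, hg⟩⁻¹)).1 ht)
    rw [map_mul, map_mul, map_inv, inv_inv] at h2
    simpa [mul_assoc] using h2

include c in
theorem card_V : Nat.card V = Nat.card F ^ 2 := by
  rw [← Nat.card_congr (Additive.ofMul (α := ↥V)).symm, Nat.card_congr c.ψ.toEquiv, Nat.card_fun, Nat.card_fin]

end Coords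

end Cfsg.Agent.Lib.LocalEven.NatMod
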