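import Cfsg.Agent.Lib.LocalEven.NoQuadratic

/-!
`SL₂` in odd characteristic: the involution, and trace zero products of unipotent elements.
-/

set_option autoImplicit false

namespace Cfsg.Agent.Lib.LocalEven.NoQuad

open Matrix

variable {F : Type*} [Field F]

theorem sl2_invol (h2 : (2 : F) ≠ 0) {A : Matrix.SpecialLinearGroup (Fin 2) F} (hA : A * A = 1)
    (hne : A ≠ 1) : A.1 = !![-1, 0; 0, -1] := by
  have hinv : A⁻¹ = A := inv_eq_of_mul_eq_one_left hA
  have h := congrArg Subtype.val hinv
  rw [Matrix.SpecialLinearGroup.coe_inv, Matrix.adjugate_fin_two] at h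
  have h00 : A.1 1 1 = A.1 0 0 := by simpa using congrFun (congrFun h 0) 0
  have h01 : A.1 0 1 = 0 := by
    have := congrFun (congrFun h 0) 1
    simp at this
    have : (2 : F) * A.1 0 1 = 0 := by linear_combination -this
    exact (mul_eq_zero.1 this).resolve_left h2
  have h10 : A.1 1 0 = 0 := by
    have := congrFun (congrFun h 1) 0
    simp at this
    have : (2 : F) * A.1 1 0 = 0 := by linear_combination -this
    exact (mul_eq_zero.1 this).resolve_left h2
  have hd := A.2
  rw [Matrix.det_fin_two, h00, h01, zero_mul, sub_zero] at hd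
  rcases mul_self_eq_one_iff.1 hd with e | e
  · exfalso
    refine hne (Subtype.ext ?_)
    ext i j
    fin_cases i <;> fin_cases j <;> simp [h00, h01, h10, e]
  · ext i j
    fin_cases i <;> fin_cases j <;> simp [h00, h01, h10, e]

/-- A quotient of a subgroup onto `SL₂(p)` is impossible beside two commuting involutions when `16` does not
divide the order. -/
theorem no_cover {p : ℕ} [hp : Fact p.Prime] (hp2 : p ≠ 2) {Y : Type*} [Group Y] [Finite Y]
    (h16 : ¬ 16 ∣ Nat.card Y) {s t : Y} (hs : s * s = 1) (ht : t * t = 1) (hst : s * t = t * s)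
    (hs1 : s ≠ 1) (ht1 : t ≠ 1) (hne : s ≠ t) (T : Subgroup Y)
    (f : T →* Matrix.SpecialLinearGroup (Fin 2) (ZMod p)) (hf : Function.Surjective f) : False := by
  classical
  haveI : Fact (Nat.Prime 2) := ⟨Nat.prime_two⟩
  have h2 : (2 : ZMod p) ≠ 0 := by
    intro h
    have h' : ((2 : ℕ) : ZMod p) = 0 := by exact_mod_cast h
    rw [ZMod.natCast_eq_zero_iff] at h'
    exact hp2 ((Nat.prime_dvd_prime_iff_eq hp.out Nat.prime_two).1 h')
  have h8SL : 8 ∣ Nat.card (Matrix.SpecialLinearGroup (Fin 2) (ZMod p)) := by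
    rw [KnownA.card_SL2, ZMod.card]
    obtain ⟨k, hk⟩ := hp.out.odd_of_ne_two hp2
    have e : p ^ 2 - 1 = 4 * (k * (k + 1)) := by
      rw [hk, show (2 * k + 1) ^ 2 = 4 * (k * (k + 1)) + 1 by ring]; rfl
    obtain ⟨r, hr⟩ := (Nat.even_mul_succ_self k).two_dvd
    exact Dvd.dvd.mul_left (e ▸ ⟨r, by rw [hr]; ring⟩) p
  have hTcard : Nat.card T = Nat.card f.ker * Nat.card (Matrix.SpecialLinearGroup (Fin 2) (ZMod p)) := by
    rw [Subgroup.card_eq_card_quotient_mul_card_subgroup f.ker,
      Nat.card_congr (QuotientGroup.quotientKerEquivOfSurjective f hf).toEquiv]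
    ring
  have hTY : Nat.card T ∣ Nat.card Y := Subgroup.card_subgroup_dvd_card T
  have hker : ¬ 2 ∣ Nat.card f.ker := by
    intro hd
    obtain ⟨a, ha⟩ := hd
    obtain ⟨b, hb⟩ := h8SL
    exact h16 (Dvd.dvd.trans ⟨a * b, by rw [hTcard, ha, hb]; ring⟩ hTY)
  have h8T : 2 ^ 3 ∣ Nat.card T := by rw [hTcard]; exact Dvd.dvd.mul_left h8SL _
  obtain ⟨P, hP⟩ := Sylow.exists_subgroup_card_pow_prime 2 h8T
  -- the four group
  let W : Subgroup Y :=
    { carrier := {1, s, t, s * t}
      one_mem' := by simp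
      mul_mem' := by
        have a1 : s * (s * t) = t := by rw [← mul_assoc, hs, one_mul]
        have a2 : t * (s * t) = s := by rw [hst, ← mul_assoc, ht, one_mul]
        have a3 : s * t * s = t := by rw [hst, mul_assoc, hs, mul_one]
        have a4 : s * t * t = s := by rw [mul_assoc, ht, mul_one]
        have a5 : s * t * (s * t) = 1 := by rw [← mul_assoc, a3, ht]
        intro x y hx hy
        simp only [Set.mem_insert_iff, Set.mem_singleton_iff] at hx hy ⊢
        rcases hx with rfl | rfl | rfl | rfl <;> rcases hy with rfl | rfl | rfl | rfl <;>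
          simp [hs, ht, hst.symm, a1, a2, a3, a4, a5]
      inv_mem' := by
        intro x hx
        simp only [Set.mem_insert_iff, Set.mem_singleton_iff] at hx ⊢
        have e : x⁻¹ = x := inv_eq_of_mul_eq_one_left (by
          rcases hx with rfl | rfl | rfl | rfl
          · simp
          · exact hs
          · exact ht
          · rw [mul_assoc, ← mul_assoc t, ← hst, mul_assoc s t, ht, mul_one, hs])
        rwa [e] }
  have hW2 : IsPGroup 2 W := by
    rintro ⟨x, hx⟩
    refine ⟨1, Subtype.ext ?_⟩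
    have hx' : x ∈ W := hx
    have e := W.inv_mem hx'
    show x ^ (2 ^ 1) = 1
    rw [pow_one, pow_two]
    change x ∈ ({1, s, t, s * t} : Set Y) at hx'
    simp only [Set.mem_insert_iff, Set.mem_singleton_iff] at hx'
    rcases hx' with rfl | rfl | rfl | rfl
    · simp
    · exact hs
    · exact ht
    · rw [mul_assoc, ← mul_assoc t, ← hst, mul_assoc s t, ht, mul_one, hs]
  obtain ⟨S, hWS⟩ := hW2.exists_le_sylow
  have hP' : Nat.card (P.map T.subtype : Subgroup Y) = 8 :=
    ((Nat.card_congr (P.equivMapOfInjective _ T.subtype_injective).toEquiv).symm.trans hP)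
  obtain ⟨S', hS'⟩ := (IsPGroup.of_card (p := 2) (n := 3) hP').exists_le_sylow
  have hS'8 : (S' : Subgroup Y) = P.map T.subtype := by
    refine (Subgroup.eq_of_le_of_card_ge hS' ?_).symm
    obtain ⟨k, hk⟩ := IsPGroup.iff_card.1 S'.2
    rw [hk, hP']
    have hk3 : k ≤ 3 := by
      by_contra hk3
      exact h16 (Dvd.dvd.trans (hk ▸ (pow_dvd_pow 2 (by omega : 4 ≤ k))) (Subgroup.card_subgroup_dvd_card _))
    exact Nat.pow_le_pow_right two_pos hk3
  obtain ⟨g, hg⟩ := MulAction.exists_smul_eq Y S S'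
  have hmem : ∀ x ∈ W, g * x * g⁻¹ ∈ T := fun x hx => by
    have h1 : g * x * g⁻¹ ∈ ((g • S : Sylow 2 Y) : Subgroup Y) := by
      rw [Sylow.coe_subgroup_smul]
      exact ⟨x, hWS hx, rfl⟩
    rw [hg, hS'8] at h1
    exact Subgroup.map_subtype_le P h1
  let c : Y →* Y := (MulAut.conj g).toMonoidHom
  let s' : T := ⟨c s, hmem s (Or.inr (Or.inl rfl))⟩
  let t' : T := ⟨c t, hmem t (Or.inr (Or.inr (Or.inl rfl)))⟩
  have hs' : s' * s' = 1 := Subtype.ext (by show c s * c s = 1; rw [← map_mul, hs, map_one])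
  have ht' : t' * t' = 1 := Subtype.ext (by show c t * c t = 1; rw [← map_mul, ht, map_one])
  have hcinj : Function.Injective c := (MulAut.conj g).injective
  have key : ∀ z : T, z * z = 1 → z ≠ 1 → f z ≠ 1 := fun z hz hz1 he => hker (by
    have : orderOf (⟨z, he⟩ : f.ker) = 2 := by
      refine orderOf_eq_prime (Subtype.ext (by rw [pow_two]; exact hz)) fun e => hz1 (congrArg Subtype.val e)
    have h := orderOf_dvd_natCard (⟨z, he⟩ : f.ker)
    rwa [this] at h)
  have hs'1 : s' ≠ 1 := fun e => hs1 (hcinj ((congrArg Subtype.val e).trans (map_one c).symm))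
  have ht'1 : t' ≠ 1 := fun e => ht1 (hcinj ((congrArg Subtype.val e).trans (map_one c).symm))
  have hst' : s' * t' ≠ 1 := fun e => hne (by
    have e' : c (s * t) = c 1 := by rw [map_mul, map_one]; exact congrArg Subtype.val e
    have := hcinj e'
    calc s = s * (t * t) := by rw [ht, mul_one]
      _ = t := by rw [← mul_assoc, this, one_mul])
  have hc' : (s' * t') * (s' * t') = 1 := by
    have hcomm : s' * t' = t' * s' := Subtype.ext (by show c s * c t = c t * c s; rw [← map_mul, hst, map_mul])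
    rw [mul_assoc, ← mul_assoc t', ← hcomm, mul_assoc s' t', ht', mul_one, hs']
  have eA := sl2_invol h2 (by rw [← map_mul, hs', map_one]) (key s' hs' hs'1)
  have eB := sl2_invol h2 (by rw [← map_mul, ht', map_one]) (key t' ht' ht'1)
  apply key _ hc' hst'
  rw [map_mul]
  refine Subtype.ext ?_
  rw [Matrix.SpecialLinearGroup.coe_mul, eA, eB]
  ext i j
  fin_cases i <;> fin_cases j <;> simp

/-- A nontrivial unipotent element has a conjugate with trace-zero triple product. -/
theorem exists_conj_trace {p : ℕ} [hp : Fact p.Prime] [CharP F p]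
    {g : Matrix.SpecialLinearGroup (Fin 2) F} (hg : g ^ p = 1) (hg1 : g ≠ 1) :
    ∃ w : Matrix.SpecialLinearGroup (Fin 2) F,
      Matrix.trace (g * (w * g * w⁻¹) * g : Matrix.SpecialLinearGroup (Fin 2) F).1 = 0 := by
  set N : Matrix (Fin 2) (Fin 2) F := g.1 - 1 with hN
  have hNp : N ^ p = 0 := by
    have h1 : (g.1) ^ p = 1 := by rw [← Matrix.SpecialLinearGroup.coe_pow, hg]; rfl
    rw [hN, sub_pow_char_of_commute _ (Commute.one_right g.1), h1, one_pow, sub_self]
  have hdet : N.det = 0 := by
    have := congrArg Matrix.det hNp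
    rw [Matrix.det_pow, Matrix.det_zero] at this
    exact (pow_eq_zero_iff hp.out.ne_zero).1 this
  have hsq : N * N = N.trace • N := by
    rw [Matrix.det_fin_two] at hdet
    ext i j
    fin_cases i <;> fin_cases j <;> simp [Matrix.mul_apply, Matrix.trace_fin_two]
    · linear_combination -hdet
    · ring
    · ring
    · linear_combination -hdet
  have htr : N.trace = 0 := by
    by_contra ht
    have hpow : ∀ n : ℕ, N ^ (n + 1) = N.trace ^ n • N := by
      intro n
      induction n with
      | zero => simp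
      | succ n ih => rw [pow_succ, ih, Matrix.smul_mul, hsq, smul_smul, pow_succ]
    have := hpow (p - 1)
    rw [Nat.sub_add_cancel hp.out.one_le, hNp] at this
    rcases smul_eq_zero.1 this.symm with h | h
    · exact ht ((pow_eq_zero_iff' ).1 h).1
    · exact ht (by rw [h, Matrix.trace_zero])
  rw [Matrix.det_fin_two] at hdet
  rw [Matrix.trace_fin_two] at htr
  have hg' : g.1 = 1 + N := by rw [hN]; abel
  set r := N 0 0
  set s := N 0 1 with hs
  set t := N 1 0 with ht
  have e00 : g.1 0 0 = 1 + r := by rw [hg']; simp [r]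
  have e01 : g.1 0 1 = s := by rw [hg']; simp [s]
  have e10 : g.1 1 0 = t := by rw [hg']; simp [t]
  have e11 : g.1 1 1 = 1 - r := by
    rw [hg']; simp; linear_combination htr
  have hrs : r * r + s * t = 0 := by linear_combination r * htr - hdet
  have hge : g.1 = !![1 + r, s; t, 1 - r] := by
    ext i j
    fin_cases i <;> fin_cases j <;> simp [e00, e01, e10, e11]
  by_cases hs0 : s = 0
  · have hr0 : r = 0 := by
      have : r * r = 0 := by rw [hs0] at hrs; linear_combination hrs
      exact mul_self_eq_zero.1 this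
    have ht0 : t ≠ 0 := by
      intro ht0
      refine hg1 (Subtype.ext ?_)
      ext i j
      fin_cases i <;> fin_cases j <;> simp [e00, e01, e10, e11, hr0, hs0, ht0]
    obtain ⟨w, hw⟩ : ∃ w : Matrix.SpecialLinearGroup (Fin 2) F, w.1 = !![1, t⁻¹; 0, 1] :=
      ⟨⟨!![1, t⁻¹; 0, 1], by simp [Matrix.det_fin_two]⟩, rfl⟩
    refine ⟨w, ?_⟩
    rw [Matrix.SpecialLinearGroup.coe_mul, Matrix.SpecialLinearGroup.coe_mul,
      Matrix.SpecialLinearGroup.coe_mul, Matrix.SpecialLinearGroup.coe_mul,
      Matrix.SpecialLinearGroup.coe_inv, hw, Matrix.adjugate_fin_two_of, hge, Matrix.mul_fin_two, Matrix.mul_fin_two, Matrix.mul_fin_two,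
      Matrix.mul_fin_two, Matrix.trace_fin_two]
    simp [hr0, hs0]
    field_simp
    ring
  · obtain ⟨w, hw⟩ : ∃ w : Matrix.SpecialLinearGroup (Fin 2) F, w.1 = !![1, 0; s⁻¹, 1] :=
      ⟨⟨!![1, 0; s⁻¹, 1], by simp [Matrix.det_fin_two]⟩, rfl⟩
    refine ⟨w, ?_⟩
    rw [Matrix.SpecialLinearGroup.coe_mul, Matrix.SpecialLinearGroup.coe_mul,
      Matrix.SpecialLinearGroup.coe_mul, Matrix.SpecialLinearGroup.coe_mul,
      Matrix.SpecialLinearGroup.coe_inv, hw, Matrix.adjugate_fin_two_of, hge, Matrix.mul_fin_two, Matrix.mul_fin_two, Matrix.mul_fin_two,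
      Matrix.mul_fin_two, Matrix.trace_fin_two]
    simp
    field_simp
    linear_combination (6 : F) * hrs

/-- A trace-zero element squares into the centre and is not central. -/
theorem trace_zero_center (h2 : (2 : F) ≠ 0) {D : Matrix.SpecialLinearGroup (Fin 2) F}
    (hD : Matrix.trace D.1 = 0) :
    D * D ∈ Subgroup.center (Matrix.SpecialLinearGroup (Fin 2) F) ∧
      D ∉ Subgroup.center (Matrix.SpecialLinearGroup (Fin 2) F) := by
  rw [Matrix.trace_fin_two] at hD
  refine ⟨Matrix.SpecialLinearGroup.mem_center_iff.2 ⟨-1, by simp, ?_⟩, fun hc => ?_⟩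
  · have hd := D.2
    rw [Matrix.det_fin_two] at hd
    ext i j
    fin_cases i <;> fin_cases j <;> simp [Matrix.mul_apply]
    · linear_combination hd - D.1 0 0 * hD
    · linear_combination -D.1 0 1 * hD
    · linear_combination -D.1 1 0 * hD
    · linear_combination hd - D.1 1 1 * hD
  · obtain ⟨r, hr, he⟩ := Matrix.SpecialLinearGroup.mem_center_iff.1 hc
    have e00 : D.1 0 0 = r := by rw [← he]; simp
    have e11 : D.1 1 1 = r := by rw [← he]; simp
    rw [e00, e11] at hD
    have : (2 : F) * r = 0 := by linear_combination hD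
    rw [(mul_eq_zero.1 this).resolve_left h2] at hr
    simp at hr

end Cfsg.Agent.Lib.LocalEven.NoQuad
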