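import Cfsg.Agent.Lib.LocalEven.Residual

/-!
Norm (relative transfer) of fixed points of a Sylow subgroup in an abelian normalized subgroup.
-/

set_option autoImplicit false

open scoped commutatorElement

namespace Cfsg.Agent.Lib.LocalEven

universe u

variable {G : Type u} [Group G] {p : ℕ}

/-- The norm data of the fixed points of `S` in the abelian group `U`, under `L`. -/
structure NormData (L S U : Subgroup G) where
  /-- the norm -/
  N : G → G
  mem : ∀ w ∈ U ⊓ Subgroup.centralizer (S : Set G), N w ∈ U ⊓ Subgroup.centralizer (L : Set G)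
  map_mul : ∀ w ∈ U ⊓ Subgroup.centralizer (S : Set G), ∀ w' ∈ U ⊓ Subgroup.centralizer (S : Set G),
    N (w * w') = N w * N w'
  fixed : ∀ w ∈ U ⊓ Subgroup.centralizer (L : Set G), N w = w ^ S.relIndex L
  congr_comm : ∀ w ∈ U ⊓ Subgroup.centralizer (S : Set G),
    (w ^ S.relIndex L)⁻¹ * N w ∈ ⁅U, L⁆
  equivariant : ∀ w ∈ U ⊓ Subgroup.centralizer (S : Set G), ∀ t ∈ Subgroup.normalizer (L : Set G),
    t ∈ Subgroup.normalizer (S : Set G) → t ∈ Subgroup.normalizer (U : Set G) →
    N (t * w * t⁻¹) = t * N w * t⁻¹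

theorem exists_normData [Finite G] {L S U : Subgroup G} (hS : S ≤ L)
    (hLU : L ≤ Subgroup.normalizer (U : Set G))
    (hU : ∀ a ∈ U, ∀ b ∈ U, Commute a b) : Nonempty (NormData L S U) := by
  classical
  have := Fintype.ofFinite (L ⧸ S.subgroupOf L)
  let cg : CommGroup U := { mul_comm := fun a b => Subtype.ext (hU a a.2 b b.2) }
  have hconj : ∀ (l : L) (w : G), w ∈ U → (l : G) * w * (l : G)⁻¹ ∈ U :=
    fun l w hw => (Subgroup.mem_normalizer_iff.1 (hLU l.2) w).1 hw
  let f : G → L → U := fun w l => if h : w ∈ U then ⟨(l : G) * w * (l : G)⁻¹, hconj l w h⟩ else 1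
  have fval : ∀ (w : G), w ∈ U → ∀ l : L, (f w l : G) = (l : G) * w * (l : G)⁻¹ :=
    fun w h l => by simp [f, dif_pos h]
  have hf : ∀ w ∈ U ⊓ Subgroup.centralizer (S : Set G), ∀ l l' : L,
      (l : L ⧸ S.subgroupOf L) = (l' : L ⧸ S.subgroupOf L) → f w l = f w l' := by
    intro w hw l l' h
    rw [QuotientGroup.eq, Subgroup.mem_subgroupOf] at h
    have hc := Subgroup.mem_centralizer_iff.1 hw.2 _ h
    refine Subtype.ext ?_
    rw [fval w (Subgroup.mem_inf.1 hw).1, fval w (Subgroup.mem_inf.1 hw).1]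
    push_cast at hc
    calc (l : G) * w * (l : G)⁻¹ = (l : G) * (w * ((l : G)⁻¹ * (l' : G))) * (l' : G)⁻¹ := by group
      _ = (l : G) * (((l : G)⁻¹ * (l' : G)) * w) * (l' : G)⁻¹ := by rw [hc]
      _ = (l' : G) * w * (l' : G)⁻¹ := by group
  let F : G → (L ⧸ S.subgroupOf L) → U := fun w q => f w q.out
  have hF : ∀ w ∈ U ⊓ Subgroup.centralizer (S : Set G), ∀ l : L, F w (l : L ⧸ S.subgroupOf L) = f w l :=
    fun w hw l => hf w hw _ _ (QuotientGroup.out_eq' _)
  have hcard : Fintype.card (L ⧸ S.subgroupOf L) = S.relIndex L := by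
    rw [Subgroup.relIndex, Subgroup.index_eq_card, Nat.card_eq_fintype_card]
  refine ⟨⟨fun w => ((∏ q, F w q : U) : G), ?_, ?_, ?_, ?_, ?_⟩⟩
  · intro w hw
    refine Subgroup.mem_inf.2 ⟨(∏ q, F w q : U).2, ?_⟩
    rw [Subgroup.mem_centralizer_iff]
    intro l hl
    let φ : U →* U :=
      { toFun := fun u => ⟨l * u * l⁻¹, hconj ⟨l, hl⟩ u u.2⟩
        map_one' := Subtype.ext (by simp)
        map_mul' := fun a b => Subtype.ext (by simp [mul_assoc]) }
    have h1 : φ (∏ q, F w q) = ∏ q, F w q := by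
      rw [map_prod]
      refine Fintype.prod_equiv (MulAction.toPerm (⟨l, hl⟩ : L)) _ _ fun q => ?_
      induction q using QuotientGroup.induction_on with
      | H m =>
        rw [MulAction.toPerm_apply, MulAction.Quotient.smul_mk, hF w hw, hF w hw]
        refine Subtype.ext ?_
        show l * (f w m : G) * l⁻¹ = (f w ((⟨l, hl⟩ : L) • m) : G)
        rw [fval w (Subgroup.mem_inf.1 hw).1, fval w (Subgroup.mem_inf.1 hw).1]
        simp [mul_assoc]
    have h2 := congrArg Subtype.val h1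
    simp only [φ, MonoidHom.coe_mk, OneHom.coe_mk] at h2
    exact mul_inv_eq_iff_eq_mul.1 h2
  · intro w hw w' hw'
    show ((∏ q, F (w * w') q : U) : G) = ((∏ q, F w q : U) : G) * ((∏ q, F w' q : U) : G)
    rw [← Subgroup.coe_mul, ← Finset.prod_mul_distrib]
    refine congrArg Subtype.val (Finset.prod_congr rfl fun q _ => ?_)
    refine Subtype.ext ?_
    have a1 := (Subgroup.mem_inf.1 hw).1
    have a2 := (Subgroup.mem_inf.1 hw').1
    simp only [F]
    rw [Subgroup.coe_mul, fval _ (mul_mem a1 a2), fval _ a1, fval _ a2]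
    simp [mul_assoc]
  · intro w hw
    have h1 : ∀ q, F w q = ⟨w, hw.1⟩ := by
      intro q
      refine Subtype.ext ?_
      have := Subgroup.mem_centralizer_iff.1 hw.2 _ q.out.2
      show (f w q.out : G) = w
      rw [fval w (Subgroup.mem_inf.1 hw).1]
      rw [this, mul_inv_cancel_right]
    show ((∏ q, F w q : U) : G) = _
    rw [Finset.prod_congr rfl (fun q _ => h1 q), Finset.prod_const, Finset.card_univ, hcard]
    rfl
  · intro w hw
    have hK : ∀ q, (⟨w, hw.1⟩ : U)⁻¹ * F w q ∈ (⁅U, L⁆).subgroupOf U := by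
      intro q
      rw [Subgroup.mem_subgroupOf]
      simp only [F]
      rw [Subgroup.coe_mul, fval w (Subgroup.mem_inf.1 hw).1]
      have h := Subgroup.commutator_mem_commutator (inv_mem hw.1) (q.out).2
      simpa [commutatorElement_def, mul_assoc] using h
    have h2 : ∏ q, ((⟨w, hw.1⟩ : U)⁻¹ * F w q) ∈ (⁅U, L⁆).subgroupOf U :=
      Subgroup.prod_mem _ fun q _ => hK q
    rw [Finset.prod_mul_distrib, Finset.prod_const, Finset.card_univ, hcard, inv_pow,
      Subgroup.mem_subgroupOf] at h2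
    push_cast at h2
    exact h2
  · intro w hw t htL htS htU
    have hwt : t * w * t⁻¹ ∈ U ⊓ Subgroup.centralizer (S : Set G) := by
      refine Subgroup.mem_inf.2 ⟨(Subgroup.mem_normalizer_iff.1 htU w).1 hw.1, ?_⟩
      have := conj_mem_conjS (g := t) hw.2
      rwa [conjS_centralizer, conjS_eq_self_iff.2 htS] at this
    let e : L ≃* L :=
      { toFun := fun l => ⟨t * l * t⁻¹, (Subgroup.mem_normalizer_iff.1 htL l).1 l.2⟩
        invFun := fun l => ⟨t⁻¹ * l * t, by
          have := (Subgroup.mem_normalizer_iff.1 (inv_mem htL) l).1 l.2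
          simpa using this⟩
        left_inv := fun l => Subtype.ext (by simp [mul_assoc])
        right_inv := fun l => Subtype.ext (by simp [mul_assoc])
        map_mul' := fun a b => Subtype.ext (by simp [mul_assoc]) }
    have heS : (S.subgroupOf L).map e.toMonoidHom = S.subgroupOf L := by
      ext l
      rw [Subgroup.mem_map_equiv, Subgroup.mem_subgroupOf, Subgroup.mem_subgroupOf,
        Subgroup.mem_normalizer_iff.1 htS]
      simp [e, mul_assoc]
    let eq : (L ⧸ S.subgroupOf L) ≃ (L ⧸ S.subgroupOf L) :=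
      Quotient.congr e.toEquiv (fun a b => by
        simp only [QuotientGroup.leftRel_apply, MulEquiv.toEquiv_eq_coe, EquivLike.coe_coe]
        rw [← map_inv, ← map_mul]
        constructor
        · intro h; rw [← heS]; exact Subgroup.mem_map_of_mem _ h
        · intro h; rw [← heS, Subgroup.mem_map_equiv, MulEquiv.symm_apply_apply] at h; exact h)
    let φ : U →* U :=
      { toFun := fun u => ⟨t * u * t⁻¹, (Subgroup.mem_normalizer_iff.1 htU u).1 u.2⟩
        map_one' := Subtype.ext (by simp)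
        map_mul' := fun a b => Subtype.ext (by simp [mul_assoc]) }
    have h1 : φ (∏ q, F w q) = ∏ q, F (t * w * t⁻¹) q := by
      rw [map_prod]
      refine Fintype.prod_equiv eq _ _ fun q => ?_
      induction q using QuotientGroup.induction_on with
      | H m =>
        rw [show eq (m : L ⧸ S.subgroupOf L) = ((e m : L) : L ⧸ S.subgroupOf L) from rfl, hF w hw, hF _ hwt]
        refine Subtype.ext ?_
        show t * (f w m : G) * t⁻¹ = (f (t * w * t⁻¹) (e m) : G)
        rw [fval w (Subgroup.mem_inf.1 hw).1, fval _ (Subgroup.mem_inf.1 hwt).1]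
        simp [e, mul_assoc]
    exact (congrArg Subtype.val h1).symm

theorem IsSylowOf.not_dvd_relIndex [Finite G] [Fact p.Prime] {T H : Subgroup G}
    (hT : IsSylowOf p T H) : ¬ p ∣ T.relIndex H := by
  obtain ⟨P, hP⟩ := hT.exists_sylow
  rw [← hP, Subgroup.relIndex, Subgroup.subgroupOf,
    Subgroup.comap_map_eq_self_of_injective H.subtype_injective]
  exact P.not_dvd_index

theorem eq_one_of_pow_eq_one_of_not_dvd [hp : Fact p.Prime] {w : G} {n : ℕ} (hn : ¬ p ∣ n)
    (h1 : w ^ p = 1) (h2 : w ^ n = 1) : w = 1 := by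
  have a := orderOf_dvd_of_pow_eq_one h1
  have b := orderOf_dvd_of_pow_eq_one h2
  exact orderOf_eq_one_iff.1 (Nat.eq_one_of_dvd_coprimes ((hp.out.coprime_iff_not_dvd).2 hn) a b)

theorem mem_of_pow_mem_of_not_dvd [hp : Fact p.Prime] {K : Subgroup G} {w : G} {n : ℕ}
    (hn : ¬ p ∣ n) (h1 : w ^ p = 1) (h2 : w ^ n ∈ K) : w ∈ K := by
  have hc : Nat.Coprime n (orderOf w) :=
    (((hp.out.coprime_iff_not_dvd).2 hn).coprime_dvd_left (orderOf_dvd_of_pow_eq_one h1)).symm
  obtain ⟨m, hm⟩ := exists_pow_eq_self_of_coprime hc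
  rw [← hm]
  exact pow_mem h2 m

/-- Fixed points of a Sylow subgroup split into fixed points of `L` and the commutator. -/
theorem inf_centralizer_le_of_norm [Finite G] [Fact p.Prime] {L S U : Subgroup G}
    (hS : IsSylowOf p S L) (hLU : L ≤ Subgroup.normalizer (U : Set G))
    (hU : ∀ a ∈ U, ∀ b ∈ U, Commute a b) (hpow : ∀ a ∈ U, a ^ p = 1) :
    U ⊓ Subgroup.centralizer (S : Set G) ≤
      (U ⊓ Subgroup.centralizer (L : Set G)) ⊔ (⁅U, L⁆ ⊓ (U ⊓ Subgroup.centralizer (S : Set G))) := by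
  obtain ⟨D⟩ := exists_normData hS.le hLU hU
  intro w hw
  refine mem_of_pow_mem_of_not_dvd hS.not_dvd_relIndex (hpow w hw.1) ?_
  have hN := D.mem w hw
  have hN' : D.N w ∈ U ⊓ Subgroup.centralizer (S : Set G) :=
    inf_le_inf_left _ (Subgroup.centralizer_le hS.le) hN
  have hc := D.congr_comm w hw
  have hmem : (w ^ S.relIndex L)⁻¹ * D.N w ∈ U ⊓ Subgroup.centralizer (S : Set G) :=
    mul_mem (inv_mem (pow_mem hw _)) hN'
  have e : w ^ S.relIndex L = D.N w * ((w ^ S.relIndex L)⁻¹ * D.N w)⁻¹ := by group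
  rw [e]
  exact Subgroup.mul_mem_sup hN (inv_mem (Subgroup.mem_inf.2 ⟨hc, hmem⟩))

end Cfsg.Agent.Lib.LocalEven
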