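import Cfsg.Agent.Lib.LocalEven.FrakH

/-!
Groups generated by the conjugates of a `p`-subgroup, modulo `O^p`.
-/

set_option autoImplicit false

open scoped commutatorElement

namespace Cfsg.Agent.Lib.LocalEven

universe u

variable {G : Type u} [Group G] {p : ℕ} [hp : Fact p.Prime] [Finite G]

theorem pResOf_sup_eq_of_normal_gen {W Q : Subgroup G} (hQW : Q ≤ W)
    (hgen : ∀ N : Subgroup G, N ≤ W → W ≤ Subgroup.normalizer (N : Set G) → Q ≤ N → N = W) :
    pResOf p W ⊔ Q = W := by
  haveI := pResidual_normal p ↥W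
  set f := QuotientGroup.mk' (Cfsg.pResidual p ↥W) with hf
  have hq : IsPGroup p (↥W ⧸ Cfsg.pResidual p ↥W) := by
    intro q
    induction q using QuotientGroup.induction_on with
    | H g =>
      obtain ⟨k, hk⟩ := pow_mem_pResidual (p := p) g
      exact ⟨k, by rw [← QuotientGroup.mk_pow, QuotientGroup.eq_one_iff]; exact hk⟩
  haveI : Group.IsNilpotent (↥W ⧸ Cfsg.pResidual p ↥W) := hq.isNilpotent
  by_cases hA : (Q.subgroupOf W).map f = ⊤
  · have h1 := congrArg (Subgroup.comap f) hA
    rw [Subgroup.comap_map_eq, hf, QuotientGroup.ker_mk', Subgroup.comap_top] at h1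
    have h2 := congrArg (Subgroup.map W.subtype) h1
    rwa [Subgroup.map_sup, Subgroup.map_subgroupOf_eq_of_le hQW, ← MonoidHom.range_eq_map,
      Subgroup.range_subtype, sup_comm] at h2
  exfalso
  obtain ⟨M0, hM0, hle⟩ := exists_coatom_ge hA
  haveI : M0.Normal := Subgroup.NormalizerCondition.normal_of_coatom M0 Group.normalizerCondition_of_isNilpotent hM0
  refine hM0.1 ?_
  have h := hgen _ (Subgroup.map_subtype_le (M0.comap f)) (map_subtype_le_normalizer _) (by
    rw [← Subgroup.map_subgroupOf_eq_of_le hQW]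
    exact Subgroup.map_mono (Subgroup.map_le_iff_le_comap.1 hle))
  rw [eq_top_iff]
  intro q _
  obtain ⟨y, rfl⟩ := QuotientGroup.mk'_surjective _ q
  have hy : (y : G) ∈ (M0.comap f).map W.subtype := by rw [h]; exact y.2
  obtain ⟨z, hz, hzy⟩ := hy
  rwa [← Subtype.ext (show (z : G) = (y : G) from hzy)]

theorem commutator_pResOf_of_normal_gen {W Q : Subgroup G} (hQW : Q ≤ W) (hQp : IsPGroup p Q)
    (hgen : ∀ N : Subgroup G, N ≤ W → W ≤ Subgroup.normalizer (N : Set G) → Q ≤ N → N = W) :
    ⁅pResOf p W, Q⁆ = pResOf p W := by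
  set R := pResOf p W with hR
  have hRn : Q ≤ Subgroup.normalizer (R : Set G) := hQW.trans (self_le_normalizer_pResOf W)
  have hD : ⁅R, Q⁆ ≤ R := commutator_le_of_le_normalizer hRn
  have hsup : R ⊔ Q = W := pResOf_sup_eq_of_normal_gen hQW hgen
  have hn : W ≤ Subgroup.normalizer ((⁅R, Q⁆ : Subgroup G) : Set G) :=
    hsup.ge.trans (sup_le (le_normalizer_commutator_left R Q) (le_normalizer_commutator_right R Q))
  refine le_antisymm hD (pResOf_le_of_sup_isPGroup hn hQp (hgen _ (sup_le (hD.trans (pResOf_le W)) hQW) ?_ le_sup_right))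
  refine hsup.ge.trans (sup_le ?_ (le_normalizer_sup (hQW.trans hn) Subgroup.le_normalizer))
  rw [le_normalizer_iff_forall]
  have key : ∀ r ∈ R, conjS r (⁅R, Q⁆ ⊔ Q) ≤ ⁅R, Q⁆ ⊔ Q := by
    intro r hr
    rw [conjS_sup]
    refine sup_le ?_ ?_
    · rw [conjS_eq_self_iff.2 (le_normalizer_commutator_left R Q hr)]
      exact le_sup_left
    · intro x hx
      have hy := mem_conjS.1 hx
      rw [show x = ⁅r, r⁻¹ * x * r⁆ * (r⁻¹ * x * r) by simp [commutatorElement_def, mul_assoc]]
      exact mul_mem (Subgroup.mem_sup_left (Subgroup.commutator_mem_commutator hr hy))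
        (Subgroup.mem_sup_right hy)
  intro r hr
  refine le_antisymm (key r hr) ?_
  have := conjS_mono r (key r⁻¹ (inv_mem hr))
  rwa [conjS_cancel_inv] at this

end Cfsg.Agent.Lib.LocalEven
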