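import Cfsg.Agent.Lib.LocalEven.Residual
import Cfsg.Prelude.Def_EvenType

/-!
Strongly `p`-embedded subgroups: equivalent forms and basic consequences.
-/

set_option autoImplicit false

namespace Cfsg.Agent.Lib.LocalEven

universe u

variable {G : Type u} [Group G] {p : ℕ}

theorem exists_orderOf_eq_prime [Finite G] [hp : Fact p.Prime] {A : Subgroup G}
    (hA : p ∣ Nat.card A) : ∃ x ∈ A, orderOf x = p := by
  obtain ⟨x, hx⟩ := exists_prime_orderOf_dvd_card' p hA
  exact ⟨x, x.2, by rw [Subgroup.orderOf_coe]; exact hx⟩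

theorem dvd_card_of_ne_bot [Finite G] [hp : Fact p.Prime] {A : Subgroup G} (hA : IsPGroup p A)
    (hne : A ≠ ⊥) : p ∣ Nat.card A :=
  (hA.card_eq_or_dvd).resolve_left fun h => hne (Subgroup.eq_bot_of_card_eq A h)

theorem isPGroup_zpowers_of_orderOf_eq [hp : Fact p.Prime] {x : G} (hx : orderOf x = p) :
    IsPGroup p (Subgroup.zpowers x) :=
  IsPGroup.of_card (n := 1) (by rw [Nat.card_zpowers, hx, pow_one])

theorem not_pRankLE_zero [Finite G] [hp : Fact p.Prime] {Q : Subgroup G} (hQ : IsPGroup p Q) :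
    ¬ Cfsg.PRankLE p 0 ↥Q ↔ Q ≠ ⊥ := by
  constructor
  · rintro h rfl
    refine h fun A _ _ => ?_
    simpa using Subgroup.card_le_card_group A
  · intro hne h
    obtain ⟨x, hx⟩ := exists_prime_orderOf_dvd_card' (G := ↥Q) p (dvd_card_of_ne_bot hQ hne)
    have := h (Subgroup.zpowers x) inferInstance (by
      rintro a ⟨k, rfl⟩
      show (x ^ k) ^ p = 1
      rw [← zpow_natCast, ← zpow_mul, mul_comm, zpow_mul, zpow_natCast, ← hx, pow_orderOf_eq_one,
        one_zpow])
    rw [Nat.card_zpowers, hx, pow_zero] at this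
    exact absurd this (not_le.2 hp.out.one_lt)

theorem kGeneratedCore_one_eq [Finite G] [Fact p.Prime] {P : Subgroup G} (hP : IsPGroup p P) :
    Cfsg.kGeneratedCore p 1 P =
      ⨆ A : {A : Subgroup G // A ≤ P ∧ A ≠ ⊥}, Subgroup.normalizer ((A : Subgroup G) : Set G) := by
  refine le_antisymm (iSup_le fun Q => ?_) (iSup_le fun A => ?_)
  · exact le_iSup (fun A : {A : Subgroup G // A ≤ P ∧ A ≠ ⊥} =>
      Subgroup.normalizer ((A : Subgroup G) : Set G))
      ⟨Q.1, Q.2.1, (not_pRankLE_zero (hP.to_le Q.2.1)).1 Q.2.2⟩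
  · exact le_iSup (fun Q : {Q : Subgroup G // Q ≤ P ∧ ¬ Cfsg.PRankLE p (1 - 1) Q} =>
      Subgroup.normalizer ((Q : Subgroup G) : Set G))
      ⟨A.1, A.2.1, by rw [Nat.sub_self]; exact (not_pRankLE_zero (hP.to_le A.2.1)).2 A.2.2⟩

theorem isSylowOf_top (P : Sylow p G) : IsSylowOf p (P : Subgroup G) ⊤ :=
  ⟨le_top, P.isPGroup', fun _ _ hQ hle => P.is_maximal' hQ hle⟩

/-- `p`-element criterion: a `p`-subgroup of `H` whose normalizer in `H` has no bigger `p`-subgroup
containing it is Sylow in `H`. -/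
theorem isSylowOf_of_normalizer [Finite G] [Fact p.Prime] {T H : Subgroup G} (hTH : T ≤ H)
    (hT : IsPGroup p T)
    (h : ∀ Q : Subgroup G, Q ≤ H ⊓ Subgroup.normalizer (T : Set G) → IsPGroup p Q → T ≤ Q → Q = T) :
    IsSylowOf p T H := by
  refine ⟨hTH, hT, fun Q hQH hQ hle => ?_⟩
  by_contra hne
  have hlt : T.subgroupOf Q < ⊤ := by
    rw [lt_top_iff_ne_top, ne_eq, Subgroup.subgroupOf_eq_top]
    exact fun h' => hne (le_antisymm h' hle)
  have := hQ.isNilpotent
  obtain ⟨y, hyn, hy⟩ := SetLike.exists_of_lt (Group.normalizerCondition_of_isNilpotent _ hlt)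
  have hy' : (y : G) ∈ Subgroup.normalizer (T : Set G) := by
    have h1 : (T.subgroupOf Q).map Q.subtype = T := Subgroup.map_subgroupOf_eq_of_le hle
    rw [← h1]
    exact Subgroup.le_normalizer_map _ ⟨y, hyn, rfl⟩
  have h2 := h (Q ⊓ Subgroup.normalizer (T : Set G)) (inf_le_inf_right _ hQH) hQ.to_inf_left
    (le_inf hle Subgroup.le_normalizer)
  exact hy (Subgroup.mem_subgroupOf.2 (h2 ▸ Subgroup.mem_inf.2 ⟨y.2, hy'⟩))

theorem isSylowOf_top_of_normalizer_le [Finite G] [Fact p.Prime] {T M : Subgroup G}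
    (hT : IsSylowOf p T M) (hN : Subgroup.normalizer (T : Set G) ≤ M) : IsSylowOf p T ⊤ :=
  isSylowOf_of_normalizer le_top hT.isPGroup fun Q hQ hQp hle =>
    hT.eq_of_le (hQ.trans (inf_le_right.trans hN)) hQp hle

theorem IsSylowOf.dvd_of_dvd [Finite G] [hp : Fact p.Prime] {T H : Subgroup G} (hT : IsSylowOf p T H)
    (hd : p ∣ Nat.card H) : p ∣ Nat.card T := by
  obtain ⟨P, rfl⟩ := hT.exists_sylow
  rw [Subgroup.card_map_of_injective H.subtype_injective]
  exact P.dvd_card_of_dvd_card hd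

section SPE

variable [Finite G] [Fact p.Prime]

theorem normalizer_le_of_forall {M : Subgroup G} {P : Subgroup G} (hP : IsSylowOf p P M)
    (h : ∀ A : Subgroup G, A ≤ P → A ≠ ⊥ → Subgroup.normalizer (A : Set G) ≤ M)
    (A : Subgroup G) (hAM : A ≤ M) (hA : IsPGroup p A) (hne : A ≠ ⊥) :
    Subgroup.normalizer (A : Set G) ≤ M := by
  obtain ⟨m, hm, hle⟩ := hP.exists_conj_le hAM hA
  have hne' : conjS m A ≠ ⊥ := by
    rw [conjS, ne_eq, Subgroup.map_eq_bot_iff_of_injective _ (MulEquiv.injective _)]; exact hne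
  have h2 := conjS_mono m⁻¹ (h _ hle hne')
  rwa [← conjS_normalizer, conjS_inv_cancel, conjS_mem_eq_self (inv_mem hm)] at h2

theorem spe_iff_normalizer {M : Subgroup G} (hM : M ≠ ⊤) (hpM : p ∣ Nat.card M) :
    Cfsg.IsStronglyPEmbedded p M ↔
      ∀ A : Subgroup G, A ≤ M → IsPGroup p A → A ≠ ⊥ → Subgroup.normalizer (A : Set G) ≤ M := by
  constructor
  · rintro ⟨hd, -, P, hP⟩ A hAM hA hne
    rw [kGeneratedCore_one_eq P.isPGroup'] at hP
    have h : ∀ B : Subgroup G, B ≤ (P : Subgroup G) → B ≠ ⊥ → Subgroup.normalizer (B : Set G) ≤ M :=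
      fun B hB hBne => (le_iSup (fun A : {A : Subgroup G // A ≤ (P : Subgroup G) ∧ A ≠ ⊥} =>
        Subgroup.normalizer ((A : Subgroup G) : Set G)) ⟨B, hB, hBne⟩).trans hP
    have hPM : (P : Subgroup G) ≤ M :=
      Subgroup.le_normalizer.trans (h _ le_rfl (P.ne_bot_of_dvd_card hd))
    exact normalizer_le_of_forall ((isSylowOf_top P).mono hPM le_top) h A hAM hA hne
  · intro h
    obtain ⟨T, hT⟩ := exists_isSylowOf p M
    have hTne : T ≠ ⊥ := by
      rintro rfl
      have := hT.dvd_of_dvd hpM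
      rw [Subgroup.card_bot] at this
      exact (Fact.out : p.Prime).ne_one (Nat.dvd_one.1 this)
    have hT' := isSylowOf_top_of_normalizer_le hT (h T hT.le hT.isPGroup hTne)
    let P : Sylow p G :=
      ⟨T, hT.isPGroup, fun hQ hle => hT'.eq_of_le le_top hQ hle⟩
    refine ⟨hpM.trans (Subgroup.card_subgroup_dvd_card M), hM, P, ?_⟩
    rw [kGeneratedCore_one_eq P.isPGroup']
    exact iSup_le fun A => h _ (A.2.1.trans hT.le) (hT.isPGroup.to_le A.2.1) A.2.2

theorem spe_dvd_card {M : Subgroup G} (hM : Cfsg.IsStronglyPEmbedded p M) : p ∣ Nat.card M := by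
  obtain ⟨hd, -, P, hP⟩ := hM
  have hne := P.ne_bot_of_dvd_card hd
  rw [kGeneratedCore_one_eq P.isPGroup'] at hP
  have hPM : (P : Subgroup G) ≤ M := Subgroup.le_normalizer.trans
    ((le_iSup (fun A : {A : Subgroup G // A ≤ (P : Subgroup G) ∧ A ≠ ⊥} =>
      Subgroup.normalizer ((A : Subgroup G) : Set G)) ⟨_, le_rfl, hne⟩).trans hP)
  exact (dvd_card_of_ne_bot P.isPGroup' hne).trans (Subgroup.card_dvd_of_le hPM)

theorem spe_normalizer_le {M : Subgroup G} (hM : Cfsg.IsStronglyPEmbedded p M) {A : Subgroup G}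
    (hAM : A ≤ M) (hA : IsPGroup p A) (hne : A ≠ ⊥) : Subgroup.normalizer (A : Set G) ≤ M :=
  (spe_iff_normalizer hM.2.1 (spe_dvd_card hM)).1 hM A hAM hA hne

theorem spe_centralizer_le {M : Subgroup G} (hM : Cfsg.IsStronglyPEmbedded p M) {x : G}
    (hxM : x ∈ M) (hx : orderOf x = p) : Subgroup.centralizer ({x} : Set G) ≤ M := by
  refine le_trans ?_ (spe_normalizer_le hM (Subgroup.zpowers_le.2 hxM)
    (isPGroup_zpowers_of_orderOf_eq hx) ?_)
  · rw [Subgroup.zpowers_eq_closure, ← Subgroup.centralizer_closure]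
    exact Subgroup.centralizer_le_normalizer _
  · rw [ne_eq, Subgroup.zpowers_eq_bot]
    intro h; rw [h, orderOf_one] at hx; exact (Fact.out : p.Prime).ne_one hx.symm

theorem spe_isSylowOf_top {M : Subgroup G} (hM : Cfsg.IsStronglyPEmbedded p M) {T : Subgroup G}
    (hT : IsSylowOf p T M) : IsSylowOf p T ⊤ := by
  refine isSylowOf_top_of_normalizer_le hT (spe_normalizer_le hM hT.le hT.isPGroup ?_)
  rintro rfl
  have := hT.dvd_of_dvd (spe_dvd_card hM)
  rw [Subgroup.card_bot] at this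
  exact (Fact.out : p.Prime).ne_one (Nat.dvd_one.1 this)

/-- A central element of order `p` in a nontrivial `p`-subgroup. -/
theorem exists_central_orderOf {R : Subgroup G} (hR : IsPGroup p R) (hne : R ≠ ⊥) :
    ∃ w ∈ R, orderOf w = p ∧ ∀ r ∈ R, r * w = w * r := by
  have : Nontrivial R := (Subgroup.nontrivial_iff_ne_bot R).2 hne
  have := hR.center_nontrivial
  have hZ : p ∣ Nat.card (Subgroup.center R) :=
    dvd_card_of_ne_bot (G := R) (hR.to_subgroup _) ((Subgroup.nontrivial_iff_ne_bot _).1 this)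
  obtain ⟨w, hw, hwo⟩ := exists_orderOf_eq_prime hZ
  exact ⟨(w : G), w.2, by rw [Subgroup.orderOf_coe]; exact hwo,
    fun r hr => congrArg Subtype.val (Subgroup.mem_center_iff.1 hw ⟨r, hr⟩)⟩

/-- A `p`-subgroup containing an element `x` of order `p` of `M` lies in `M`. -/
theorem le_of_mem_orderOf {M : Subgroup G}
    (hC : ∀ x ∈ M, orderOf x = p → Subgroup.centralizer ({x} : Set G) ≤ M) {R : Subgroup G}
    (hR : IsPGroup p R) {x : G} (hxR : x ∈ R) (hxM : x ∈ M) (hx : orderOf x = p) : R ≤ M := by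
  have hne : R ≠ ⊥ := by
    rintro rfl
    rw [Subgroup.mem_bot] at hxR
    rw [hxR, orderOf_one] at hx
    exact (Fact.out : p.Prime).ne_one hx.symm
  obtain ⟨w, hwR, hwo, hw⟩ := exists_central_orderOf hR hne
  have hwM : w ∈ M := hC x hxM hx (Subgroup.mem_centralizer_singleton_iff.2 (hw x hxR).symm)
  exact fun r hr => hC w hwM hwo (Subgroup.mem_centralizer_singleton_iff.2 (hw r hr))

/-- If `M` contains the centralizers of its elements of order `p` and the normalizer of a Sylow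
`p`-subgroup, it contains every element conjugating one of them into `M`. -/
theorem mem_of_conj_mem {M P : Subgroup G} (hP : IsSylowOf p P M)
    (hN : Subgroup.normalizer (P : Set G) ≤ M)
    (hC : ∀ x ∈ M, orderOf x = p → Subgroup.centralizer ({x} : Set G) ≤ M) {x g : G}
    (hxM : x ∈ M) (hx : orderOf x = p) (hg : g * x * g⁻¹ ∈ M) : g ∈ M := by
  obtain ⟨R, hR, hxR⟩ := exists_isSylowOf_le (H := (⊤ : Subgroup G)) le_top
    (isPGroup_zpowers_of_orderOf_eq hx)
  have hxR' : x ∈ R := hxR (Subgroup.mem_zpowers x)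
  have hRM : R ≤ M := le_of_mem_orderOf hC hR.isPGroup hxR' hxM hx
  have hRM' : conjS g R ≤ M :=
    le_of_mem_orderOf hC (hR.isPGroup.map _) (conj_mem_conjS hxR') hg
      (by rw [← hx]; exact orderOf_injective (MulAut.conj g).toMonoidHom (MulEquiv.injective _) x)
  have hR1 : IsSylowOf p R M := hR.mono hRM le_top
  obtain ⟨m, hm, hmR⟩ := hP.exists_conj hR1
  have hNR : Subgroup.normalizer (R : Set G) ≤ M := by
    rw [← hmR, ← conjS_normalizer]
    have := conjS_mono m hN
    rwa [conjS_mem_eq_self hm] at this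
  have hR2 : IsSylowOf p (conjS g R) M :=
    hR1.of_card hRM' (hR.isPGroup.map _) (by rw [card_conjS])
  obtain ⟨m', hm', hmR'⟩ := hR1.exists_conj hR2
  have : m'⁻¹ * g ∈ M := hNR (by
    rw [← conjS_eq_self_iff, conjS_mul, ← hmR', conjS_inv_cancel])
  simpa using mul_mem hm' this

theorem spe_mem_of_conj_mem {M : Subgroup G} (hM : Cfsg.IsStronglyPEmbedded p M) {x g : G}
    (hxM : x ∈ M) (hx : orderOf x = p) (hg : g * x * g⁻¹ ∈ M) : g ∈ M := by
  obtain ⟨T, hT⟩ := exists_isSylowOf p M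
  have hne : T ≠ ⊥ := by
    rintro rfl
    have := hT.dvd_of_dvd (spe_dvd_card hM)
    rw [Subgroup.card_bot] at this
    exact (Fact.out : p.Prime).ne_one (Nat.dvd_one.1 this)
  exact mem_of_conj_mem hT (spe_normalizer_le hM hT.le hT.isPGroup hne)
    (fun _ h1 h2 => spe_centralizer_le hM h1 h2) hxM hx hg

/-- Criterion through the centralizers of elements of order `p` and one Sylow normalizer. -/
theorem spe_of_centralizers {M P : Subgroup G} (hM : M ≠ ⊤) (hP : IsSylowOf p P M)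
    (hN : Subgroup.normalizer (P : Set G) ≤ M)
    (hC : ∀ x ∈ M, orderOf x = p → Subgroup.centralizer ({x} : Set G) ≤ M) :
    Cfsg.IsStronglyPEmbedded p M := by
  have hne : P ≠ ⊥ := by
    rintro rfl
    refine hM (top_le_iff.1 (le_trans ?_ hN))
    exact normal_top_le_normalizer (Subgroup.normal_bot)
  have hd : p ∣ Nat.card M := (dvd_card_of_ne_bot hP.isPGroup hne).trans (Subgroup.card_dvd_of_le hP.le)
  rw [spe_iff_normalizer hM hd]
  intro A hAM hA hAne n hn
  obtain ⟨x, hxA, hx⟩ := exists_orderOf_eq_prime (dvd_card_of_ne_bot hA hAne)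
  exact mem_of_conj_mem hP hN hC (hAM hxA) hx (hAM ((Subgroup.mem_normalizer_iff.1 hn x).1 hxA))

end SPE

end Cfsg.Agent.Lib.LocalEven
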