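import Cfsg.Agent.Lib.LocalEven.Subnormal
import Cfsg.Agent.Lib.LocalEven.StronglyEmbedded
import Cfsg.Agent.Lib.LocalEven.Norm
import Cfsg.Agent.Lib.LocalEven.AmalgamP
import Cfsg.Prelude.Def_LocalEven
import Cfsg.Prelude.Def_LocalStructure

/-!
`p`-reduced normal subgroups, stated inside an ambient group.
-/

set_option autoImplicit false

open scoped commutatorElement

namespace Cfsg.Agent.Lib.LocalEven

universe u

variable {G : Type u} [Group G] {p : ℕ}

theorem elemAb_iff {V : Subgroup G} :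
    Cfsg.IsElementaryAbelian p V ↔ (∀ a ∈ V, ∀ b ∈ V, a * b = b * a) ∧ ∀ a ∈ V, a ^ p = 1 := by
  constructor
  · rintro ⟨h1, h2⟩
    exact ⟨fun a ha b hb => congrArg Subtype.val (h1.is_comm.comm ⟨a, ha⟩ ⟨b, hb⟩), h2⟩
  · rintro ⟨h1, h2⟩
    exact ⟨⟨⟨fun a b => Subtype.ext (h1 a a.2 b b.2)⟩⟩, h2⟩

theorem elemAb_le_centralizer {V : Subgroup G} (h : Cfsg.IsElementaryAbelian p V) :
    V ≤ Subgroup.centralizer (V : Set G) :=
  fun a ha => Subgroup.mem_centralizer_iff.2 fun b hb => (elemAb_iff.1 h).1 b hb a ha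

theorem elemAb_mono {V W : Subgroup G} (h : Cfsg.IsElementaryAbelian p V) (hWV : W ≤ V) :
    Cfsg.IsElementaryAbelian p W :=
  elemAb_iff.2 ⟨fun a ha b hb => (elemAb_iff.1 h).1 a (hWV ha) b (hWV hb),
    fun a ha => h.2 a (hWV ha)⟩

theorem elemAb_isPGroup {V : Subgroup G} (h : Cfsg.IsElementaryAbelian p V) : IsPGroup p V :=
  fun a => ⟨1, Subtype.ext (by rw [pow_one]; exact h.2 a a.2)⟩

theorem elemAb_closure {s : Set G} (h1 : ∀ a ∈ s, ∀ b ∈ s, a * b = b * a)
    (h2 : ∀ a ∈ s, a ^ p = 1) : Cfsg.IsElementaryAbelian p (Subgroup.closure s) := by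
  have hc : ∀ a ∈ Subgroup.closure s, ∀ b ∈ Subgroup.closure s, a * b = b * a := by
    have h : Subgroup.closure s ≤ Subgroup.centralizer ((Subgroup.closure s : Subgroup G) : Set G) := by
      rw [Subgroup.centralizer_closure, Subgroup.closure_le]
      exact fun a ha => Subgroup.mem_centralizer_iff.2 fun b hb => h1 b hb a ha
    exact fun a ha b hb => Subgroup.mem_centralizer_iff.1 (h hb) a ha
  refine elemAb_iff.2 ⟨hc, fun a ha => ?_⟩
  induction ha using Subgroup.closure_induction with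
  | mem x hx => exact h2 x hx
  | one => exact one_pow _
  | mul x y hx hy ihx ihy => rw [(show Commute x y from hc x hx y hy).mul_pow, ihx, ihy, one_mul]
  | inv x hx ihx => rw [inv_pow, ihx, inv_one]

theorem centralizer_iSup {ι : Sort*} (f : ι → Subgroup G) :
    Subgroup.centralizer ((⨆ i, f i : Subgroup G) : Set G) = ⨅ i, Subgroup.centralizer (f i : Set G) := by
  refine le_antisymm (le_iInf fun i => Subgroup.centralizer_le (le_iSup f i)) ?_
  rw [Subgroup.le_centralizer_iff]
  refine iSup_le fun i => ?_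
  rw [Subgroup.le_centralizer_iff]
  exact iInf_le _ i

/-- `Ω₁(Z(T))` is elementary abelian. -/
theorem omZ_elemAb (T : Subgroup G) : Cfsg.IsElementaryAbelian p (omZ p T) := by
  refine elemAb_closure ?_ fun a ha => ha.2
  intro a ha b hb
  exact Subgroup.mem_centralizer_iff.1 hb.1.2 a ha.1.1

theorem elemAb_le_omZ {V T : Subgroup G} (hel : Cfsg.IsElementaryAbelian p V) (hVT : V ≤ T)
    (hc : T ≤ Subgroup.centralizer (V : Set G)) : V ≤ omZ p T :=
  fun v hv => Subgroup.subset_closure
    ⟨Subgroup.mem_inf.2 ⟨hVT hv, Subgroup.le_centralizer_iff.1 hc hv⟩, hel.2 v hv⟩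

/-- `V` is a `p`-reduced normal subgroup of `H`, with everything inside the ambient group. -/
structure RedIn (p : ℕ) (V H : Subgroup G) : Prop where
  le : V ≤ H
  normal : H ≤ Subgroup.normalizer (V : Set G)
  elem : Cfsg.IsElementaryAbelian p V
  red : ∀ N : Subgroup G, N ≤ H → H ≤ Subgroup.normalizer (N : Set G) →
    pResOf p N ≤ Subgroup.centralizer (V : Set G) → N ≤ Subgroup.centralizer (V : Set G)

theorem RedIn.pCoreOf_le_centralizer {V H : Subgroup G} (h : RedIn p V H) :
    Cfsg.pCoreOf p H ≤ Subgroup.centralizer (V : Set G) :=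
  h.red _ (pCoreOf_le H) (le_normalizer_pCoreOf H)
    (by rw [pResOf_eq_bot_of_isPGroup (pCoreOf_isPGroup H)]; exact bot_le)

theorem RedIn.le_pCoreOf {V H : Subgroup G} (h : RedIn p V H) : V ≤ Cfsg.pCoreOf p H :=
  LocalEven.le_pCoreOf h.le h.normal (elemAb_isPGroup h.elem)

theorem isPReducedNormal_iff_redIn_top [Finite G] [hp : Fact p.Prime] {V : Subgroup G} :
    Cfsg.IsPReducedNormal p V ↔ RedIn p V ⊤ := by
  constructor
  · rintro ⟨hn, hel, hCn, hq⟩
    refine ⟨le_top, normal_top_le_normalizer hn, hel, fun N _ hN hres => ?_⟩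
    have hNn : N.Normal := normal_of_le_normalizer hN
    set f := QuotientGroup.mk' (Subgroup.centralizer (V : Set G)) with hf
    have hp' : IsPGroup p (N.map f) := by
      rintro ⟨q, x, hx, rfl⟩
      obtain ⟨k, hk⟩ := pow_mem_pResidual (p := p) (⟨x, hx⟩ : N)
      refine ⟨k, Subtype.ext ?_⟩
      show f x ^ p ^ k = 1
      rw [← map_pow, hf, QuotientGroup.mk'_apply, QuotientGroup.eq_one_iff]
      exact hres (Subgroup.mem_map_of_mem N.subtype hk)
    have h1 := le_pCore (hNn.map f (QuotientGroup.mk'_surjective _)) hp'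
    rw [hq, le_bot_iff, Subgroup.map_eq_bot_iff, QuotientGroup.ker_mk'] at h1
    exact h1
  · rintro ⟨-, hn, hel, hred⟩
    have hCn : (Subgroup.centralizer (V : Set G)).Normal :=
      normal_of_le_normalizer (le_normalizer_centralizer hn)
    refine ⟨normal_of_le_normalizer hn, hel, hCn, ?_⟩
    set f := QuotientGroup.mk' (Subgroup.centralizer (V : Set G)) with hf
    set D := (Cfsg.pCore p (G ⧸ Subgroup.centralizer (V : Set G))).comap f with hD
    have hDn : D.Normal := (pCore_normal _ _).comap f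
    have h1 := hred D le_top (normal_top_le_normalizer hDn) (by
      rw [pResOf_le_iff]
      intro x hx hc
      rw [← QuotientGroup.ker_mk' (Subgroup.centralizer (V : Set G)), MonoidHom.mem_ker]
      obtain ⟨k, hk⟩ := pCore_isPGroup p (G ⧸ Subgroup.centralizer (V : Set G)) ⟨f x, hx⟩
      exact eq_one_of_coprime_of_pow (Nat.Coprime.coprime_dvd_left (orderOf_map_dvd f x) hc)
        (congrArg Subtype.val hk))
    rw [← le_bot_iff, ← Subgroup.map_comap_eq_self_of_surjective (QuotientGroup.mk'_surjective _)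
      (Cfsg.pCore p (G ⧸ Subgroup.centralizer (V : Set G))), ← hD, le_bot_iff, Subgroup.map_eq_bot_iff,
      QuotientGroup.ker_mk']
    exact h1

theorem redIn_map_iff {H' : Type u} [Group H'] {f : H' →* G} (hf : Function.Injective f)
    {X K : Subgroup H'} : RedIn p (X.map f) (K.map f) ↔ RedIn p X K := by
  have hnorm : ∀ A B : Subgroup H', A.map f ≤ Subgroup.normalizer ((B.map f : Subgroup G) : Set G) ↔
      A ≤ Subgroup.normalizer (B : Set H') := by
    intro A B
    constructor
    · intro h a ha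
      rw [Subgroup.mem_normalizer_iff]
      intro b
      have := Subgroup.mem_normalizer_iff.1 (h (Subgroup.mem_map_of_mem f ha)) (f b)
      rwa [← map_inv, ← map_mul, ← map_mul, Subgroup.mem_map_iff_mem hf, Subgroup.mem_map_iff_mem hf] at this
    · exact fun h => (Subgroup.map_mono h).trans (Subgroup.le_normalizer_map f)
  have hcent : ∀ A B : Subgroup H', A.map f ≤ Subgroup.centralizer ((B.map f : Subgroup G) : Set G) ↔
      A ≤ Subgroup.centralizer (B : Set H') := by
    intro A B
    rw [le_centralizer_iff_commutator, le_centralizer_iff_commutator, ← Subgroup.map_commutator,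
      Subgroup.map_eq_bot_iff_of_injective _ hf]
  have hres : ∀ A : Subgroup H', (pResOf p A).map f = pResOf p (A.map f) := by
    intro A
    rw [pResOf_eq_closure, pResOf_eq_closure, MonoidHom.map_closure]
    congr 1
    ext x
    constructor
    · rintro ⟨y, ⟨hy, hc⟩, rfl⟩
      exact ⟨Subgroup.mem_map_of_mem f hy, by rwa [orderOf_injective f hf]⟩
    · rintro ⟨⟨y, hy, rfl⟩, hc⟩
      exact ⟨y, ⟨hy, by rwa [orderOf_injective f hf] at hc⟩, rfl⟩
  constructor
  · rintro ⟨h1, h2, h3, h4⟩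
    refine ⟨(Subgroup.map_le_map_iff_of_injective hf).1 h1, (hnorm _ _).1 h2, ?_, fun N hN hn hr => ?_⟩
    · refine elemAb_iff.2 ⟨fun a ha b hb => hf ?_, fun a ha => hf ?_⟩
      · rw [map_mul, map_mul]
        exact (elemAb_iff.1 h3).1 _ (Subgroup.mem_map_of_mem f ha) _ (Subgroup.mem_map_of_mem f hb)
      · rw [map_pow, map_one]; exact h3.2 _ (Subgroup.mem_map_of_mem f ha)
    · refine (hcent _ _).1 (h4 _ (Subgroup.map_mono hN) ((hnorm _ _).2 hn) ?_)
      rw [← hres]; exact (hcent _ _).2 hr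
  · rintro ⟨h1, h2, h3, h4⟩
    refine ⟨Subgroup.map_mono h1, (hnorm _ _).2 h2, ?_, fun N hN hn hr => ?_⟩
    · refine elemAb_iff.2 ⟨?_, ?_⟩
      · rintro _ ⟨a, ha, rfl⟩ _ ⟨b, hb, rfl⟩
        rw [← map_mul, ← map_mul, (elemAb_iff.1 h3).1 a ha b hb]
      · rintro _ ⟨a, ha, rfl⟩
        rw [← map_pow, h3.2 a ha, map_one]
    · have e : (N.comap f).map f = N :=
        Subgroup.map_comap_eq_self (hN.trans (Subgroup.map_le_range f K))
      rw [← e] at hn hr hN ⊢
      rw [← hres] at hr
      exact (hcent _ _).2 (h4 _ ((Subgroup.map_le_map_iff_of_injective hf).1 hN) ((hnorm _ _).1 hn)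
        ((hcent _ _).1 hr))

theorem isPReducedNormal_iff_redIn [Finite G] [Fact p.Prime] {H : Subgroup G} {X : Subgroup H} :
    Cfsg.IsPReducedNormal p X ↔ RedIn p (X.map H.subtype) H := by
  rw [isPReducedNormal_iff_redIn_top, ← redIn_map_iff (f := H.subtype) H.subtype_injective,
    ← MonoidHom.range_eq_map, Subgroup.range_subtype]

theorem isPReducedNormal_subgroupOf_iff [Finite G] [Fact p.Prime] {H V : Subgroup G} (hV : V ≤ H) :
    Cfsg.IsPReducedNormal p (V.subgroupOf H) ↔ RedIn p V H := by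
  rw [isPReducedNormal_iff_redIn, Subgroup.map_subgroupOf_eq_of_le hV]

/-! ### The largest p-reduced subgroup -/

theorem redIn_iSup {H : Subgroup G} {ι : Type*} (V : ι → Subgroup G) (h : ∀ i, RedIn p (V i) H) :
    RedIn p (⨆ i, V i) H := by
  refine ⟨iSup_le fun i => (h i).le, ?_, ?_, fun N hN hn hres => ?_⟩
  · rw [le_normalizer_iff_forall]
    intro g hg
    rw [conjS_iSup]
    exact iSup_congr fun i => conjS_eq_self_iff.2 ((h i).normal hg)
  · rw [Subgroup.iSup_eq_closure]
    refine elemAb_closure ?_ ?_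
    · intro a ha b hb
      obtain ⟨i, hi⟩ := Set.mem_iUnion.1 ha
      obtain ⟨j, hj⟩ := Set.mem_iUnion.1 hb
      exact Subgroup.mem_centralizer_iff.1 ((h i).pCoreOf_le_centralizer ((h j).le_pCoreOf hj)) a hi
    · intro a ha
      obtain ⟨i, hi⟩ := Set.mem_iUnion.1 ha
      exact (h i).elem.2 a hi
  · rw [centralizer_iSup, le_iInf_iff] at hres ⊢
    exact fun i => (h i).red N hN hn (hres i)

theorem largestPReduced_redIn [Finite G] [Fact p.Prime] :
    RedIn p (Cfsg.largestPReduced p G) ⊤ := by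
  rw [Cfsg.largestPReduced, sSup_eq_iSup']
  exact redIn_iSup _ fun i => isPReducedNormal_iff_redIn_top.1 i.2

theorem largestPReduced_isPReducedNormal [Finite G] [Fact p.Prime] :
    Cfsg.IsPReducedNormal p (Cfsg.largestPReduced p G) :=
  isPReducedNormal_iff_redIn_top.2 largestPReduced_redIn

theorem le_largestPReduced [Finite G] [Fact p.Prime] {V : Subgroup G} (h : RedIn p V ⊤) :
    V ≤ Cfsg.largestPReduced p G :=
  le_sSup (show V ∈ {V : Subgroup G | Cfsg.IsPReducedNormal p V} from
    isPReducedNormal_iff_redIn_top.2 h)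

theorem largestPReducedOf_redIn [Finite G] [Fact p.Prime] (H : Subgroup G) :
    RedIn p (Cfsg.largestPReducedOf p H) H :=
  isPReducedNormal_iff_redIn.1 largestPReduced_isPReducedNormal

theorem le_largestPReducedOf [Finite G] [Fact p.Prime] {V H : Subgroup G} (h : RedIn p V H) :
    V ≤ Cfsg.largestPReducedOf p H := by
  rw [← Subgroup.map_subgroupOf_eq_of_le h.le, Cfsg.largestPReducedOf]
  exact Subgroup.map_mono (le_sSup (show V.subgroupOf H ∈ {V : Subgroup H | Cfsg.IsPReducedNormal p V}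
    from (isPReducedNormal_subgroupOf_iff h.le).2 h))

theorem largestPReducedOf_top [Finite G] [Fact p.Prime] :
    Cfsg.largestPReducedOf p (⊤ : Subgroup G) = Cfsg.largestPReduced p G :=
  le_antisymm (le_largestPReduced (largestPReducedOf_redIn ⊤))
    (le_largestPReducedOf largestPReduced_redIn)

theorem conjS_eq_of_redIn_unique [Finite G] [Fact p.Prime] {H : Subgroup G} {g : G}
    (hg : conjS g H = H) : conjS g (Cfsg.largestPReducedOf p H) = Cfsg.largestPReducedOf p H := by
  have key : ∀ g : G, conjS g H = H →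
      conjS g (Cfsg.largestPReducedOf p H) ≤ Cfsg.largestPReducedOf p H := by
    intro g hg
    have h2 := (redIn_map_iff (p := p) (f := (MulAut.conj g).toMonoidHom) (MulEquiv.injective _)
      (X := Cfsg.largestPReducedOf p H) (K := H)).2 (largestPReducedOf_redIn H)
    rw [map_conj_eq, map_conj_eq, hg] at h2
    exact le_largestPReducedOf h2
  refine le_antisymm (key g hg) ?_
  have h1 : conjS g⁻¹ H = H := by
    have := congrArg (conjS g⁻¹) hg; rwa [conjS_inv_cancel, eq_comm] at this
  have := conjS_mono g (key g⁻¹ h1)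
  rwa [conjS_cancel_inv] at this

theorem le_normalizer_largestPReducedOf [Finite G] [Fact p.Prime] {A H : Subgroup G}
    (h : A ≤ Subgroup.normalizer (H : Set G)) :
    A ≤ Subgroup.normalizer ((Cfsg.largestPReducedOf p H : Subgroup G) : Set G) :=
  fun _ ha => conjS_eq_self_iff.1 (conjS_eq_of_redIn_unique (conjS_eq_self_iff.2 (h ha)))

/-! ### Sylow subgroups and reduced subgroups -/

theorem IsSylowOf.inf_normal [Finite G] [Fact p.Prime] {T H N : Subgroup G} (hT : IsSylowOf p T H)
    (hNH : N ≤ H) (hn : H ≤ Subgroup.normalizer (N : Set G)) : IsSylowOf p (T ⊓ N) N := by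
  obtain ⟨Q, hQ, -⟩ := exists_isSylowOf_le (inf_le_right : T ⊓ N ≤ N) hT.isPGroup.to_inf_left
  obtain ⟨h, hh, hle⟩ := hT.exists_conj_le (hQ.le.trans hNH) hQ.isPGroup
  have h2 : LocalEven.conjS h Q ≤ T ⊓ N := by
    refine le_inf hle ?_
    have := conjS_mono h hQ.le
    rwa [conjS_eq_self_iff.2 (hn hh)] at this
  exact hQ.of_card inf_le_right hT.isPGroup.to_inf_left (by rw [← card_conjS h Q]; exact Subgroup.card_le_of_le h2)

theorem le_of_pResOf_le_of_sylow [Finite G] [Fact p.Prime] {T N K : Subgroup G}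
    (hT : IsSylowOf p T N) (h1 : pResOf p N ≤ K) (h2 : T ≤ K) : N ≤ K := by
  rw [← pResOf_sup_sylow hT]; exact sup_le h1 h2

/-- The image in `H` of a subnormal subgroup acting as a `p`-group on a reduced `V` is trivial. -/
theorem RedIn.subnormal_le [Finite G] [hp : Fact p.Prime] {V H N : Subgroup G} (h : RedIn p V H)
    (hNH : N ≤ H) (hN : (N.subgroupOf H).IsSubnormal)
    (hres : pResOf p N ≤ Subgroup.centralizer (V : Set G)) :
    N ≤ Subgroup.centralizer (V : Set G) := by
  obtain ⟨-, -, hCn, hq⟩ := (isPReducedNormal_subgroupOf_iff h.le).2 h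
  set f := QuotientGroup.mk' (Subgroup.centralizer ((V.subgroupOf H : Subgroup H) : Set H)) with hf
  have hp' : IsPGroup p ((N.subgroupOf H).map f) := by
    rintro ⟨q, x, hx, rfl⟩
    obtain ⟨k, hk⟩ := pow_mem_pResidual (p := p) (⟨(x : G), hx⟩ : N)
    refine ⟨k, Subtype.ext ?_⟩
    show f x ^ p ^ k = 1
    rw [← map_pow, hf, QuotientGroup.mk'_apply, QuotientGroup.eq_one_iff, Subgroup.mem_centralizer_iff]
    intro v hv
    have := Subgroup.mem_centralizer_iff.1 (hres (Subgroup.mem_map_of_mem N.subtype hk)) (v : G) hv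
    exact Subtype.ext (by simpa using this)
  have h1 := le_pCore_of_subnormal (hN.map (QuotientGroup.mk'_surjective _)) hp'
  rw [hq, le_bot_iff, Subgroup.map_eq_bot_iff, QuotientGroup.ker_mk'] at h1
  intro n hn
  rw [Subgroup.mem_centralizer_iff]
  intro v hv
  have := Subgroup.mem_centralizer_iff.1 (h1 (x := ⟨n, hNH hn⟩) hn) ⟨v, h.le hv⟩ hv
  exact congrArg Subtype.val this

/-- Normal closures of reduced subgroups of subgroups containing a Sylow subgroup. -/
theorem redIn_closure [Finite G] [hp : Fact p.Prime] {T R L X : Subgroup G}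
    (hch : L ⊓ Subgroup.centralizer (Cfsg.pCoreOf p L : Set G) ≤ Cfsg.pCoreOf p L)
    (hT : IsSylowOf p T L) (hTR : T ≤ R) (hRL : R ≤ L) (hX : RedIn p X R) :
    RedIn p (⨆ g : L, conjS (g : G) X) L := by
  set O := Cfsg.pCoreOf p L with hO
  have hOR : O ≤ Cfsg.pCoreOf p R :=
    LocalEven.le_pCoreOf (hT.pCoreOf_le.trans hTR) (hRL.trans (le_normalizer_pCoreOf L))
      (pCoreOf_isPGroup L)
  have hXc : X ≤ Subgroup.centralizer (O : Set G) :=
    Subgroup.le_centralizer_iff.1 (hOR.trans hX.pCoreOf_le_centralizer)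
  have hXO : X ≤ O := le_trans (le_inf (hX.le.trans hRL) hXc) hch
  have hsub : ∀ g : L, conjS (g : G) X ≤ O ⊓ Subgroup.centralizer (O : Set G) := by
    intro g
    have := conjS_mono (g : G) (le_inf hXO hXc)
    rwa [conjS_inf, conjS_centralizer, conjS_eq_self_iff.2 (le_normalizer_pCoreOf L g.2)] at this
  refine ⟨iSup_le fun g => ((hsub g).trans inf_le_left).trans (pCoreOf_le L), ?_, ?_, fun N hN hn hres => ?_⟩
  · rw [le_normalizer_iff_forall]
    have key : ∀ h ∈ L, conjS h (⨆ g : L, conjS (g : G) X) ≤ ⨆ g : L, conjS (g : G) X := by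
      intro h hh
      rw [conjS_iSup]
      refine iSup_le fun g => ?_
      rw [← conjS_mul]
      exact le_iSup (fun g : L => conjS (g : G) X) ⟨h * g, mul_mem hh g.2⟩
    intro h hh
    refine le_antisymm (key h hh) ?_
    have := conjS_mono h (key h⁻¹ (inv_mem hh))
    rwa [conjS_cancel_inv] at this
  · rw [Subgroup.iSup_eq_closure]
    refine elemAb_closure ?_ ?_
    · intro a ha b hb
      obtain ⟨i, hi⟩ := Set.mem_iUnion.1 ha
      obtain ⟨j, hj⟩ := Set.mem_iUnion.1 hb
      exact Subgroup.mem_centralizer_iff.1 (hsub j hj).2 a (hsub i hi).1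
    · intro a ha
      obtain ⟨i, hi⟩ := Set.mem_iUnion.1 ha
      rw [SetLike.mem_coe, mem_conjS] at hi
      have := hX.elem.2 _ hi
      rwa [show (i : G)⁻¹ * a * (i : G) = (i : G)⁻¹ * a * ((i : G)⁻¹)⁻¹ by group, conj_pow,
        conj_eq_one_iff] at this
  · rw [centralizer_iSup, le_iInf_iff] at hres ⊢
    have hbase : N ≤ Subgroup.centralizer (X : Set G) := by
      have h1 : pResOf p N ≤ Subgroup.centralizer (X : Set G) := by
        simpa [conjS_one] using hres 1
      refine le_of_pResOf_le_of_sylow (hT.inf_normal hN hn) h1 ?_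
      refine le_trans (inf_le_inf_right N hTR) ?_
      exact hX.red _ inf_le_left (le_normalizer_inf Subgroup.le_normalizer (hRL.trans hn))
        ((pResOf_mono inf_le_right).trans h1)
    intro g
    have := conjS_mono (g : G) hbase
    rwa [conjS_centralizer, conjS_eq_self_iff.2 (hn g.2)] at this

theorem redIn_omZ_self [Finite G] [Fact p.Prime] {T : Subgroup G} : RedIn p (omZ p T) T :=
  ⟨omZ_le T, Subgroup.centralizer_le_normalizer _ |> (Subgroup.le_centralizer_iff.1 (omZ_le_centralizer T)).trans,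
    omZ_elemAb T, fun _ hN _ _ => hN.trans (Subgroup.le_centralizer_iff.1 (omZ_le_centralizer T))⟩

theorem sylowCenterClosure_redIn [Finite G] [hp : Fact p.Prime] {L : Subgroup G}
    (hch : L ⊓ Subgroup.centralizer (Cfsg.pCoreOf p L : Set G) ≤ Cfsg.pCoreOf p L) :
    RedIn p (Cfsg.sylowCenterClosure p L) L := by
  obtain ⟨T, hT⟩ := exists_isSylowOf p L
  convert redIn_closure hch hT le_rfl hT.le redIn_omZ_self using 1
  rw [sylowCenterClosure_eq]
  refine le_antisymm (iSup_le fun T' => ?_) (iSup_le fun g => ?_)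
  · obtain ⟨g, hg, hgT⟩ := hT.exists_conj T'.2
    rw [← hgT, ← conjS_omZ]
    exact le_iSup (fun g : L => conjS (g : G) (omZ p T)) ⟨g, hg⟩
  · rw [conjS_omZ]
    have := hT.conjS (g : G)
    rw [conjS_mem_eq_self g.2] at this
    exact le_iSup (fun T : {T : Subgroup G // IsSylowOf p T L} => omZ p (T : Subgroup G)) ⟨_, this⟩

theorem pResOf_sup_le [Finite G] [hp : Fact p.Prime] {N C : Subgroup G}
    (hn' : N ≤ Subgroup.normalizer (C : Set G)) (hres : pResOf p N ≤ C) : pResOf p (N ⊔ C) ≤ C := by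
  refine pResOf_le_of_normalized le_sup_right (sup_le hn' Subgroup.le_normalizer) ?_
  intro y hy
  rw [← SetLike.mem_coe, Subgroup.coe_mul_of_left_le_normalizer_right N C hn'] at hy
  obtain ⟨a, ha, b, hb, rfl⟩ := hy
  refine ⟨(orderOf a).factorization p, ?_⟩
  have key : ∀ n : ℕ, (a * b) ^ n * (a ^ n)⁻¹ ∈ C := by
    intro n
    induction n with
    | zero => simp
    | succ n ih =>
      have h3 : a * ((a * b) ^ n * (a ^ n)⁻¹) * a⁻¹ ∈ C :=
        (Subgroup.mem_normalizer_iff.1 (hn' ha) _).1 ih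
      have h4 : (a * b * a⁻¹) ∈ C := (Subgroup.mem_normalizer_iff.1 (hn' ha) _).1 hb
      have e : (a * b) ^ (n + 1) * (a ^ (n + 1))⁻¹ =
          (a * b * a⁻¹) * (a * ((a * b) ^ n * (a ^ n)⁻¹) * a⁻¹) := by
        rw [pow_succ' (a * b), pow_succ' a]; simp [mul_assoc]
      rw [e]; exact mul_mem h4 h3
  have hcop : Nat.Coprime (orderOf (a ^ p ^ (orderOf a).factorization p)) p := by
    rw [orderOf_pow, Nat.gcd_eq_right (Nat.ordProj_dvd _ _)]
    exact (Nat.coprime_ordCompl hp.out (orderOf_pos a).ne').symm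
  have := mul_mem (key (p ^ (orderOf a).factorization p))
    (hres (mem_pResOf_of_coprime (pow_mem ha _) hcop))
  simpa using this

/-- A `p`-group action on `V` normalized by enough of `H` is trivial. -/
theorem RedIn.le_of_normalized [Finite G] [Fact p.Prime] {V H M N : Subgroup G} (h : RedIn p V H)
    (hMH : M ≤ H) (hH : H ≤ M ⊔ Subgroup.centralizer (V : Set G)) (hN : N ≤ H)
    (hn : M ≤ Subgroup.normalizer (N : Set G))
    (hres : pResOf p N ≤ Subgroup.centralizer (V : Set G)) :
    N ≤ Subgroup.centralizer (V : Set G) := by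
  set C := Subgroup.centralizer (V : Set G) with hC
  have hCn : H ⊔ C ≤ Subgroup.normalizer (C : Set G) :=
    sup_le (le_normalizer_centralizer h.normal) Subgroup.le_normalizer
  have h1 : M ⊔ C ≤ Subgroup.normalizer ((N ⊔ C : Subgroup G) : Set G) :=
    sup_le (le_normalizer_sup hn ((hMH.trans le_sup_left).trans hCn))
      (le_sup_right.trans Subgroup.le_normalizer)
  have h2 : H ⊓ (N ⊔ C) ≤ C := by
    refine h.red _ inf_le_left (le_normalizer_inf Subgroup.le_normalizer (hH.trans h1)) ?_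
    exact (pResOf_mono inf_le_right).trans (pResOf_sup_le ((hN.trans le_sup_left).trans hCn) hres)
  exact le_trans (le_inf hN le_sup_left) h2

theorem hch_top {p : ℕ} (h : Subgroup.centralizer (Cfsg.pCore p G : Set G) ≤ Cfsg.pCore p G) :
    (⊤ : Subgroup G) ⊓ Subgroup.centralizer (Cfsg.pCoreOf p (⊤ : Subgroup G) : Set G) ≤
      Cfsg.pCoreOf p (⊤ : Subgroup G) := by
  rwa [top_inf_eq, pCoreOf_top]

/-- If `M ≤ N_G(V)` and `M·C(V) = L·C(V)`, reducedness transfers. -/
theorem RedIn.transfer [Finite G] [hp : Fact p.Prime] {V M L : Subgroup G} (h : RedIn p V M) (hVL : V ≤ L)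
    (hLM : L ≤ M ⊔ Subgroup.centralizer (V : Set G))
    (hML : M ≤ L ⊔ Subgroup.centralizer (V : Set G)) : RedIn p V L := by
  have hLn : L ≤ Subgroup.normalizer (V : Set G) :=
    hLM.trans (sup_le h.normal (Subgroup.centralizer_le_normalizer _))
  refine ⟨hVL, hLn, h.elem, fun N hN hn hres => ?_⟩
  set C := Subgroup.centralizer (V : Set G) with hC
  have hCn : M ⊔ C ≤ Subgroup.normalizer (C : Set G) :=
    le_normalizer_centralizer (sup_le h.normal (Subgroup.centralizer_le_normalizer _))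
  have hNC : M ≤ Subgroup.normalizer (((N ⊔ C : Subgroup G)) : Set G) := by
    refine hML.trans (sup_le (le_normalizer_sup hn (hLM.trans hCn)) ?_)
    exact le_sup_right.trans Subgroup.le_normalizer
  have h1 : M ⊓ (N ⊔ C) ≤ C := by
    refine h.red _ inf_le_left (le_normalizer_inf Subgroup.le_normalizer hNC) ?_
    rw [pResOf_le_iff]
    intro x hx hc
    have hn' : N ≤ Subgroup.normalizer (C : Set G) := hN.trans (hLM.trans hCn)
    have hxNC : x ∈ N ⊔ C := (Subgroup.mem_inf.1 hx).2
    have hres' : pResOf p (N ⊔ C) ≤ C := pResOf_sup_le hn' hres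
    exact hres' (mem_pResOf_of_coprime hxNC hc)
  intro n hn'
  have hnMC : n ∈ M ⊔ C := hLM (hN hn')
  rw [← SetLike.mem_coe, Subgroup.coe_mul_of_left_le_normalizer_right M C (le_sup_left.trans hCn)] at hnMC
  obtain ⟨m, hm, c, hc, hmc⟩ := hnMC
  simp only at hmc
  have hm2 : m ∈ M ⊓ (N ⊔ C) := Subgroup.mem_inf.2 ⟨hm, by
    have : m = n * c⁻¹ := by rw [← hmc]; simp
    rw [this]
    exact mul_mem (Subgroup.mem_sup_left hn') (Subgroup.mem_sup_right (inv_mem hc))⟩
  rw [← hmc]; exact mul_mem (h1 hm2) hc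

end Cfsg.Agent.Lib.LocalEven
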