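import Cfsg.Agent.Lib.LocalEven.Qd
import Cfsg.Agent.Lib.Classical.LinearSimple
import Cfsg.Prelude.Def_LocalEven
import Mathlib.GroupTheory.Perm.ViaEmbedding
import Mathlib.GroupTheory.SpecificGroups.Alternating
import Mathlib.GroupTheory.Sylow

/-!
`Qd(p)` as a permutation group on `p ^ 2` points, and its absence from smaller alternating groups.
-/

set_option autoImplicit false

namespace Cfsg.Agent.Lib.LocalEven.QdPerm

open Matrix Qd

variable {p : ℕ} [hp : Fact p.Prime]

/-- The affine map of an element. -/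
def act (M : Cfsg.qdOver (ZMod p)) (v : Fin 2 → ZMod p) : Fin 2 → ZMod p :=
  (projFun M).1 *ᵥ v + ![M.1.1 0 2, M.1.1 1 2]

theorem act_el (g : SpecialLinearGroup (Fin 2) (ZMod p)) (w v : Fin 2 → ZMod p) :
    act (el g w) v = g.1 *ᵥ v + w := by
  rw [act, projFun_el]
  congr 1
  funext i
  fin_cases i <;> simp [el, aff]

theorem act_one (v : Fin 2 → ZMod p) : act 1 v = v := by
  rw [← el_one, act_el]; simp

theorem act_mul (M N : Cfsg.qdOver (ZMod p)) (v : Fin 2 → ZMod p) :
    act (M * N) v = act M (act N v) := by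
  obtain ⟨g, a, rfl⟩ := el_surj M
  obtain ⟨h, b, rfl⟩ := el_surj N
  rw [el_mul, act_el, act_el, act_el]
  rw [mulVec_add, mulVec_mulVec, add_assoc]
  rfl

/-- The permutation representation. -/
def toPerm : Cfsg.qdOver (ZMod p) →* Equiv.Perm (Fin 2 → ZMod p) where
  toFun M := ⟨act M, act M⁻¹, fun v => by rw [← act_mul, inv_mul_cancel, act_one],
    fun v => by rw [← act_mul, mul_inv_cancel, act_one]⟩
  map_one' := Equiv.ext act_one
  map_mul' M N := Equiv.ext (act_mul M N)

theorem toPerm_injective : Function.Injective (toPerm (p := p)) := by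
  rw [injective_iff_map_eq_one]
  intro M hM
  obtain ⟨g, w, rfl⟩ := el_surj M
  have h : ∀ v, g.1 *ᵥ v + w = v := fun v => (act_el g w v).symm.trans (Equiv.congr_fun hM v)
  have hw : w = 0 := by simpa using h 0
  subst hw
  have hg : g = 1 := Subtype.ext <| Matrix.ext_of_mulVec_single fun j => by
    have h' := h (Pi.single j 1)
    simp only [add_zero] at h'
    refine h'.trans ?_
    exact (one_mulVec _).symm
  rw [hg, el_one]

theorem sign_toPerm (hp2 : p ≠ 2) (M : Cfsg.qdOver (ZMod p)) : Equiv.Perm.sign (toPerm M) = 1 := by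
  have h2 : (2 : ZMod p) ≠ 0 := by
    intro h
    have : ((2 : ℕ) : ZMod p) = 0 := by exact_mod_cast h
    rw [ZMod.natCast_eq_zero_iff] at this
    exact hp2 ((Nat.prime_dvd_prime_iff_eq hp.out Nat.prime_two).mp this)
  let χ : Cfsg.qdOver (ZMod p) →* ℤˣ := Equiv.Perm.sign.comp toPerm
  show χ M = 1
  obtain ⟨g, w, rfl⟩ := el_surj M
  have hw : χ (el 1 w) = 1 := by
    have h' : χ (el 1 w) ^ p = 1 := by
      rw [← map_pow, trans_pow, ZMod.natCast_self, zero_smul, el_one, map_one]
    rcases Int.units_eq_one_or (χ (el 1 w)) with e | e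
    · exact e
    · rw [e, Odd.neg_one_pow (hp.out.odd_of_ne_two hp2)] at h'
      exact absurd h' (by decide)
  let ψ : SpecialLinearGroup (Fin 2) (ZMod p) →* ℤˣ :=
    MonoidHom.mk' (fun h => χ (el h 0)) fun a b => by
      show χ (el (a * b) 0) = χ (el a 0) * χ (el b 0)
      rw [← map_mul, el_mul, mulVec_zero, add_zero]
  have hψ : ψ.ker = ⊤ := Classical.SL_eq_top_of_transvection_mem fun i j hij b => by
    rw [MonoidHom.mem_ker, show b = b / 2 + b / 2 by field_simp; ring, SpecialLinearGroup.transvection_add,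
      map_mul, Int.units_mul_self]
  have hg : χ (el g 0) = 1 := (MonoidHom.mem_ker (f := ψ)).mp (hψ ▸ Subgroup.mem_top g)
  have e : el g w = el 1 w * el g 0 := by
    rw [el_mul, one_mul, mulVec_zero, zero_add]
  rw [e, map_mul, hw, hg, one_mul]

theorem exists_embedding (hp2 : p ≠ 2) {n : ℕ} (hn : p ^ 2 ≤ n) :
    ∃ H : Subgroup (alternatingGroup (Fin n)), Nonempty (↥H ≃* ↥(Cfsg.qd p)) := by
  have hle : Fintype.card (Fin 2 → ZMod p) ≤ Fintype.card (Fin n) := by simpa using hn
  obtain ⟨ι⟩ := Function.Embedding.nonempty_of_card_le hle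
  let f : Cfsg.qdOver (ZMod p) →* Equiv.Perm (Fin n) := (Equiv.Perm.viaEmbeddingHom ι).comp toPerm
  have hf : ∀ M, f M ∈ alternatingGroup (Fin n) := fun M => by
    rw [Equiv.Perm.mem_alternatingGroup]
    show Equiv.Perm.sign ((toPerm M).viaEmbedding ι) = 1
    rw [Equiv.Perm.viaEmbedding, Equiv.Perm.sign_extendDomain, sign_toPerm hp2]
  have hinj : Function.Injective (f.codRestrict _ hf) := fun a b h =>
    toPerm_injective (Equiv.Perm.viaEmbeddingHom_injective ι (congrArg Subtype.val h))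
  exact ⟨(f.codRestrict _ hf).range, ⟨(MonoidHom.ofInjective hinj).symm⟩⟩

/-- A `p`-group of permutations of fewer than `p ^ 2` points is abelian. -/
theorem commute_of_small {n : ℕ} (hn : n < p ^ 2) {P : Subgroup (Equiv.Perm (Fin n))}
    (hP : IsPGroup p P) {a b : Equiv.Perm (Fin n)} (ha : a ∈ P) (hb : b ∈ P) : a * b = b * a := by
  refine Equiv.ext fun x => ?_
  let ρ : P →* Equiv.Perm (MulAction.orbit P x) := MulAction.toPermHom P (MulAction.orbit P x)
  have hO : Nat.card (MulAction.orbit P x) ∣ p := by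
    obtain ⟨j, hj⟩ := hP.card_orbit x
    rw [hj]
    have h1 : p ^ j ≤ n := by
      rw [← hj]
      exact (Nat.card_le_card_of_injective _ Subtype.val_injective).trans_eq (Nat.card_fin n)
    have : j < 2 := (Nat.pow_lt_pow_iff_right hp.out.one_lt).mp (lt_of_le_of_lt h1 hn)
    interval_cases j <;> simp
  have hR : Nat.card ρ.range ∣ p := by
    obtain ⟨j, hj⟩ := IsPGroup.iff_card.mp (hP.of_surjective ρ.rangeRestrict ρ.rangeRestrict_surjective)
    have h1 : p ^ j ∣ (Nat.card (MulAction.orbit P x)).factorial := by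
      rw [← Nat.card_perm, ← hj]
      exact Subgroup.card_subgroup_dvd_card _
    rcases j with _ | _ | j
    · exact ⟨p, by rw [hj, pow_zero, one_mul]⟩
    · exact ⟨1, by rw [hj, zero_add, pow_one, mul_one]⟩
    · exfalso
      have h2 := (dvd_trans (pow_dvd_pow p (by omega : 2 ≤ j + 1 + 1)) h1).trans
        (Nat.factorial_dvd_factorial (Nat.le_of_dvd hp.out.pos hO))
      obtain ⟨m, hm⟩ : ∃ m, p = m + 1 := ⟨p - 1, by have := hp.out.pos; omega⟩
      have h3 : p ∣ m.factorial := by
        rw [hm, Nat.factorial_succ, ← hm, pow_two] at h2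
        exact Nat.dvd_of_mul_dvd_mul_left hp.out.pos h2
      have := (hp.out.dvd_factorial).mp h3
      omega
  have : IsCyclic ρ.range := isCyclic_of_card_dvd_prime hR
  have hcomm := (IsCyclic.commGroup (α := ρ.range)).mul_comm ⟨ρ ⟨a, ha⟩, ⟨a, ha⟩, rfl⟩
    ⟨ρ ⟨b, hb⟩, ⟨b, hb⟩, rfl⟩
  have h := congrArg Subtype.val (Equiv.congr_fun (congrArg Subtype.val hcomm)
    (⟨x, MulAction.mem_orbit_self x⟩ : MulAction.orbit P x))
  exact h

/-- `Qd(p)` is not involved in a small alternating group. -/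
theorem not_surjective {n : ℕ} (hn : n < p ^ 2) (K : Subgroup (alternatingGroup (Fin n)))
    (f : K →* Cfsg.qdOver (ZMod p)) : ¬ Function.Surjective f := by
  intro hf
  have : Finite (Cfsg.qdOver (ZMod p)) := inferInstance
  let t : SpecialLinearGroup (Fin 2) (ZMod p) :=
    SpecialLinearGroup.transvection (show (0 : Fin 2) ≠ 1 by decide) (1 : ZMod p)
  have ht : el t 0 ^ p = 1 := by
    have : ∀ m : ℕ, el t 0 ^ m =
        el (SpecialLinearGroup.transvection (show (0 : Fin 2) ≠ 1 by decide) (m : ZMod p)) 0 := by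
      intro m
      induction m with
      | zero => simp [el_one, SpecialLinearGroup.transvection_coe, ← SpecialLinearGroup.ext_iff]
      | succ m ih =>
        rw [pow_succ, ih, el_mul, mulVec_zero, add_zero, Nat.cast_succ, SpecialLinearGroup.transvection_add]
    rw [this, ZMod.natCast_self]
    have h0 : SpecialLinearGroup.transvection (show (0 : Fin 2) ≠ 1 by decide) (0 : ZMod p) = 1 :=
      Subtype.ext (by simp [SpecialLinearGroup.transvection_coe])
    rw [h0, el_one]
  set e : Fin 2 → ZMod p := Pi.single 1 1 with he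
  let Q : Subgroup (Cfsg.qdOver (ZMod p)) := (proj (F := ZMod p)).ker ⊔ Subgroup.zpowers (el t 0)
  have hQ : IsPGroup p Q := by
    refine IsPGroup.to_sup_of_normal_left isPGroup_ker (fun z => ⟨1, Subtype.ext ?_⟩)
    obtain ⟨i, hi⟩ := Subgroup.mem_zpowers_iff.mp z.2
    show (z : Cfsg.qdOver (ZMod p)) ^ p ^ 1 = 1
    rw [← hi, pow_one, ← zpow_natCast (el t 0 ^ i), ← _root_.zpow_mul, mul_comm, _root_.zpow_mul, zpow_natCast, ht,
      _root_.one_zpow]
  obtain ⟨S, hS⟩ := hQ.exists_le_sylow
  let T : Sylow p K := default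
  obtain ⟨g, hg⟩ := MulAction.exists_smul_eq (Cfsg.qdOver (ZMod p)) (T.mapSurjective hf) S
  have key : ∀ u ∈ (S : Subgroup (Cfsg.qdOver (ZMod p))), ∀ w ∈ (S : Subgroup (Cfsg.qdOver (ZMod p))),
      u * w = w * u := by
    intro u hu w hw
    rw [← hg] at hu hw
    obtain ⟨u', hu', rfl⟩ := hu
    obtain ⟨w', hw', rfl⟩ := hw
    obtain ⟨u'', hu'', rfl⟩ := hu'
    obtain ⟨w'', hw'', rfl⟩ := hw'
    have e : f u'' * f w'' = f w'' * f u'' := by
      rw [← map_mul, ← map_mul]
      congr 1
      refine Subtype.ext (Subtype.ext ?_)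
      let j : K →* Equiv.Perm (Fin n) := (alternatingGroup (Fin n)).subtype.comp K.subtype
      exact commute_of_small hn (P := (T : Subgroup K).map j) (T.isPGroup'.map j) ⟨u'', hu'', rfl⟩
        ⟨w'', hw'', rfl⟩
    show MulAut.conj g (f u'') * MulAut.conj g (f w'') = MulAut.conj g (f w'') * MulAut.conj g (f u'')
    exact ((map_mul (MulAut.conj g) _ _).symm.trans (congrArg (MulAut.conj g) e)).trans (map_mul (MulAut.conj g) _ _)
  have h1 : el 1 e ∈ Q := Subgroup.mem_sup_left (mem_ker_proj_iff.mpr ⟨e, rfl⟩)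
  have h2 : el t 0 ∈ Q := Subgroup.mem_sup_right (Subgroup.mem_zpowers _)
  have h3 := key _ (hS h2) _ (hS h1)
  rw [el_mul, el_mul, mulVec_zero, add_zero, mul_one, one_mul, zero_add] at h3
  have h4 := congrFun (aff_injective (congrArg Subtype.val h3)).2 0
  simp [t, he, SpecialLinearGroup.transvection_coe, Matrix.mulVec, dotProduct, Fin.sum_univ_two,
    Matrix.single] at h4

end Cfsg.Agent.Lib.LocalEven.QdPerm
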