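import Cfsg.Agent.Lib.LocalEven.FrakH
import Cfsg.Agent.Lib.Components.Quasisimple

/-!
A group whose residual modulo a normal subgroup `C` is quasisimple, and the weak closure of a `p`-subgroup
normalized by `C`.
-/

set_option autoImplicit false

open scoped commutatorElement

namespace Cfsg.Agent.Lib.LocalEven

universe u v

variable {G : Type u} [Group G] [Finite G] {p : ℕ} [Fact p.Prime]

theorem map_pResOf {K : Type u} [Group K] (f : G →* K) (H : Subgroup G) :
    (pResOf p H).map f = pResOf p (H.map f) := by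
  have h := map_pResidual_of_surjective (p := p) (f.subgroupMap H) (f.subgroupMap_surjective H)
  rw [pResOf, pResOf, ← h, Subgroup.map_map, Subgroup.map_map]
  rfl

theorem mk_map_eq_bot_iff {C : Subgroup G} [C.Normal] {H : Subgroup G} :
    H.map (QuotientGroup.mk' C) = ⊥ ↔ H ≤ C := by
  rw [Subgroup.map_eq_bot_iff, QuotientGroup.ker_mk']

theorem le_sup_of_map_le {C : Subgroup G} [C.Normal] {A B : Subgroup G}
    (h : A.map (QuotientGroup.mk' C) ≤ B.map (QuotientGroup.mk' C)) : A ≤ B ⊔ C := by
  have := Subgroup.map_le_iff_le_comap.1 h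
  rwa [Subgroup.comap_map_eq, QuotientGroup.ker_mk'] at this

/-- With `O_p(X) = 1` and `O^p(X)` quasisimple, `[O^p(X), Y] = O^p(X)` for every `p`-subgroup `Y ≠ 1`. -/
theorem commutator_residual_eq {X : Type v} [Group X] [Finite X] (hO : Cfsg.pCore p X = ⊥)
    {K : Subgroup X} (hK : K = Cfsg.pResidual p X) (hqs : Cfsg.IsQuasisimple ↥K) {Y : Subgroup X}
    (hY : IsPGroup p Y) (hY1 : Y ≠ ⊥) : ⁅K, Y⁆ = K := by
  have hKn : K.Normal := hK ▸ pResidual_normal p X
  have hle : ⁅K, Y⁆ ≤ K := commutator_le_of_le_normalizer (le_normalizer_of_normal _ _)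
  haveI := hqs.1
  have hperf : ⁅K, K⁆ = K := Subgroup.isPerfect_iff.mp hqs.1
  haveI : (⁅K, Y⁆.subgroupOf K).Normal := subgroupOf_normal_of_le (le_normalizer_commutator_left K Y)
  rcases Components.IsQuasisimple.normal_eq_top_or_le_center hqs (⁅K, Y⁆.subgroupOf K) with h | h
  · exact le_antisymm hle (Subgroup.subgroupOf_eq_top.1 h)
  · exfalso
    refine hY1 ?_
    have h0 : ⁅K, Y⁆ = ⊥ := by
      refine Components.commutator_eq_bot_of_perfect hperf ?_
      rw [Subgroup.commutator_eq_bot_iff_le_centralizer]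
      intro x hx
      rw [Subgroup.mem_centralizer_iff]
      intro y hy
      exact congrArg Subtype.val (Subgroup.mem_center_iff.1 (h (Subgroup.mem_subgroupOf.2
        (show ((⟨x, hle hx⟩ : ↥K) : X) ∈ ⁅K, Y⁆ from hx))) ⟨y, hy⟩)
    have hYC : Y ≤ Subgroup.centralizer (K : Set X) := by
      rwa [Subgroup.commutator_comm, Subgroup.commutator_eq_bot_iff_le_centralizer] at h0
    set Cc := Subgroup.centralizer (K : Set X) with hCc
    haveI : Group.IsNilpotent ↥Cc := by
      haveI : (Cfsg.pResidual p X).Normal := pResidual_normal p X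
      set f := (QuotientGroup.mk' (Cfsg.pResidual p X)).comp Cc.subtype
      haveI : Group.IsNilpotent ↥f.range :=
        ((quotient_pResidual_isPGroup (p := p) (Cfsg.pResidual p X) le_rfl).to_subgroup _).isNilpotent
      refine Subgroup.isNilpotent_of_ker_le_center f.rangeRestrict ?_
      intro c hc
      rw [MonoidHom.ker_rangeRestrict] at hc
      have hcK : (c : X) ∈ K := hK ▸ (QuotientGroup.eq_one_iff (c : X)).1 hc
      rw [Subgroup.mem_center_iff]
      intro d
      exact Subtype.ext (Subgroup.mem_centralizer_iff.1 d.2 c hcK).symm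
    obtain ⟨S, hS⟩ := (hY.comap_subtype (K := Cc)).exists_le_sylow
    haveI : (S : Subgroup ↥Cc).Normal :=
      Sylow.normal_of_normalizerCondition Group.normalizerCondition_of_isNilpotent S
    have h1 : Y ≤ Cfsg.pCoreOf p Cc := (Subgroup.map_subgroupOf_eq_of_le hYC).ge.trans
      (Subgroup.map_mono (hS.trans (le_pCore inferInstance S.isPGroup')))
    have h2 := h1.trans (pCoreOf_le_pCoreOf_of_normalized (L := (⊤ : Subgroup X)) le_top
      (le_normalizer_centralizer (le_normalizer_of_normal _ _)))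
    rwa [pCoreOf_top, hO, le_bot_iff] at h2

variable {C : Subgroup G} [hC : C.Normal] {Q : Subgroup G}

/-- The facts about the residual of the normal closure of `Q`. -/
theorem quasiSection (hQ : IsPGroup p Q) (hQC : ¬ Q ≤ C)
    (hCQ : C ≤ Subgroup.normalizer (Q : Set G))
    (hred : Cfsg.pCore p (G ⧸ C) = ⊥)
    (hqs : Cfsg.IsQuasisimple ↥((Cfsg.pResidual p G ⊔ C).map (QuotientGroup.mk' C)))
    {R : Subgroup G} (hR : R = pResOf p (⨆ g : G, conjS g Q)) :
    Cfsg.pResidual p G ⊔ C = R ⊔ C ∧ ⁅R, R⁆ = R ∧ pResOf p R = R ∧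
      Cfsg.IsQuasisimple (↥R ⧸ C.subgroupOf R) ∧
      (haveI := pCore_normal p ↥R; Cfsg.IsQuasisimple (↥R ⧸ Cfsg.pCore p ↥R)) ∧
      ∀ Y : Subgroup G, IsPGroup p Y → ¬ Y ≤ C → ⁅R, Y⁆ = R := by
  set π := QuotientGroup.mk' C with hπ
  have hsur : Function.Surjective π := QuotientGroup.mk'_surjective C
  set K := Cfsg.pResidual p (G ⧸ C) with hKdef
  have hKmap : (Cfsg.pResidual p G ⊔ C).map π = K := by
    rw [Subgroup.map_sup, map_pResidual_of_surjective π hsur, hπ, mk_map_eq_bot_iff.2 le_rfl, sup_bot_eq]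
  rw [hKmap] at hqs
  set W := ⨆ g : G, conjS g Q with hW
  have hWn : W.Normal := normal_of_conjS_le fun a => by
    rw [hW, show conjS a (⨆ g : G, conjS g Q) = ⨆ g : G, conjS a (conjS g Q) from Subgroup.map_iSup _ _]
    exact iSup_le fun g => by rw [← conjS_mul]; exact le_iSup (fun g : G => conjS g Q) (a * g)
  have hQW : Q ≤ W := (conjS_one Q).ge.trans (le_iSup (fun g : G => conjS g Q) 1)
  have hRW : R ≤ W := hR ▸ pResOf_le _
  have hRn : R.Normal :=
    normal_of_le_normalizer (hR ▸ le_normalizer_pResOf (normal_top_le_normalizer hWn))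
  have hRR : pResOf p R = R := by rw [hR, pResOf_pResOf]
  -- the image of `R` is the residual
  have hmapR : R.map π = K := by
    have hQne : Q.map π ≠ ⊥ := fun e => hQC (mk_map_eq_bot_iff.1 e)
    have hKW : K ≤ W.map π := by
      refine le_of_eq_of_le (commutator_residual_eq hred rfl hqs (hQ.map π) hQne).symm ?_
      haveI := hWn.map π hsur
      exact (Subgroup.commutator_mono le_rfl (Subgroup.map_mono hQW)).trans
        (commutator_le_of_le_normalizer' (le_normalizer_of_normal _ _))
    rw [hR, map_pResOf]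
    refine le_antisymm ((pResOf_mono le_top).trans pResOf_top.le) ?_
    refine le_trans ?_ (pResOf_mono hKW)
    rw [hKdef, ← pResOf_top, pResOf_pResOf]
  -- `C` acts on `W` inside `O_p(C)`
  set P := Cfsg.pCoreOf p C with hP
  have hPn : P.Normal := normal_of_le_normalizer (le_top.trans
    (le_trans (le_of_eq rfl) (show (⊤ : Subgroup G) ≤ Subgroup.normalizer (P : Set G) from by
      rw [le_normalizer_iff_forall]
      intro g _
      rw [hP, conjS_pCoreOf, conjS_normal g C])))
  have hWC : ⁅W, C⁆ ≤ P := by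
    refine commutator_iSup_le (fun g => le_normalizer_of_normal _ _) fun g => ?_
    have hCg : C ≤ Subgroup.normalizer (conjS g Q : Set G) := by
      have := conjS_mono g hCQ
      rwa [conjS_normal g C, conjS_normalizer] at this
    refine (le_inf (commutator_le_of_le_normalizer hCg)
      (commutator_le_of_le_normalizer' (le_normalizer_of_normal _ _))).trans ?_
    exact le_pCoreOf inf_le_right (le_normalizer_inf hCg Subgroup.le_normalizer) (hQ.map _).to_inf_left
  have hKperf : ⁅K, K⁆ = K := Subgroup.isPerfect_iff.mp hqs.1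
  -- `R` is perfect
  have hperf : ⁅R, R⁆ = R := by
    set D := ⁅R, R⁆ with hD
    have hDR : D ≤ R := commutator_le_of_le_normalizer Subgroup.le_normalizer
    haveI : D.Normal := Subgroup.commutator_normal R R
    set q := QuotientGroup.mk' D with hq
    have hRb : R.map q ≤ (R ⊓ C).map q := by
      have h1 : R ≤ D ⊔ C := le_sup_of_map_le (by rw [Subgroup.map_commutator, hmapR, hKperf])
      rintro _ ⟨r, hr, rfl⟩
      have h2 := h1 hr
      rw [← SetLike.mem_coe, Subgroup.mul_normal] at h2
      obtain ⟨d, hd, c, hc, rfl⟩ := Set.mem_mul.1 h2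
      refine ⟨c, Subgroup.mem_inf.2 ⟨?_, hc⟩, ?_⟩
      · have := mul_mem (inv_mem (hDR hd)) hr
        rwa [inv_mul_cancel_left] at this
      · rw [map_mul, show q d = 1 from (QuotientGroup.eq_one_iff d).2 hd, one_mul]
    have hab : ∀ a ∈ R.map q, ∀ b ∈ R.map q, Commute a b := by
      rintro _ ⟨a, ha, rfl⟩ _ ⟨b, hb, rfl⟩
      rw [← commutatorElement_eq_one_iff_commute, ← map_commutatorElement]
      exact (QuotientGroup.eq_one_iff _).2 (Subgroup.commutator_mem_commutator ha hb)
    have hresR : pResOf p (R.map q) = R.map q := by rw [← map_pResOf, hRR]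
    have hcop : ∀ a ∈ R.map q, Nat.Coprime (orderOf a) p := by
      let S : Subgroup (G ⧸ D) :=
        { carrier := {a | a ∈ R.map q ∧ Nat.Coprime (orderOf a) p}
          one_mem' := ⟨one_mem _, by rw [orderOf_one]; exact Nat.coprime_one_left p⟩
          mul_mem' := fun {a b} ha hb => ⟨mul_mem ha.1 hb.1,
            Nat.Coprime.coprime_dvd_left (hab a ha.1 b hb.1).orderOf_mul_dvd_mul_orderOf
              (Nat.Coprime.mul_left ha.2 hb.2)⟩
          inv_mem' := fun {a} ha => ⟨inv_mem ha.1, by rw [orderOf_inv]; exact ha.2⟩ }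
      intro a ha
      have : pResOf p (R.map q) ≤ S := pResOf_le_iff.2 fun x hx hc => ⟨hx, hc⟩
      rw [hresR] at this
      exact (this ha).2
    have hcen : ∀ w ∈ W.map q, ∀ a ∈ R.map q, Commute w a := by
      rintro _ ⟨w, hw, rfl⟩ a ha
      obtain ⟨c, hc, rfl⟩ := hRb ha
      obtain ⟨hcR, hcC⟩ := Subgroup.mem_inf.1 hc
      rw [← commutatorElement_eq_one_iff_commute, ← map_commutatorElement]
      have hmP : ⁅w, c⁆ ∈ P := hWC (Subgroup.commutator_mem_commutator hw hcC)
      have hmR : ⁅w, c⁆ ∈ R :=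
        mul_mem (hRn.conj_mem c hcR w) (inv_mem hcR)
      obtain ⟨k, hk⟩ := pCoreOf_isPGroup C ⟨_, hmP⟩
      refine eq_one_of_coprime_of_pow (k := k) (hcop _ (Subgroup.mem_map_of_mem q hmR)) ?_
      rw [← map_pow, show ⁅w, c⁆ ^ p ^ k = 1 from congrArg Subtype.val hk, map_one]
    obtain ⟨T, hT⟩ := exists_isSylowOf p (W.map q)
    have hWT : R.map q ⊔ T = W.map q := by
      rw [hR, map_pResOf]
      exact pResOf_sup_sylow hT
    have hTn : W.map q ≤ Subgroup.normalizer (T : Set (G ⧸ D)) := by
      refine hWT.ge.trans (sup_le ?_ Subgroup.le_normalizer)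
      refine le_normalizer_of_commutator_le ?_
      refine le_trans (le_of_eq ?_) bot_le
      refine le_centralizer_iff_commutator.1 fun t ht => ?_
      rw [Subgroup.mem_centralizer_iff]
      exact fun a ha => ((hcen t (hT.le ht) a ha).eq).symm
    have hWle : W.map q ≤ T := by
      rw [hW, Subgroup.map_iSup]
      refine iSup_le fun g => ?_
      have hgW : (conjS g Q).map q ≤ W.map q := Subgroup.map_mono (le_iSup (fun g : G => conjS g Q) g)
      obtain ⟨w, hw, hle⟩ := hT.exists_conj_le hgW ((hQ.map _).map _)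
      have hle' := conjS_mono w⁻¹ hle
      rwa [conjS_inv_cancel, conjS_eq_self_iff.2 (hTn (inv_mem hw))] at hle'
    have hbot : R.map q = ⊥ := by
      rw [← hresR]
      exact pResOf_eq_bot_of_isPGroup (hT.isPGroup.to_le ((Subgroup.map_mono hRW).trans hWle))
    exact le_antisymm hDR (mk_map_eq_bot_iff.1 hbot)
  have hmapY : ∀ Y : Subgroup G, IsPGroup p Y → ¬ Y ≤ C → ⁅R, Y⁆ = R := by
    intro Y hY hYC
    set D := ⁅R, Y⁆ with hD
    have hDR : D ≤ R := commutator_le_of_le_normalizer (le_normalizer_of_normal _ _)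
    have h1 : R ≤ D ⊔ C := le_sup_of_map_le (by
      rw [Subgroup.map_commutator, hmapR,
        commutator_residual_eq hred rfl hqs (hY.map π) fun e => hYC (mk_map_eq_bot_iff.1 e)])
    have hRD : R ≤ Subgroup.normalizer (D : Set G) := le_normalizer_commutator_left R Y
    have h2 : R ≤ D ⊔ (C ⊓ R) := by
      intro r hr
      have h := h1 hr
      rw [← SetLike.mem_coe, Subgroup.mul_normal] at h
      obtain ⟨d, hd, c, hc, rfl⟩ := Set.mem_mul.1 h
      refine mul_mem (Subgroup.mem_sup_left hd) (Subgroup.mem_sup_right (Subgroup.mem_inf.2 ⟨hc, ?_⟩))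
      have := mul_mem (inv_mem (hDR hd)) hr
      rwa [inv_mul_cancel_left] at this
    have h3 : R ≤ D ⊔ (P ⊓ R) := by
      refine hperf.ge.trans ((Subgroup.commutator_mono h2 le_rfl).trans ?_)
      have hn : R ≤ Subgroup.normalizer ((D ⊔ (P ⊓ R) : Subgroup G) : Set G) :=
        le_normalizer_sup hRD (le_normalizer_inf (le_normalizer_of_normal _ _) Subgroup.le_normalizer)
      refine commutator_sup_le (hDR.trans hn) (inf_le_right.trans hn) ?_ ?_
      · exact (commutator_le_of_le_normalizer hRD).trans le_sup_left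
      · refine le_trans (le_inf ?_ ?_) le_sup_right
        · rw [Subgroup.commutator_comm]
          exact (Subgroup.commutator_mono hRW inf_le_left).trans hWC
        · exact (Subgroup.commutator_mono inf_le_right le_rfl).trans
            (commutator_le_of_le_normalizer Subgroup.le_normalizer)
    have h4 := pResOf_le_of_sup_isPGroup (H := R) hRD ((pCoreOf_isPGroup C).to_inf_left : IsPGroup p ↥(P ⊓ R))
      (le_antisymm (sup_le hDR inf_le_right) h3)
    rw [hRR] at h4
    exact le_antisymm hDR h4
  -- the two sections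
  have hp1 : Group.IsPerfect ↥R := Subgroup.isPerfect_iff.mpr hperf
  have e1 : Cfsg.IsQuasisimple (↥R ⧸ C.subgroupOf R) := by
    haveI := subgroupOf_normal_of_le (le_normalizer_of_normal R C)
    have hk : C.subgroupOf R = (π.subgroupMap R).ker := by
      ext x
      rw [MonoidHom.mem_ker, Subtype.ext_iff]
      exact (QuotientGroup.eq_one_iff (x : G)).symm
    exact Components.IsQuasisimple.of_mulEquiv
      (((QuotientGroup.quotientMulEquivOfEq hk).trans
        (QuotientGroup.quotientKerEquivOfSurjective _ (π.subgroupMap_surjective R))).trans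
        (MulEquiv.subgroupCongr hmapR)).symm hqs
  refine ⟨?_, hperf, hRR, e1, ?_, hmapY⟩
  · refine le_antisymm (sup_le (le_sup_of_map_le ?_) le_sup_right) (sup_le ?_ le_sup_right)
    · rw [map_pResidual_of_surjective π hsur, hmapR]
    · refine le_trans ?_ le_sup_left
      rw [hR, ← pResOf_top]
      exact pResOf_mono le_top
  · haveI := pCore_normal p ↥R
    haveI := subgroupOf_normal_of_le (le_normalizer_of_normal R C)
    set f := QuotientGroup.mk' (Cfsg.pCore p ↥R)
    haveI : Group.IsPerfect (↥R ⧸ Cfsg.pCore p ↥R) :=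
      Group.IsPerfect.ofSurjective (f := f) (QuotientGroup.mk'_surjective _)
    have hcore : Cfsg.pCore p ↥R ≤ C.subgroupOf R := by
      intro x hx
      have h1 : (x : G) ∈ Cfsg.pCore p G := by
        rw [← pCoreOf_top]
        exact pCoreOf_le_pCoreOf_of_normalized le_top (le_normalizer_of_normal _ _) ⟨x, hx, rfl⟩
      have h2 := map_pCore_le_of_surjective π hsur (Subgroup.mem_map_of_mem π h1)
      rw [hred, Subgroup.mem_bot] at h2
      exact Subgroup.mem_subgroupOf.2 ((QuotientGroup.eq_one_iff _).1 h2)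
    haveI : ((C.subgroupOf R).map f).Normal :=
      Subgroup.Normal.map inferInstance f (QuotientGroup.mk'_surjective _)
    refine Components.isQuasisimple_of_quotient (N := (C.subgroupOf R).map f) ?_ ?_
    · rintro _ ⟨c, hc, rfl⟩
      rw [Subgroup.mem_center_iff]
      intro y
      obtain ⟨r, rfl⟩ := QuotientGroup.mk'_surjective _ y
      rw [← commutatorElement_eq_one_iff_mul_comm, ← map_commutatorElement]
      refine (QuotientGroup.eq_one_iff _).2 ?_
      have hm : ((⁅r, c⁆ : ↥R) : G) ∈ R ⊓ P := Subgroup.mem_inf.2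
        ⟨(⁅r, c⁆ : ↥R).2, hWC (Subgroup.commutator_mem_commutator (hRW r.2) hc)⟩
      have hle : R ⊓ P ≤ Cfsg.pCoreOf p R := le_pCoreOf inf_le_left
        (le_normalizer_inf Subgroup.le_normalizer (le_normalizer_of_normal _ _))
        (pCoreOf_isPGroup C).to_inf_right
      obtain ⟨z, hz, hzx⟩ := hle hm
      exact (Subtype.ext hzx : z = ⁅r, c⁆) ▸ hz
    · exact Components.IsQuasisimple.of_mulEquiv
        (QuotientGroup.quotientQuotientEquivQuotient (Cfsg.pCore p ↥R) (C.subgroupOf R) hcore).symm e1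

end Cfsg.Agent.Lib.LocalEven
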