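import Cfsg.Agent.Lib.Chev.Tw.G2

/-!
Two commuting involutions of a Ree group and the two-part of its order.
-/

set_option autoImplicit false
set_option maxRecDepth 100000

namespace Cfsg.Agent.Lib.LocalEven.Ree

open Cfsg.Lie Cfsg.Agent.Lib.Chev Cfsg.Agent.Lib.Chev.Tw Cfsg.Agent.Lib.Chev.Tw.G2

theorem nl_sq_word : chkWordMod chevG2 tabG2 3
    ((([8, 10] : List ℕ).map fun i => nw chevG2 i).flatten ++
      (([8, 10] : List ℕ).map fun i => nw chevG2 i).flatten) [] = true := by
  decide +kernel

theorem ree_facts {K : Type*} [Field K] [Fintype K] {m : ℕ} (hK : Fintype.card K = 3 ^ (2 * m + 1)) :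
    ¬ 16 ∣ Nat.card ↥(twistedG2 K (3 ^ m)) ∧
      ∃ s t : ↥(twistedG2 K (3 ^ m)), s * s = 1 ∧ t * t = 1 ∧ s * t = t * s ∧ s ≠ 1 ∧ t ≠ 1 ∧ s ≠ t := by
  obtain ⟨A⟩ := exists_par hK
  refine ⟨?_, ?_⟩
  · rw [card_group A]
    intro h
    obtain ⟨k, hk⟩ : ∃ k, (3 : ℕ) ^ (2 * m + 1) = 8 * k + 3 := by
      refine ⟨3 ^ (2 * m + 1) / 8, ?_⟩
      have h8 : (3 : ℕ) ^ (2 * m + 1) % 8 = 3 := by
        rw [pow_succ, pow_mul, Nat.mul_mod, Nat.pow_mod]
        norm_num
      omega
    rw [hk] at h
    have e : (8 * k + 3) ^ 3 * (8 * k + 3 - 1) * ((8 * k + 3) ^ 3 + 1) =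
        8 * (2 * (64 * k ^ 3 + 72 * k ^ 2 + 27 * k + 3) + 1) * ((4 * k + 1) * (8 * k + 3) ^ 3) := by
      rw [show 8 * k + 3 - 1 = 2 * (4 * k + 1) by omega]
      ring
    rw [e, mul_assoc, show (16 : ℕ) = 8 * 2 from rfl] at h
    have h3 := Nat.dvd_iff_mod_eq_zero.1 (Nat.dvd_of_mul_dvd_mul_left (by norm_num) h)
    rw [Nat.mul_mod, Nat.mul_mod (4 * k + 1), Nat.pow_mod] at h3
    norm_num [Nat.add_mod, Nat.mul_mod] at h3
  · have hn : (sys A).G.nl K (twG2.blk 0) =
        (sys A).G.wordG (castWord K (([8, 10] : List ℕ).map fun i => nw chevG2 i).flatten) := by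
      rw [(sys A).nl_eq_word (blk_isW A), show twG2.blk 0 = [0, 1, 0, 1, 0, 1] from rfl]
      exact (Good'.wordMat_eq_mod (sys A).G (cast3 A) nl_word).symm
    set n := (sys A).G.nl K (twG2.blk 0) with hn0
    have hn2 : n * n = 1 := by
      rw [hn, ← (sys A).G.wordG_append, castWord, ← List.map_append]
      exact (Good'.wordMat_eq_mod (sys A).G (cast3 A) nl_sq_word).trans (by simp [castWord, Good.wordG])
    set h := (sys A).G.torHom K (par A (-1)) with hh
    have hd := (diag_eq A h).2 ⟨-1, rfl⟩
    have hnd : n ∉ chevG2.diagonalSubgroup K := by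
      intro hm
      have e := (sys A).G.act_unique (act0 A) ((sys A).G.act_diag hm) (r := 7) (by decide)
      rw [(top_chk.2.2.2.2.2 7 (by norm_num)).1] at e
      revert e
      decide
    have h3 : (-1 : K) ≠ 1 := by
      intro e
      have h2 : (2 : K) = 0 := by linear_combination -e
      have : (1 : K) = 0 := by linear_combination A.h3 - h2
      exact one_ne_zero this
    have hsq : h * h = 1 := by
      rw [hh, ← map_mul]
      have : par A (-1) * par A (-1) = 1 := by
        funext j
        obtain ⟨j, hj⟩ := j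
        have h4 : chevG2.rank = 2 := rfl
        match j, hj with
        | 0, _ => show phu A (-1) * phu A (-1) = 1; rw [← map_mul]; simp
        | 1, _ => show (-1 : Kˣ) * -1 = 1; simp
        | k + 2, h => omega
      rw [this, map_one]
    have hone : ∀ t : Kˣ, (sys A).G.torHom K (par A t) = 1 → t = 1 := by
      intro t e
      have hp1 : (1 : ℕ) < chevG2.rank := by decide
      exact congrFun (torHom_inj A (e.trans (map_one _).symm)) ⟨1, hp1⟩
    have hne1 : h ≠ 1 := fun e => h3 (congrArg Units.val (hone _ e))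
    have hc : n * h = h * n := by
      have hm : n * h * n⁻¹ ∈ chevG2.diagonalSubgroup K ⊓ G1 K m :=
        ⟨(Subgroup.mem_normalizer_iff.1 ((sys A).G.monomial_le_normalizer
            ((sys A).G.nl_mem_monomial (blk_isW A))) h).1 hd.1,
          (G1 K m).mul_mem ((G1 K m).mul_mem (n_mem A) hd.2) ((G1 K m).inv_mem (n_mem A))⟩
      obtain ⟨t, ht⟩ := (diag_eq A _).1 hm
      have ht2 : t * t = 1 := by
        refine hone _ ?_
        have e : par A (t * t) = par A t * par A t := by
          funext j
          obtain ⟨j, hj⟩ := j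
          have h4 : chevG2.rank = 2 := rfl
          match j, hj with
          | 0, _ => show phu A (t * t) = phu A t * phu A t; exact map_mul _ _ _
          | 1, _ => rfl
          | k + 2, h => omega
        rw [e, map_mul, ← ht, conj_mul, hsq, mul_one, mul_inv_cancel]
      rcases mul_self_eq_one_iff.1 (show (t : K) * t = 1 from congrArg Units.val ht2) with e | e
      · exfalso
        have e1 : t = 1 := Units.ext e
        rw [e1] at ht
        have e2 : par A (1 : Kˣ) = 1 := by
          funext j
          obtain ⟨j, hj⟩ := j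
          have h4 : chevG2.rank = 2 := rfl
          match j, hj with
          | 0, _ => show phu A 1 = 1; exact map_one _
          | 1, _ => rfl
          | k + 2, h => omega
        rw [e2, map_one, conj_eq_one_iff] at ht
        exact hne1 ht
      · have e1 : t = -1 := Units.ext e
        rw [e1, ← hh] at ht
        exact mul_inv_eq_iff_eq_mul.1 ht
    refine ⟨⟨n, n_mem A⟩, ⟨h, hd.2⟩, Subtype.ext hn2, Subtype.ext hsq, Subtype.ext hc,
      fun e => hnd (by rw [show n = 1 from congrArg Subtype.val e]; exact one_mem _),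
      fun e => hne1 (congrArg Subtype.val e),
      fun e => hnd (by rw [show n = h from congrArg Subtype.val e]; exact hd.1)⟩

end Cfsg.Agent.Lib.LocalEven.Ree
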