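import Cfsg.Agent.Lib.LocalEven.Kieler
import Cfsg.Agent.Lib.LocalEven.Subnormal
import Cfsg.Agent.Lib.LocalEven.Residual
import Cfsg.Agent.Lib.Solvable.Gaschuetz
import Cfsg.Agent.Lib.Cores.Frattini
import Cfsg.Agent.Lib.Subnormal.Join
import Cfsg.Agent.Lib.Components.Fitting

/-!
Wielandt: a Sylow subgroup of a join of subnormal subgroups is generated by its intersections.
-/

set_option autoImplicit false

open scoped commutatorElement

namespace Cfsg.Agent.Lib.LocalEven

universe u

/-- `N` is a minimal subgroup among those nontrivial, normalized by `M`. -/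
def IsMinNormalized {G : Type u} [Group G] (M N : Subgroup G) : Prop :=
  N ≠ ⊥ ∧ M ≤ Subgroup.normalizer (N : Set G) ∧
    ∀ R : Subgroup G, R ≤ N → M ≤ Subgroup.normalizer (R : Set G) → R = ⊥ ∨ R = N

theorem exists_isMinNormalized {G : Type u} [Group G] [Finite G] {M N : Subgroup G} (hne : N ≠ ⊥)
    (hn : M ≤ Subgroup.normalizer (N : Set G)) : ∃ S, S ≤ N ∧ IsMinNormalized M S := by
  classical
  have hex : ∃ n, ∃ S : Subgroup G, Nat.card S = n ∧ S ≤ N ∧ S ≠ ⊥ ∧ M ≤ Subgroup.normalizer (S : Set G) :=
    ⟨_, N, rfl, le_rfl, hne, hn⟩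
  obtain ⟨S, hc, hSN, hS1, hSM⟩ := Nat.find_spec hex
  refine ⟨S, hSN, hS1, hSM, fun R hR hRM => or_iff_not_imp_left.2 fun hR1 => ?_⟩
  exact Subgroup.eq_of_le_of_card_ge hR (hc.le.trans (Nat.find_min' hex ⟨R, rfl, hR.trans hSN, hR1, hRM⟩))

theorem minNormal_le_normalizer_aux (n : ℕ) : ∀ (G : Type u) [Group G] [Finite G], Nat.card G ≤ n →
    ∀ N A : Subgroup G, IsMinNormalized ⊤ N → A.IsSubnormal → N ≤ Subgroup.normalizer (A : Set G) := by
  induction n with
  | zero => intro G _ _ h; exact absurd h (by have := Nat.card_pos (α := G); omega)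
  | succ n ih =>
    intro G _ _ hcard N A ⟨hN1, hNn, hNmin⟩ hA
    haveI hNnorm : N.Normal := normal_of_le_normalizer hNn
    rcases hA.lt_normal with rfl | ⟨M, hM, hAM, hlt⟩
    · exact le_trans le_top Subgroup.le_normalizer
    haveI := hM
    rcases hNmin (N ⊓ M) inf_le_left (le_normalizer_of_normal ⊤ (N ⊓ M)) with h | h
    · have h1 : ⁅N, A⁆ = ⊥ := le_bot_iff.1 (h ▸ le_inf
        (commutator_le_of_le_normalizer (le_normalizer_of_normal A N))
        ((Subgroup.commutator_mono le_rfl hAM).trans (commutator_le_of_le_normalizer' (le_normalizer_of_normal N M))))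
      exact (le_centralizer_iff_commutator.2 h1).trans (Subgroup.centralizer_le_normalizer _)
    · have hNM : N ≤ M := h ▸ inf_le_right
      have hMc : Nat.card M ≤ n := by
        have : Nat.card M < Nat.card G := by
          rcases Nat.lt_or_ge (Nat.card M) (Nat.card G) with h | h
          · exact h
          · exact absurd (Subgroup.eq_top_of_le_card M h) hlt.ne
        omega
      set 𝒮 := {S : Subgroup G | S ≤ N ∧ IsMinNormalized M S} with h𝒮
      have hinv : ∀ g : G, ∀ S ∈ 𝒮, conjS g S ∈ 𝒮 := by
        rintro g S ⟨hSN, hS1, hSM, hSmin⟩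
        refine ⟨(conjS_mono g hSN).trans_eq (conjS_normal g N), fun h0 => hS1 ?_, ?_, fun R hR hRM => ?_⟩
        · rw [← conjS_inv_cancel g S, h0]; exact Subgroup.map_bot _
        · rw [← conjS_normal g M, ← conjS_normalizer]; exact conjS_mono g hSM
        · have h2 : M ≤ Subgroup.normalizer ((conjS g⁻¹ R : Subgroup G) : Set G) := by
            rw [← conjS_normal g⁻¹ M, ← conjS_normalizer]; exact conjS_mono _ hRM
          rcases hSmin (conjS g⁻¹ R) (by rw [← conjS_inv_cancel g S]; exact conjS_mono _ hR) h2 with h3 | h3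
          · left; rw [← conjS_cancel_inv g R, h3]; exact Subgroup.map_bot _
          · right; rw [← conjS_cancel_inv g R, h3]
      have hsup : sSup 𝒮 = N := by
        have hn' : (sSup 𝒮).Normal := normal_of_conjS_le fun g => by
          rw [conjS, (Subgroup.gc_map_comap _).l_sSup]
          exact iSup₂_le fun S hS => le_sSup (hinv g S hS)
        rcases hNmin (sSup 𝒮) (sSup_le fun S hS => hS.1) (normal_top_le_normalizer hn') with h0 | h0
        · obtain ⟨S, hSN, hS⟩ := exists_isMinNormalized hN1 (le_normalizer_of_normal M N)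
          exact absurd (le_bot_iff.1 ((le_sSup (show S ∈ 𝒮 from ⟨hSN, hS⟩)).trans h0.le)) hS.1
        · exact h0
      rw [← hsup]
      refine sSup_le fun S hS => ?_
      obtain ⟨hSN, hS1, hSM, hSmin⟩ := hS
      have hSM' : S ≤ M := hSN.trans hNM
      have h1 : IsMinNormalized (⊤ : Subgroup ↥M) (S.subgroupOf M) := by
        refine ⟨fun h0 => hS1 ?_, normal_top_le_normalizer (subgroupOf_normal_of_le hSM), fun R hR hRn => ?_⟩
        · rw [← Subgroup.map_subgroupOf_eq_of_le hSM', h0, Subgroup.map_bot]
        · haveI := normal_of_le_normalizer hRn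
          rcases hSmin (R.map M.subtype) ((Subgroup.map_mono hR).trans (Subgroup.map_comap_le _ _))
            (map_subtype_le_normalizer R) with h3 | h3
          · exact Or.inl ((Subgroup.map_eq_bot_iff_of_injective _ M.subtype_injective).1 h3)
          · right
            rw [← h3]
            exact (Subgroup.comap_map_eq_self_of_injective M.subtype_injective R).symm
      have h2 := ih ↥M hMc (S.subgroupOf M) (A.subgroupOf M) h1 hA.subgroupOf
      rw [← Subgroup.map_subgroupOf_eq_of_le hSM', ← Subgroup.map_subgroupOf_eq_of_le hAM]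
      exact (Subgroup.map_mono h2).trans (Subgroup.le_normalizer_map M.subtype)

/-- A minimal normal subgroup normalizes every subnormal subgroup. -/
theorem minNormal_le_normalizer {G : Type u} [Group G] [Finite G] {N A : Subgroup G}
    (hN : IsMinNormalized ⊤ N) (hA : A.IsSubnormal) : N ≤ Subgroup.normalizer (A : Set G) :=
  minNormal_le_normalizer_aux (Nat.card G) G le_rfl N A hN hA

variable {G : Type u} [Group G] [Finite G] {p : ℕ} [hp : Fact p.Prime]

/-- Images of Sylow intersections with subnormal subgroups. -/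
theorem map_inf_subnormal {K : Type u} [Group K] [Finite K] (f : G →* K) (hf : Function.Surjective f)
    (T : Sylow p G) {B : Subgroup G} (hB : B.IsSubnormal) :
    ((T : Subgroup G) ⊓ B).map f = (T : Subgroup G).map f ⊓ B.map f := by
  refine le_antisymm (Subgroup.map_inf_le _ _ _) ?_
  obtain ⟨P, hP⟩ := ((isSylowOf_top T).inf_subnormal hB).exists_sylow
  let g : ↥B →* ↥(B.map f) := (f.subgroupMap B)
  have hg : Function.Surjective g := f.subgroupMap_surjective B
  let Q := P.mapSurjective hg
  have h1 : (((T : Subgroup G).map f ⊓ B.map f).subgroupOf (B.map f)) = (Q : Subgroup ↥(B.map f)) := by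
    refine Q.is_maximal' ((T.isPGroup'.map f).to_le inf_le_left).comap_subtype ?_
    rw [Sylow.coe_mapSurjective]
    rintro _ ⟨x, hx, rfl⟩
    rw [Subgroup.mem_subgroupOf]
    refine ⟨⟨(x : G), ?_, rfl⟩, Subgroup.mem_map_of_mem f x.2⟩
    have : (x : G) ∈ (T : Subgroup G) ⊓ B := hP ▸ Subgroup.mem_map_of_mem B.subtype hx
    exact (Subgroup.mem_inf.1 this).1
  rw [← Subgroup.map_subgroupOf_eq_of_le (inf_le_right : (T : Subgroup G).map f ⊓ B.map f ≤ B.map f), h1,
    Sylow.coe_mapSurjective, ← hP, Subgroup.map_map, Subgroup.map_map]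
  exact le_of_eq rfl

theorem mem_inf_of_sylow_image {K : Type u} [Group K] [Finite K] (f : G →* K) (hf : Function.Surjective f)
    (T : Sylow p G) {B : Subgroup G} (hB : B.IsSubnormal) (htop : B.map f = ⊤) :
    (T : Subgroup G) ≤ ((T : Subgroup G) ⊓ B) ⊔ f.ker := by
  have h := map_inf_subnormal f hf T hB
  rw [htop, inf_top_eq] at h
  rw [← Subgroup.comap_map_eq, h]
  exact Subgroup.le_comap_map f _

theorem inf_center_le_frattini {X : Type u} [Group X] [Finite X] :
    commutator X ⊓ Subgroup.center X ≤ frattini X := by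
  simp only [frattini, Order.radical, le_iInf_iff]
  intro M hM
  rintro z ⟨hzc, hzZ⟩
  by_contra hzM
  have hsup : M ⊔ Subgroup.center X = ⊤ := hM.2 _ (lt_of_le_of_ne le_sup_left fun h =>
    hzM (h ▸ Subgroup.mem_sup_right hzZ))
  haveI hMn : M.Normal := normal_of_le_normalizer (by
    rw [← hsup]; exact sup_le Subgroup.le_normalizer
      ((Subgroup.center_le_centralizer _).trans (Subgroup.centralizer_le_normalizer _)))
  have hcomm : commutator X ≤ M := by
    refine Subgroup.Normal.commutator_le_of_self_sup_commutative_eq_top (N := M) (H := Subgroup.center X) hsup inferInstance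
  exact hzM (hcomm hzc)

theorem sylow_sup_aux (n : ℕ) : ∀ (G : Type u) [Group G] [Finite G], Nat.card G ≤ n →
    ∀ A B : Subgroup G, A.IsSubnormal → B.IsSubnormal → A ⊔ B = ⊤ → ∀ (p : ℕ) [Fact p.Prime] (T : Sylow p G),
      ((T : Subgroup G) ⊓ A) ⊔ ((T : Subgroup G) ⊓ B) = (T : Subgroup G) := by
  induction n with
  | zero => intro G _ _ h; exact absurd h (by have := Nat.card_pos (α := G); omega)
  | succ n ih =>
    intro G _ _ hcard A B hA hB hAB p _ T
    set U := ((T : Subgroup G) ⊓ A) ⊔ ((T : Subgroup G) ⊓ B) with hU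
    refine le_antisymm (sup_le inf_le_left inf_le_left) ?_
    by_cases htriv : (⊤ : Subgroup G) = ⊥
    · exact le_trans le_top (htriv.le.trans bot_le)
    obtain ⟨N, -, hN⟩ := exists_isMinNormalized (N := (⊤ : Subgroup G)) (M := ⊤) htriv Subgroup.le_normalizer
    obtain ⟨hN1, hNn, hNmin⟩ := id hN
    haveI hNnorm : N.Normal := normal_of_le_normalizer hNn
    have hNcard : Nat.card (G ⧸ N) ≤ n := by
      have h1 := Subgroup.card_eq_card_quotient_mul_card_subgroup N
      have h2 : 2 ≤ Nat.card N := by
        have h0 : Nat.card N ≠ 1 := fun h => hN1 (Subgroup.eq_bot_of_card_eq N h)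
        have := Nat.card_pos (α := N)
        omega
      have : 0 < Nat.card (G ⧸ N) := Nat.card_pos
      nlinarith
    set f := QuotientGroup.mk' N with hf
    have hfs : Function.Surjective f := QuotientGroup.mk'_surjective N
    have hquot : ∀ (r : ℕ) [Fact r.Prime] (R : Sylow r G),
        (R : Subgroup G) ≤ (((R : Subgroup G) ⊓ A) ⊔ ((R : Subgroup G) ⊓ B)) ⊔ N := by
      intro r _ R
      have h := ih (G ⧸ N) hNcard (A.map f) (B.map f) (hA.map hfs) (hB.map hfs)
        (by rw [← Subgroup.map_sup, hAB, Subgroup.map_top_of_surjective _ hfs]) r (R.mapSurjective hfs)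
      rw [Sylow.coe_mapSurjective, ← map_inf_subnormal f hfs R hA, ← map_inf_subnormal f hfs R hB,
        ← Subgroup.map_sup] at h
      have h2 := congrArg (Subgroup.comap f) h
      rw [Subgroup.comap_map_eq, hf, QuotientGroup.ker_mk'] at h2
      rw [h2]; exact Subgroup.le_comap_map _ _
    suffices hTN : (T : Subgroup G) ⊓ N ≤ U by
      intro x hx
      have h1 : x ∈ ((U ⊔ N : Subgroup G) : Set G) := hquot p T hx
      rw [Subgroup.mul_normal] at h1
      obtain ⟨u, hu, m, hm, rfl⟩ := h1
      have huT : u ∈ (T : Subgroup G) := (sup_le inf_le_left inf_le_left : U ≤ _) hu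
      exact mul_mem hu (hTN (Subgroup.mem_inf.2 ⟨by simpa using mul_mem (inv_mem huT) hx, hm⟩))
    have hNA := minNormal_le_normalizer hN hA
    have hNB := minNormal_le_normalizer hN hB
    set X := (N ⊓ A) ⊔ (N ⊓ B) with hX
    have hXnorm : ∀ C D : Subgroup G, C.IsSubnormal → N ≤ Subgroup.normalizer (C : Set G) →
        C ≤ Subgroup.normalizer (((N ⊓ C) ⊔ (N ⊓ D) : Subgroup G) : Set G) := by
      intro C D _ hNC
      rw [le_normalizer_iff_forall]
      intro c hc
      refine Subgroup.eq_of_le_of_card_ge ?_ (card_conjS c _).ge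
      rw [conjS_sup, conjS_inf c N C, conjS_normal, conjS_mem_eq_self hc]
      refine sup_le le_sup_left fun x hx => ?_
      rw [mem_conjS] at hx
      obtain ⟨hxN, hxD⟩ := Subgroup.mem_inf.1 hx
      have h1 : ⁅c, c⁻¹ * x * c⁆ ∈ N ⊓ C := by
        refine Subgroup.mem_inf.2 ⟨?_, ?_⟩
        · exact (commutator_le_of_le_normalizer' (le_normalizer_of_normal C N))
            (Subgroup.commutator_mem_commutator hc hxN)
        · exact (commutator_le_of_le_normalizer hNC) (Subgroup.commutator_mem_commutator hc hxN)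
      have : x = ⁅c, c⁻¹ * x * c⁆ * (c⁻¹ * x * c) := by simp [commutatorElement_def, mul_assoc]
      rw [this]
      exact mul_mem (Subgroup.mem_sup_left h1) (Subgroup.mem_sup_right hx)
    haveI hXn : X.Normal := normal_of_le_normalizer (by
      rw [← hAB]
      exact sup_le (hXnorm A B hA hNA) (by rw [hX, sup_comm (N ⊓ A)]; exact hXnorm B A hB hNB))
    rcases hNmin X (sup_le inf_le_left inf_le_left) (normal_top_le_normalizer hXn) with hXb | hXN
    swap
    · -- `N` is the product of `N ⊓ A` and `N ⊓ B`
      obtain ⟨P, hP⟩ := ((isSylowOf_top T).inf_subnormal hNnorm.isSubnormal).exists_sylow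
      set A' := (N ⊓ A).subgroupOf N with hA'
      haveI : A'.Normal := subgroupOf_normal_of_le (le_normalizer_inf Subgroup.le_normalizer hNA)
      set B' := (N ⊓ B).subgroupOf N with hB'
      haveI hB'n : B'.Normal := subgroupOf_normal_of_le (le_normalizer_inf Subgroup.le_normalizer hNB)
      have htop : B'.map (QuotientGroup.mk' A') = ⊤ := by
        have h1 : A' ⊔ B' = ⊤ := by
          rw [← Subgroup.subgroupOf_sup inf_le_left inf_le_left, ← hX, hXN, Subgroup.subgroupOf_self]
        rw [← Subgroup.map_top_of_surjective (QuotientGroup.mk' A') (QuotientGroup.mk'_surjective A'), ← h1,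
          Subgroup.map_sup, (Subgroup.map_eq_bot_iff _).2 (QuotientGroup.ker_mk' A').ge, bot_sup_eq]
      have h2 := mem_inf_of_sylow_image (QuotientGroup.mk' A') (QuotientGroup.mk'_surjective A') P hB'n.isSubnormal htop
      rw [QuotientGroup.ker_mk'] at h2
      rw [← hP]
      rintro _ ⟨x, hx, rfl⟩
      have hxT : (x : G) ∈ (T : Subgroup G) := (Subgroup.mem_inf.1 (hP ▸ Subgroup.mem_map_of_mem N.subtype hx)).1
      have h3 : x ∈ ((((P : Subgroup ↥N) ⊓ B') ⊔ A' : Subgroup ↥N) : Set ↥N) := h2 hx
      rw [Subgroup.mul_normal] at h3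
      obtain ⟨t, ht, a, ha, rfl⟩ := h3
      have htT : (t : G) ∈ (T : Subgroup G) :=
        (Subgroup.mem_inf.1 (hP ▸ Subgroup.mem_map_of_mem N.subtype (Subgroup.mem_inf.1 ht).1)).1
      have haT : (a : G) ∈ (T : Subgroup G) := by simpa using mul_mem (inv_mem htT) hxT
      exact mul_mem (Subgroup.mem_sup_right ⟨htT, (Subgroup.mem_inf.1 (Subgroup.mem_subgroupOf.1 (Subgroup.mem_inf.1 ht).2)).2⟩)
        (Subgroup.mem_sup_left ⟨haT, (Subgroup.mem_inf.1 (Subgroup.mem_subgroupOf.1 ha)).2⟩)
    · -- `N` is central of prime order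
      have hcA : ∀ C : Subgroup G, N ⊓ C = ⊥ → N ≤ Subgroup.normalizer (C : Set G) →
          C ≤ Subgroup.centralizer (N : Set G) := by
        intro C hC hNC
        rw [Subgroup.le_centralizer_iff, le_centralizer_iff_commutator, ← le_bot_iff, ← hC]
        exact le_inf (commutator_le_of_le_normalizer (le_normalizer_of_normal C N))
          (commutator_le_of_le_normalizer' hNC)
      have hNZ : N ≤ Subgroup.center G := by
        rw [← Subgroup.centralizer_univ, ← Subgroup.coe_top, Subgroup.le_centralizer_iff, ← hAB]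
        exact sup_le (hcA A (le_bot_iff.1 (le_sup_left.trans hXb.le)) hNA)
          (hcA B (le_bot_iff.1 (le_sup_right.trans hXb.le)) hNB)
      have hcyc : ∀ y ∈ N, y ≠ 1 → Subgroup.zpowers y = N := by
        intro y hy hy1
        rcases hNmin (Subgroup.zpowers y) (Subgroup.zpowers_le.2 hy)
          (normal_top_le_normalizer ⟨fun z hz g => by
            rw [Subgroup.mem_center_iff.1 (hNZ ((Subgroup.zpowers_le.2 hy) hz)) g, mul_inv_cancel_right]; exact hz⟩) with h | h
        · exact absurd (Subgroup.zpowers_eq_bot.1 h) hy1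
        · exact h
      by_cases hTN : (T : Subgroup G) ⊓ N = ⊥
      · rw [hTN]; exact bot_le
      obtain ⟨y, hyTN, hy1⟩ : ∃ y ∈ (T : Subgroup G) ⊓ N, y ≠ 1 := by
        by_contra h; push Not at h; exact hTN ((Subgroup.eq_bot_iff_forall _).2 h)
      have hNT : N ≤ (T : Subgroup G) := (hcyc y hyTN.2 hy1).symm.le.trans (Subgroup.zpowers_le.2 hyTN.1)
      have hNp : IsPGroup p N := T.isPGroup'.to_le hNT
      by_cases hUN : U ⊓ N = ⊥
      swap
      · obtain ⟨z, hz, hz1⟩ : ∃ z ∈ U ⊓ N, z ≠ 1 := by
          by_contra h; push Not at h; exact hUN ((Subgroup.eq_bot_iff_forall _).2 h)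
        exact inf_le_right.trans ((hcyc z hz.2 hz1).symm.le.trans (Subgroup.zpowers_le.2 hz.1))
      set K := pResOf p A ⊔ pResOf p B with hK
      have hresSn : ∀ C : Subgroup G, C.IsSubnormal → (pResOf p C).IsSubnormal := fun C hC =>
        Subgroup.IsSubnormal.step _ C (pResOf_le C) hC (subgroupOf_normal_of_le (self_le_normalizer_pResOf C))
      have hKsn : K.IsSubnormal := Subnormal.isSubnormal_sup (hresSn A hA) (hresSn B hB)
      have hKN : ∀ (r : ℕ) [Fact r.Prime] (R : Sylow r G), r ≠ p → (R : Subgroup G) ≤ K ⊔ N := by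
        intro r _ R hr
        refine (hquot r R).trans (sup_le_sup (sup_le_sup ?_ ?_) le_rfl) <;>
        · rintro x ⟨hxR, hxC⟩
          refine mem_pResOf_of_coprime hxC ?_
          obtain ⟨j, hj⟩ := R.isPGroup' ⟨x, hxR⟩
          exact (((Nat.coprime_primes Fact.out Fact.out).2 hr).pow_left j).coprime_dvd_left
            (orderOf_dvd_of_pow_eq_one (congrArg Subtype.val hj))
      have hKidx : ∃ k, K.index = p ^ k := by
        refine ⟨K.index.factorization p, Nat.eq_pow_of_factorization_eq_single Subgroup.index_ne_zero_of_finite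
          (Finsupp.ext fun r => ?_)⟩
        rcases eq_or_ne r p with rfl | hr
        · simp
        rw [Finsupp.single_eq_of_ne hr]
        by_contra h0
        have hrmem : r ∈ K.index.primeFactors := by
          rw [← Nat.support_factorization]; exact Finsupp.mem_support_iff.2 h0
        haveI : Fact r.Prime := ⟨Nat.prime_of_mem_primeFactors hrmem⟩
        have hd : r ∣ K.index := Nat.dvd_of_mem_primeFactors hrmem
        rw [← Subgroup.relIndex_mul_index (le_sup_left : K ≤ K ⊔ N)] at hd
        rcases (Nat.prime_of_mem_primeFactors hrmem).dvd_mul.1 hd with h | h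
        · obtain ⟨k, hk⟩ := IsPGroup.iff_card.1 hNp
          have h3 : K.relIndex (K ⊔ N) ∣ Nat.card N := by
            have h4 := Components.card_sup_dvd K N
            rw [← card_mul_relIndex' (le_sup_left : K ≤ K ⊔ N)] at h4
            exact Nat.dvd_of_mul_dvd_mul_left Nat.card_pos h4
          have h2 := h.trans h3
          rw [hk] at h2
          exact hr ((Nat.prime_dvd_prime_iff_eq Fact.out Fact.out).1 ((Fact.out : r.Prime).dvd_of_dvd_pow h2))
        · let R : Sylow r G := default
          exact R.not_dvd_index (h.trans (Subgroup.index_dvd_of_le (hKN r R hr)))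
      have hKres : ∀ g : G, Nat.Coprime (orderOf g) p → g ∈ K := fun g hg =>
        coprime_mem_of_subnormal_index hKsn hKidx hg
      have hKeq : K = Cfsg.pResidual p G := by
        refine le_antisymm (sup_le ?_ ?_) ((Subgroup.closure_le _).2 hKres) <;>
        · refine pResOf_le_iff.2 fun x _ hc => coprime_orderOf_mem_pResidual hc
      haveI hKn : K.Normal := by rw [hKeq]; exact pResidual_normal p G
      by_cases hKtop : K = ⊤
      · -- `N ≤ Φ(G)`, against Gaschütz
        exfalso
        have hNc : N ≤ commutator G := by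
          intro y hy
          have hcop : Nat.Coprime (Nat.card (Abelianization G)) p := by
            refine ((Fact.out : p.Prime).coprime_iff_not_dvd.2 fun hd => ?_).symm
            obtain ⟨x, hx⟩ := exists_prime_orderOf_dvd_card' p hd
            obtain ⟨g, rfl⟩ := QuotientGroup.mk'_surjective (commutator G) x
            let S : Subgroup (Abelianization G) :=
              { carrier := {a | Nat.Coprime (orderOf a) p}
                one_mem' := by simp
                mul_mem' := fun {a b} ha hb => Nat.Coprime.coprime_dvd_left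
                  ((Commute.all a b).orderOf_mul_dvd_mul_orderOf) (Nat.Coprime.mul_left ha hb)
                inv_mem' := fun {a} ha => by rw [Set.mem_ofPred_eq, orderOf_inv]; exact ha }
            have h1 : (⊤ : Subgroup G) ≤ S.comap Abelianization.of := by
              rw [← hKtop, hKeq, Cfsg.pResidual, Subgroup.closure_le]
              exact fun a ha => Nat.Coprime.coprime_dvd_left (orderOf_map_dvd _ _) ha
            have h2 : Nat.Coprime (orderOf (QuotientGroup.mk' (commutator G) g)) p := h1 (Subgroup.mem_top g)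
            have h3 : Nat.Coprime p p := by
              convert h2 using 1
              exact hx.symm
            exact (Fact.out : p.Prime).ne_one ((Nat.coprime_self p).1 h3)
          obtain ⟨k, hk⟩ := hNp ⟨y, hy⟩
          have hk' : y ^ p ^ k = 1 := congrArg Subtype.val hk
          exact (QuotientGroup.eq_one_iff y).1 (eq_one_of_coprime_of_pow
            (hcop.coprime_dvd_left (orderOf_dvd_natCard _)) (k := k)
            (show Abelianization.of y ^ p ^ k = 1 by rw [← map_pow, hk', map_one]))
        haveI : IsMulCommutative ↥N := ⟨⟨fun a b => Subtype.ext (Subgroup.mem_center_iff.1 (hNZ b.2) a.1)⟩⟩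
        have hTU : N ⊔ U = (T : Subgroup G) :=
          le_antisymm (sup_le hNT (sup_le inf_le_left inf_le_left)) ((hquot p T).trans_eq (sup_comm _ _))
        obtain ⟨C, hC⟩ := Solvable.exists_complement_of_coprime_index (K := N) (U := (T : Subgroup G)) hNT (by
          obtain ⟨k, hk⟩ := IsPGroup.iff_card.1 hNp
          rw [hk]
          exact ((Fact.out : p.Prime).coprime_iff_not_dvd.2 T.not_dvd_index).pow_left k)
          (sup_le inf_le_left inf_le_left : U ≤ _) hUN hTU
        have h1 : C ⊔ frattini G = ⊤ := top_le_iff.1 (hC.sup_eq_top.ge.trans (sup_le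
          (((le_inf hNc hNZ).trans inf_center_le_frattini).trans le_sup_right) le_sup_left))
        have h2 := hC.disjoint
        rw [frattini_nongenerating h1, disjoint_iff, inf_top_eq] at h2
        exact hN1 h2
      · -- induction in `K`
        have hKc : Nat.card K ≤ n := by
          have : Nat.card K < Nat.card G := by
            rcases Nat.lt_or_ge (Nat.card K) (Nat.card G) with h | h
            · exact h
            · exact absurd (Subgroup.eq_top_of_le_card K h) hKtop
          omega
        obtain ⟨P, hP⟩ := ((isSylowOf_top T).inf_subnormal hKsn).exists_sylow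
        have hAK : pResOf p A ≤ K := le_sup_left
        have hBK : pResOf p B ≤ K := le_sup_right
        have h1 := ih ↥K hKc ((pResOf p A).subgroupOf K) ((pResOf p B).subgroupOf K) (hresSn A hA).subgroupOf
          (hresSn B hB).subgroupOf (by rw [← Subgroup.subgroupOf_sup hAK hBK, Subgroup.subgroupOf_self]) p P
        have h2 : (T : Subgroup G) ⊓ K ≤ U := by
          rw [← hP, ← h1, Subgroup.map_sup]
          refine sup_le ?_ ?_
          · rintro _ ⟨x, ⟨hx, hxA⟩, rfl⟩
            exact Subgroup.mem_sup_left ⟨(Subgroup.mem_inf.1 (hP ▸ Subgroup.mem_map_of_mem K.subtype hx)).1,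
              pResOf_le A (Subgroup.mem_subgroupOf.1 hxA)⟩
          · rintro _ ⟨x, ⟨hx, hxB⟩, rfl⟩
            exact Subgroup.mem_sup_right ⟨(Subgroup.mem_inf.1 (hP ▸ Subgroup.mem_map_of_mem K.subtype hx)).1,
              pResOf_le B (Subgroup.mem_subgroupOf.1 hxB)⟩
        have h3 : (⊤ : Subgroup G) ≤ U ⊔ K := by
          rw [← hAB]
          refine sup_le ?_ ?_
          · rw [← pResOf_sup_sylow ((isSylowOf_top T).inf_subnormal hA)]
            exact sup_le (hAK.trans le_sup_right) (le_trans le_sup_left le_sup_left)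
          · rw [← pResOf_sup_sylow ((isSylowOf_top T).inf_subnormal hB)]
            exact sup_le (hBK.trans le_sup_right) (le_trans le_sup_right le_sup_left)
        intro x hx
        have hx' : x ∈ ((U ⊔ K : Subgroup G) : Set G) := h3 (Subgroup.mem_top x)
        rw [Subgroup.mul_normal] at hx'
        obtain ⟨u, hu, k, hk, rfl⟩ := hx'
        have huT : u ∈ (T : Subgroup G) := (sup_le inf_le_left inf_le_left : U ≤ _) hu
        exact mul_mem hu (h2 (Subgroup.mem_inf.2 ⟨by simpa using mul_mem (inv_mem huT) (Subgroup.mem_inf.1 hx).1, hk⟩))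

/-- Wielandt: `T ∩ ⟨A,B⟩ = ⟨T ∩ A, T ∩ B⟩` for subnormal `A`, `B`. -/
theorem sylow_inf_sup (T : Sylow p G) {A B : Subgroup G} (hA : A.IsSubnormal) (hB : B.IsSubnormal) :
    ((T : Subgroup G) ⊓ A) ⊔ ((T : Subgroup G) ⊓ B) = (T : Subgroup G) ⊓ (A ⊔ B) := by
  refine le_antisymm (sup_le (inf_le_inf_left _ le_sup_left) (inf_le_inf_left _ le_sup_right)) ?_
  set L := A ⊔ B with hL
  have hAL : A ≤ L := le_sup_left
  have hBL : B ≤ L := le_sup_right
  obtain ⟨P, hP⟩ := ((isSylowOf_top T).inf_subnormal (Subnormal.isSubnormal_sup hA hB)).exists_sylow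
  have h1 := sylow_sup_aux (Nat.card ↥L) ↥L le_rfl (A.subgroupOf L) (B.subgroupOf L) hA.subgroupOf hB.subgroupOf
    (by rw [← Subgroup.subgroupOf_sup hAL hBL, Subgroup.subgroupOf_self]) p P
  rw [← hP, ← h1, Subgroup.map_sup]
  refine sup_le_sup ?_ ?_ <;>
  · rintro _ ⟨x, ⟨hx, hxA⟩, rfl⟩
    exact ⟨(Subgroup.mem_inf.1 (hP ▸ Subgroup.mem_map_of_mem L.subtype hx)).1, hxA⟩

end Cfsg.Agent.Lib.LocalEven
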