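import Cfsg.Agent.Lib.LocalEven.Series
import Cfsg.Agent.Lib.LocalEven.PReduced
import Cfsg.Agent.Lib.LocalEven.Kieler
import Cfsg.Prelude.Def_LocalStructure

/-!
Weakly closed subgroups and large subgroups.
-/

set_option autoImplicit false

open scoped commutatorElement

namespace Cfsg.Agent.Lib.LocalEven

universe u

variable {G : Type u} [Group G] {p : ℕ}

/-- `Q` is the only conjugate of itself in every `p`-group containing it. -/
def Wc (p : ℕ) (Q : Subgroup G) : Prop :=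
  ∀ R : Subgroup G, IsPGroup p R → Q ≤ R → ∀ g : G, conjS g Q ≤ R → conjS g Q = Q

theorem IsSylowOf.exists_sylow_top {T : Subgroup G} (h : IsSylowOf p T (⊤ : Subgroup G)) :
    ∃ P : Sylow p G, (P : Subgroup G) = T := by
  obtain ⟨P, hP⟩ := h.isPGroup.exists_le_sylow
  exact ⟨P, h.eq_of_le le_top P.isPGroup' hP⟩

theorem wc_iff [Finite G] [Fact p.Prime] {Q : Subgroup G} (hQ : IsPGroup p Q) :
    Cfsg.IsWeaklyClosedSubgroup p Q ↔ Wc p Q := by
  constructor
  · rintro ⟨T, hQT, hT⟩ R hR hQR g hgR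
    obtain ⟨T', hT', hRT'⟩ := exists_isSylowOf_le (p := p) (A := R) le_top hR
    obtain ⟨h, -, hh⟩ := hT'.exists_conj (isSylowOf_top T)
    have e1 : conjS h Q = Q := hT h ((conjS_mono h (hQR.trans hRT')).trans hh.le)
    have e2 : conjS (h * g) Q = Q := hT (h * g) (by
      rw [map_conj_eq, conjS_mul]
      exact (conjS_mono h (hgR.trans hRT')).trans hh.le)
    rw [conjS_mul] at e2
    have := congrArg (conjS h⁻¹) (e2.trans e1.symm)
    rwa [conjS_inv_cancel, conjS_inv_cancel] at this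
  · intro h
    obtain ⟨T, hT⟩ := hQ.exists_le_sylow
    exact ⟨T, hT, fun g hg => h T T.isPGroup' hT g hg⟩

theorem Wc.conj {Q : Subgroup G} (h : Wc p Q) (a : G) : Wc p (conjS a Q) := by
  intro R hR hQR g hgR
  have h1 : Q ≤ conjS a⁻¹ R := by
    have := conjS_mono a⁻¹ hQR
    rwa [conjS_inv_cancel] at this
  have h2 : conjS (a⁻¹ * g * a) Q ≤ conjS a⁻¹ R := by
    have := conjS_mono a⁻¹ hgR
    rwa [← conjS_mul, ← conjS_mul, mul_assoc, ← mul_assoc] at this
  have h3 := congrArg (conjS a) (h _ (hR.map _) h1 _ h2)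
  rwa [← conjS_mul, show a * (a⁻¹ * g * a) = g * a by group, conjS_mul] at h3

theorem Wc.le_normalizer {Q R : Subgroup G} (h : Wc p Q) (hR : IsPGroup p R) (hQR : Q ≤ R) :
    Subgroup.normalizer (R : Set G) ≤ Subgroup.normalizer (Q : Set G) := fun n hn =>
  conjS_eq_self_iff.1 (h R hR hQR n ((conjS_mono n hQR).trans (conjS_eq_self_iff.2 hn).le))

theorem Wc.le_normalizer' {Q R : Subgroup G} (h : Wc p Q) (hR : IsPGroup p R) (hQR : Q ≤ R) :
    R ≤ Subgroup.normalizer (Q : Set G) :=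
  Subgroup.le_normalizer.trans (h.le_normalizer hR hQR)

theorem Wc.eq_of_normalizes [Finite G] {Q : Subgroup G} (h : Wc p Q) (hQ : IsPGroup p Q) {g : G}
    (hn : conjS g Q ≤ Subgroup.normalizer (Q : Set G)) : conjS g Q = Q :=
  h _ (hQ.to_sup_of_normal_left' (hQ.map _) hn) le_sup_left g le_sup_right

/-- Normalizers of `p`-overgroups inside `N(Q)` imply weak closure. -/
theorem wc_of_normalizer [Finite G] [Fact p.Prime] {Q : Subgroup G} (hQ : IsPGroup p Q)
    (h : ∀ R : Subgroup G, IsPGroup p R → Q ≤ R →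
      Subgroup.normalizer (R : Set G) ≤ Subgroup.normalizer (Q : Set G)) : Wc p Q := by
  rw [← wc_iff hQ]
  obtain ⟨T, hT⟩ := hQ.exists_le_sylow
  refine ⟨T, hT, fun g hg => ?_⟩
  rw [map_conj_eq] at hg ⊢
  have hTs := isSylowOf_top T
  have hT1 : (T : Subgroup G) ≤ Subgroup.normalizer (Q : Set G) :=
    Subgroup.le_normalizer.trans (h _ T.isPGroup' hT)
  have hT2 : (T : Subgroup G) ≤ Subgroup.normalizer (conjS g Q : Set G) := by
    have h1 : Q ≤ conjS g⁻¹ (T : Subgroup G) := by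
      have := conjS_mono g⁻¹ hg
      rwa [conjS_inv_cancel] at this
    have h2 := conjS_mono g (show conjS g⁻¹ (T : Subgroup G) ≤ _ from
      Subgroup.le_normalizer.trans (h _ (T.isPGroup'.map _) h1))
    rwa [conjS_cancel_inv, conjS_normalizer] at h2
  have hgT : IsSylowOf p (conjS g (T : Subgroup G)) (Subgroup.normalizer (conjS g Q : Set G)) := by
    refine ((hTs.mono hT1 le_top).conjS g).mono ?_ ?_
    · exact (conjS_mono g hT1).trans (conjS_normalizer g Q).le
    · exact (conjS_normalizer g Q).ge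
  obtain ⟨c, hc, hcT⟩ := hgT.exists_conj (hTs.mono hT2 le_top)
  have hcg : c * g ∈ Subgroup.normalizer ((T : Subgroup G) : Set G) :=
    conjS_eq_self_iff.1 (by rw [conjS_mul]; exact hcT)
  have := conjS_eq_self_iff.2 (h _ T.isPGroup' hT hcg)
  rwa [conjS_mul, conjS_eq_self_iff.2 hc] at this

/-- Mutually normalizing conjugates being equal implies weak closure. -/
theorem wc_of_commutator [Finite G] [Fact p.Prime] {Q : Subgroup G} (hQ : IsPGroup p Q)
    (h : ∀ g : G, ⁅Q, conjS g Q⁆ ≤ Q ⊓ conjS g Q → conjS g Q = Q) : Wc p Q := by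
  refine wc_of_normalizer hQ fun R hR hQR => ?_
  have hR' : ∀ R : Subgroup G, IsPGroup p R → Q ≤ R → R ≤ Subgroup.normalizer (Q : Set G) := by
    intro R hR hQR
    by_contra hne
    haveI : Group.IsNilpotent R := hR.isNilpotent
    set R1 := R ⊓ Subgroup.normalizer (Q : Set G) with hR1
    have hlt : R1.subgroupOf R < ⊤ := lt_top_iff_ne_top.2 fun e =>
      hne ((Subgroup.subgroupOf_eq_top.1 e).trans inf_le_right)
    obtain ⟨x, hx, hxn⟩ := SetLike.exists_of_lt (Group.normalizerCondition_of_isNilpotent _ hlt)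
    have hxR1 : conjS (x : G) R1 = R1 := by
      rw [conjS_eq_self_iff, Subgroup.mem_normalizer_iff]
      intro y
      by_cases hy : y ∈ R
      · exact Subgroup.mem_normalizer_iff.1 hx ⟨y, hy⟩
      · constructor
        · exact fun hy' => absurd (Subgroup.mem_inf.1 hy').1 hy
        · intro hy'
          refine absurd ?_ hy
          have := mul_mem (mul_mem (inv_mem x.2) (Subgroup.mem_inf.1 hy').1) x.2
          simpa [mul_assoc] using this
    have hQ1 : Q ≤ R1 := le_inf hQR Subgroup.le_normalizer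
    have h1 : conjS (x : G) Q ≤ R1 := (conjS_mono _ hQ1).trans hxR1.le
    have h2 : Q ≤ Subgroup.normalizer (conjS (x : G) Q : Set G) := by
      rw [← conjS_normalizer]
      exact (hQ1.trans hxR1.ge).trans (conjS_mono _ inf_le_right)
    have h3 := h x (le_inf (commutator_le_of_le_normalizer (h1.trans inf_le_right))
      (commutator_le_of_le_normalizer' h2))
    exact hxn (Subgroup.mem_subgroupOf.2 (Subgroup.mem_inf.2 ⟨x.2, conjS_eq_self_iff.1 h3⟩))
  intro n hn
  have h1 : conjS n Q ≤ R := (conjS_mono n hQR).trans (conjS_eq_self_iff.2 hn).le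
  refine conjS_eq_self_iff.1 (h n (le_inf
    (commutator_le_of_le_normalizer (h1.trans (hR' R hR hQR))) (commutator_le_of_le_normalizer' ?_)))
  rw [← conjS_normalizer]
  refine hQR.trans ?_
  have h2 := conjS_mono n (hR' R hR hQR)
  rwa [conjS_eq_self_iff.2 hn] at h2

theorem Wc.exists_conj [Finite G] [Fact p.Prime] {Q K : Subgroup G} (h : Wc p Q) (hQ : IsPGroup p Q)
    (hQK : Q ≤ K) {g : G} (hg : conjS g Q ≤ K) : ∃ k ∈ K, conjS g Q = conjS k Q := by
  obtain ⟨T, hT, hQT⟩ := exists_isSylowOf_le hQK hQ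
  obtain ⟨k, hk, hle⟩ := hT.exists_conj_le hg (hQ.map _)
  rw [← conjS_mul] at hle
  have := congrArg (conjS k⁻¹) (h T hT.isPGroup hQT _ hle)
  rw [conjS_mul, conjS_inv_cancel] at this
  exact ⟨k⁻¹, inv_mem hk, this⟩

theorem conjS_le_of_mem {Q K : Subgroup G} (hQK : Q ≤ K) {k : G} (hk : k ∈ K) : conjS k Q ≤ K :=
  (conjS_mono k hQK).trans (conjS_mem_eq_self hk).le

theorem weakClosure_le (Q K : Subgroup G) : Cfsg.weakClosure Q K ≤ K :=
  iSup_le fun g => g.2

theorem conjS_le_weakClosure {Q K : Subgroup G} {g : G} (hg : conjS g Q ≤ K) :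
    conjS g Q ≤ Cfsg.weakClosure Q K :=
  le_iSup (fun g : {g : G // Q.map (MulAut.conj g).toMonoidHom ≤ K} =>
    Q.map (MulAut.conj (g : G)).toMonoidHom) ⟨g, hg⟩

theorem self_le_weakClosure {Q K : Subgroup G} (hQK : Q ≤ K) : Q ≤ Cfsg.weakClosure Q K := by
  have := conjS_le_weakClosure (Q := Q) (K := K) (g := 1) (by rwa [conjS_one])
  rwa [conjS_one] at this

theorem weakClosure_eq_iSup [Finite G] [Fact p.Prime] {Q K : Subgroup G} (h : Wc p Q)
    (hQ : IsPGroup p Q) (hQK : Q ≤ K) : Cfsg.weakClosure Q K = ⨆ k : K, conjS (k : G) Q := by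
  refine le_antisymm (iSup_le fun g => ?_) (iSup_le fun k => conjS_le_weakClosure (conjS_le_of_mem hQK k.2))
  obtain ⟨k, hk, e⟩ := h.exists_conj hQ hQK g.2
  rw [map_conj_eq, e]
  exact le_iSup (fun k : K => conjS (k : G) Q) ⟨k, hk⟩

theorem commutator_iSup_le {ι : Sort*} {H : ι → Subgroup G} {B N : Subgroup G}
    (hH : ∀ i, H i ≤ Subgroup.normalizer (N : Set G)) (h : ∀ i, ⁅H i, B⁆ ≤ N) : ⁅⨆ i, H i, B⁆ ≤ N := by
  let S : Subgroup G :=
    { carrier := {w | w ∈ Subgroup.normalizer (N : Set G) ∧ ∀ b ∈ B, ⁅w, b⁆ ∈ N}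
      one_mem' := ⟨one_mem _, fun b _ => by simp⟩
      mul_mem' := fun {x y} hx hy => ⟨mul_mem hx.1 hy.1, fun b hb => by
        rw [show ⁅x * y, b⁆ = x * ⁅y, b⁆ * x⁻¹ * ⁅x, b⁆ by simp [commutatorElement_def, mul_assoc]]
        exact mul_mem ((Subgroup.mem_normalizer_iff.1 hx.1 _).1 (hy.2 b hb)) (hx.2 b hb)⟩
      inv_mem' := fun {x} hx => ⟨inv_mem hx.1, fun b hb => by
        rw [show ⁅x⁻¹, b⁆ = x⁻¹ * ⁅x, b⁆⁻¹ * x⁻¹⁻¹ by simp [commutatorElement_def, mul_assoc]]
        exact (Subgroup.mem_normalizer_iff.1 (inv_mem hx.1) _).1 (inv_mem (hx.2 b hb))⟩ }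
  have hle : (⨆ i, H i) ≤ S := iSup_le fun i x hx =>
    ⟨hH i hx, fun b hb => h i (Subgroup.commutator_mem_commutator hx hb)⟩
  rw [Subgroup.commutator_le]
  exact fun w hw b hb => (hle hw).2 b hb

/-! ### Large subgroups -/

theorem IsLarge_conj {Q : Subgroup G} (h : Cfsg.IsLarge Q) (a : G) : Cfsg.IsLarge (conjS a Q) := by
  refine ⟨?_, fun U hU hU1 => ?_⟩
  · rw [← conjS_centralizer]; exact conjS_mono a h.1
  · have h1 : conjS a⁻¹ U ≤ Subgroup.centralizer (Q : Set G) := by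
      have := conjS_mono a⁻¹ hU
      rwa [← conjS_centralizer, conjS_inv_cancel] at this
    have h2 : conjS a⁻¹ U ≠ ⊥ := by
      intro e
      refine hU1 ?_
      have := congrArg (conjS a) e
      rwa [conjS_cancel_inv, conjS, Subgroup.map_bot] at this
    have h3 := conjS_mono a (h.2 _ h1 h2)
    rwa [conjS_normalizer, conjS_cancel_inv, conjS_normalizer] at h3

theorem exists_fixed_ne_bot [Finite G] [Fact p.Prime] {T K : Subgroup G} (hT : IsPGroup p T)
    (hK : IsPGroup p K) (hn : T ≤ Subgroup.normalizer (K : Set G)) (hne : K ≠ ⊥) :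
    K ⊓ Subgroup.centralizer (T : Set G) ≠ ⊥ := by
  obtain ⟨b, hb, hb1, hbT⟩ := exists_ne_one_mem_centralizer hT hK hn hne
  exact fun e => hb1 ((Subgroup.eq_bot_iff_forall _).1 e b ⟨hb, hbT⟩)

theorem IsLarge_wc [Finite G] [Fact p.Prime] {Q : Subgroup G} (h : Cfsg.IsLarge Q)
    (hQ : IsPGroup p Q) (hQ1 : Q ≠ ⊥) : Wc p Q := by
  refine wc_of_normalizer hQ fun R hR hQR => ?_
  refine le_trans ?_ (h.2 (R ⊓ Subgroup.centralizer (R : Set G))
    (inf_le_right.trans (Subgroup.centralizer_le hQR)) ?_)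
  · exact le_normalizer_inf le_rfl (le_normalizer_centralizer le_rfl)
  · exact exists_fixed_ne_bot hR hR Subgroup.le_normalizer
      (fun e => hQ1 (le_bot_iff.1 (hQR.trans e.le)))

theorem centralizer_le_normalizer_of_large [Finite G] [Fact p.Prime] {Q Y : Subgroup G}
    (h : Cfsg.IsLarge Q) (hQ : IsPGroup p Q) (hY : IsPGroup p Y) (hY1 : Y ≠ ⊥)
    (hQY : Q ≤ Subgroup.normalizer (Y : Set G)) :
    Subgroup.centralizer (Y : Set G) ≤ Subgroup.normalizer (Q : Set G) := by
  refine le_trans ?_ (h.2 _ inf_le_right (exists_fixed_ne_bot hQ hY hQY hY1))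
  exact (Subgroup.centralizer_le inf_le_left).trans (Subgroup.centralizer_le_normalizer _)

theorem large_isPGroup_centralizer_pCoreOf [Finite G] [hp : Fact p.Prime] {Q L : Subgroup G}
    (h : Cfsg.IsLarge Q) (hQ : IsPGroup p Q) (hQL : Q ≤ L) (hO : Cfsg.pCoreOf p L ≠ ⊥) :
    ⁅Q, Subgroup.centralizer (Cfsg.pCoreOf p L : Set G)⁆ ≤ Q ⊓ Cfsg.pCoreOf p L ∧
      IsPGroup p ↥(Subgroup.centralizer (Cfsg.pCoreOf p L : Set G)) := by
  set C := Subgroup.centralizer (Cfsg.pCoreOf p L : Set G) with hC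
  have hCQ : ∀ l ∈ L, C ≤ Subgroup.normalizer (conjS l Q : Set G) := by
    intro l hl
    exact centralizer_le_normalizer_of_large (IsLarge_conj h l) (hQ.map _) (pCoreOf_isPGroup L) hO
      ((conjS_le_of_mem hQL hl).trans (le_normalizer_pCoreOf L))
  have hLC : L ≤ Subgroup.normalizer (C : Set G) := le_normalizer_centralizer (le_normalizer_pCoreOf L)
  set P := Cfsg.pCoreOf p C with hP
  have hLP : L ≤ Subgroup.normalizer (P : Set G) := by
    rw [le_normalizer_iff_forall]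
    intro g hg
    rw [hP, conjS_pCoreOf, conjS_eq_self_iff.2 (hLC hg)]
  have hsub : ∀ l ∈ L, ⁅conjS l Q, C⁆ ≤ L ⊓ P := by
    intro l hl
    have hlQ : conjS l Q ≤ L := conjS_le_of_mem hQL hl
    refine le_inf ((commutator_le_of_le_normalizer (hCQ l hl)).trans hlQ) ?_
    refine le_trans (le_inf (commutator_le_of_le_normalizer (hCQ l hl))
      (commutator_le_of_le_normalizer' (hlQ.trans hLC))) ?_
    exact le_pCoreOf inf_le_right (le_normalizer_inf (hCQ l hl) Subgroup.le_normalizer)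
      (hQ.map _).to_inf_left
  have hle : ⁅Q, C⁆ ≤ Q ⊓ Cfsg.pCoreOf p L := by
    have h1 := hsub 1 (one_mem L)
    rw [conjS_one] at h1
    have h0 := hCQ 1 (one_mem L)
    rw [conjS_one] at h0
    exact le_inf (commutator_le_of_le_normalizer h0) (h1.trans
      (le_pCoreOf inf_le_left (le_normalizer_inf Subgroup.le_normalizer hLP)
        (pCoreOf_isPGroup C).to_inf_right))
  refine ⟨hle, isPGroup_of_pResOf_eq_bot ?_⟩
  rw [eq_bot_iff, pResOf_le_iff]
  intro x hx hc
  have hxQ : x ∈ Subgroup.centralizer (Q : Set G) := by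
    rw [Subgroup.mem_centralizer_iff]
    intro a ha
    have hm : x * a * x⁻¹ * a⁻¹ ∈ Q ⊓ Cfsg.pCoreOf p L := by
      refine hle ?_
      rw [Subgroup.commutator_comm]
      exact Subgroup.commutator_mem_commutator hx ha
    exact (commute_mem_of_coprime_stab (pCoreOf_isPGroup L) hc (Subgroup.mem_inf.1 hm).2
      (Subgroup.mem_centralizer_singleton_iff.2
        (Subgroup.mem_centralizer_iff.1 hx _ (Subgroup.mem_inf.1 hm).2))).symm
  obtain ⟨k, hk⟩ := hQ ⟨x, h.1 hxQ⟩
  exact eq_one_of_coprime_of_pow hc (congrArg Subtype.val hk)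

theorem large_charP [Finite G] [Fact p.Prime] {Q L : Subgroup G} (h : Cfsg.IsLarge Q)
    (hQ : IsPGroup p Q) (hQL : Q ≤ L) (hO : Cfsg.pCoreOf p L ≠ ⊥) :
    L ⊓ Subgroup.centralizer (Cfsg.pCoreOf p L : Set G) ≤ Cfsg.pCoreOf p L :=
  le_pCoreOf inf_le_left
    (le_normalizer_inf Subgroup.le_normalizer (le_normalizer_centralizer (le_normalizer_pCoreOf L)))
    (large_isPGroup_centralizer_pCoreOf h hQ hQL hO).2.to_inf_right

theorem pCoreOf_ne_bot_iff {H : Subgroup G} : Cfsg.pCoreOf p H ≠ ⊥ ↔ Cfsg.pCore p ↥H ≠ ⊥ := by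
  rw [Cfsg.pCoreOf, Ne, Subgroup.map_eq_bot_iff_of_injective _ H.subtype_injective]

/-- A subgroup containing a Sylow subgroup, with `O_p ≠ 1`, is `p`-constrained in the strong sense. -/
theorem large_parabolic [Finite G] [Fact p.Prime] {Q R : Subgroup G} (h : Cfsg.IsLarge Q)
    (hQ : IsPGroup p Q) (hR : Cfsg.IsParabolic p R) (hO : Cfsg.pCoreOf p R ≠ ⊥) :
    Subgroup.centralizer (Cfsg.pCoreOf p R : Set G) ≤ Cfsg.pCoreOf p R := by
  obtain ⟨T, hT⟩ := hR
  obtain ⟨a, -, ha⟩ := (isSylowOf_top T).exists_conj_le (le_top : Q ≤ ⊤) hQ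
  have h' := IsLarge_conj h a
  have hQR := ha.trans hT
  have hCp := (large_isPGroup_centralizer_pCoreOf h' (hQ.map _) hQR hO).2
  refine le_trans (le_inf ?_ le_rfl) (large_charP h' (hQ.map _) hQR hO)
  have hn : (T : Subgroup G) ≤ Subgroup.normalizer
      (Subgroup.centralizer (Cfsg.pCoreOf p R : Set G) : Set G) :=
    hT.trans (le_normalizer_centralizer (le_normalizer_pCoreOf R))
  have := (isSylowOf_top T).eq_of_le le_top (hCp.to_sup_of_normal_left' T.isPGroup' hn) le_sup_right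
  exact (le_sup_left.trans this.le).trans hT

theorem eq_of_large_centralizer [Finite G] [Fact p.Prime] {Q : Subgroup G} (h : Cfsg.IsLarge Q)
    (hQ : IsPGroup p Q) (hQ1 : Q ≠ ⊥) {g : G}
    (hne : Subgroup.centralizer (Q : Set G) ⊓ Subgroup.centralizer (conjS g Q : Set G) ≠ ⊥) :
    conjS g Q = Q := by
  refine (IsLarge_wc h hQ hQ1).eq_of_normalizes hQ ?_
  refine le_trans ?_ (h.2 _ inf_le_left hne)
  exact (Subgroup.le_centralizer_iff.1 inf_le_right).trans (Subgroup.centralizer_le_normalizer _)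

end Cfsg.Agent.Lib.LocalEven

namespace Cfsg.Agent.Lib.LocalEven

universe v

variable {G : Type v} [Group G] {p : ℕ}

theorem le_normalizer_of_commutator_le {Q P : Subgroup G} (h : ⁅Q, P⁆ ≤ Q) :
    P ≤ Subgroup.normalizer (Q : Set G) := by
  rw [le_normalizer_iff_forall]
  have key : ∀ a ∈ P, conjS a Q ≤ Q := by
    intro a ha x hx
    have hq := mem_conjS.1 hx
    rw [show x = ⁅a⁻¹ * x * a, a⁆⁻¹ * (a⁻¹ * x * a) by simp [commutatorElement_def, mul_assoc]]
    exact mul_mem (inv_mem (h (Subgroup.commutator_mem_commutator hq ha))) hq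
  intro a ha
  refine le_antisymm (key a ha) ?_
  have := conjS_mono a (key a⁻¹ (inv_mem ha))
  rwa [conjS_cancel_inv] at this

theorem map_conjS {G' : Type v} [Group G'] (f : G →* G') (g : G) (H : Subgroup G) :
    (conjS g H).map f = conjS (f g) (H.map f) := by
  rw [conjS, conjS, Subgroup.map_map, Subgroup.map_map]
  congr 1
  ext x
  simp

end Cfsg.Agent.Lib.LocalEven
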