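import Mathlib.GroupTheory.Transfer
import Mathlib.Algebra.Group.ForwardDiff
import Cfsg.Agent.Lib.LocalEven.StronglyEmbedded
import Cfsg.Agent.Lib.Transfer.Tate
import Cfsg.Agent.Lib.Transfer.PFrattini

/-!
The transfer argument behind Yoshida's theorem on control of transfer.
-/

set_option autoImplicit false

open Subgroup

namespace Cfsg.Agent.Lib.LocalEven

section FixTerm

variable {G : Type*} [Group G] {A : Type*} [CommGroup A] {H : Subgroup G}

open Classical in
/-- The contribution of a coset `c` to the transfer of `φ` at `u`, if `c` is fixed by `u`. -/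
noncomputable def fixTerm (φ : ↥H →* A) (u : G) (c : G ⧸ H) : A :=
  if h : c.out⁻¹ * u * c.out ∈ H then φ ⟨_, h⟩ else 1

open Classical in
theorem fixTerm_mk (φ : ↥H →* A) (u m : G) :
    fixTerm φ u (m : G ⧸ H) = if h : m⁻¹ * u * m ∈ H then φ ⟨_, h⟩ else 1 := by
  classical
  obtain ⟨q, hq⟩ := QuotientGroup.mk_out_eq_mul H m
  have e : (m : G ⧸ H).out⁻¹ * u * (m : G ⧸ H).out = (q : G)⁻¹ * (m⁻¹ * u * m) * q := by
    rw [hq]; group
  have hiff : (m : G ⧸ H).out⁻¹ * u * (m : G ⧸ H).out ∈ H ↔ m⁻¹ * u * m ∈ H := by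
    rw [e, Subgroup.mul_mem_cancel_right H q.2, Subgroup.mul_mem_cancel_left H (H.inv_mem q.2)]
  unfold fixTerm
  by_cases h2 : m⁻¹ * u * m ∈ H
  · rw [dif_pos h2, dif_pos (hiff.2 h2)]
    have h3 : (⟨_, hiff.2 h2⟩ : ↥H) = q⁻¹ * ⟨_, h2⟩ * q := Subtype.ext (by simp [e, mul_assoc])
    rw [h3, map_mul, map_mul, map_inv, mul_comm (φ q)⁻¹, inv_mul_cancel_right]
  · rw [dif_neg h2, dif_neg (hiff.not.2 h2)]

/-- If proper powers contribute nothing, the transfer is the product over the fixed cosets. -/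
theorem transfer_eq_prod_fixTerm [H.FiniteIndex] [Fintype (G ⧸ H)] (φ : ↥H →* A) (u : G)
    (hsmall : ∀ (k : ℕ) (m : G) (h : m⁻¹ * u ^ k * m ∈ H), k ∣ orderOf u → k ≠ 1 → φ ⟨_, h⟩ = 1) :
    MonoidHom.transfer φ u = ∏ c : G ⧸ H, fixTerm φ u c := by
  classical
  letI : Fintype (Quotient (MulAction.orbitRel (zpowers u) (G ⧸ H))) := Fintype.ofFinite _
  rw [MonoidHom.transfer_eq_prod_quotient_orbitRel_zpowers_quot]
  have hdvd : ∀ c : G ⧸ H, Function.minimalPeriod (u • ·) c ∣ orderOf u := fun c =>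
    Function.IsPeriodicPt.minimalPeriod_dvd (by
      show (u • ·)^[orderOf u] c = c
      rw [smul_iterate]
      simp [pow_orderOf_eq_one])
  have hfix : ∀ c : G ⧸ H, c.out⁻¹ * u * c.out ∈ H ↔ u • c = c := fun c => by
    conv_rhs => rw [← QuotientGroup.out_eq' c]
    rw [MulAction.Quotient.smul_mk, eq_comm, QuotientGroup.eq, smul_eq_mul, mul_assoc]
  have hper : ∀ q : Quotient (MulAction.orbitRel (zpowers u) (G ⧸ H)),
      φ ⟨q.out.out⁻¹ * u ^ Function.minimalPeriod (u • ·) q.out * q.out.out,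
        QuotientGroup.out_conj_pow_minimalPeriod_mem H u q.out⟩ ≠ 1 →
      Function.minimalPeriod (u • ·) q.out = 1 := fun q hq => by
    by_contra hk
    exact hq (hsmall _ _ _ (hdvd _) hk)
  refine Finset.prod_bij_ne_one (fun q _ _ => q.out) (fun _ _ _ => Finset.mem_univ _)
    (fun a _ _ b _ _ e => Quotient.out_injective e) (fun c _ hc => ?_) (fun q _ hq => ?_)
  · have h1 : c.out⁻¹ * u * c.out ∈ H := by
      by_contra h1
      exact hc (by unfold fixTerm; rw [dif_neg h1])
    have h2 := (hfix c).1 h1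
    have h3 : (Quotient.mk'' c : Quotient (MulAction.orbitRel (zpowers u) (G ⧸ H))).out = c := by
      have h4 : (Quotient.mk'' c : Quotient (MulAction.orbitRel (zpowers u) (G ⧸ H))).out ∈
          MulAction.orbit (zpowers u) c :=
        MulAction.orbitRel_apply.1 (Quotient.mk_out c)
      obtain ⟨⟨g, hg⟩, e⟩ := h4
      rw [← e]
      obtain ⟨n, rfl⟩ := Subgroup.mem_zpowers_iff.1 hg
      exact MulAction.mem_stabilizer_iff.1
        (Subgroup.zpow_mem _ (MulAction.mem_stabilizer_iff.2 h2) n)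
    have hone : Function.minimalPeriod (u • ·)
        (Quotient.mk'' c : Quotient (MulAction.orbitRel (zpowers u) (G ⧸ H))).out = 1 := by
      rw [h3]
      exact Function.minimalPeriod_eq_one_iff_isFixedPt.2 h2
    refine ⟨Quotient.mk'' c, Finset.mem_univ _, ?_, h3⟩
    intro e
    apply hc
    rw [← e]
    unfold fixTerm
    rw [dif_pos h1]
    congr 1
    exact Subtype.ext (by simp only [h3, Function.minimalPeriod_eq_one_iff_isFixedPt.2 h2, pow_one])
  · have h1 := hper q hq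
    have h2 : q.out.out⁻¹ * u * q.out.out ∈ H :=
      (hfix _).2 (Function.minimalPeriod_eq_one_iff_isFixedPt.1 h1)
    unfold fixTerm
    rw [dif_pos h2]
    congr 1
    exact Subtype.ext (by simp only [h1, pow_one])

/-- The product over the fixed cosets of `Q` in stages through `R ≥ Q`. -/
theorem prod_fixTerm_trans [Finite G] {Q R : Subgroup G} (hQR : Q ≤ R) [Fintype (G ⧸ Q)]
    [Fintype (G ⧸ R)] [Fintype (↥R ⧸ Q.subgroupOf R)] (φ : ↥Q →* A) (u : G) :
    (∏ c : G ⧸ Q, fixTerm φ u c) =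
      ∏ c : G ⧸ R, open Classical in
        if h : c.out⁻¹ * u * c.out ∈ R then
          ∏ d : ↥R ⧸ Q.subgroupOf R,
            fixTerm (φ.comp (Subgroup.subgroupOfEquivOfLe hQR).toMonoidHom) (⟨_, h⟩ : ↥R) d
        else 1 := by
  classical
  rw [← (Subgroup.quotientEquivProdOfLE hQR).symm.prod_comp, Fintype.prod_prod_type]
  refine Fintype.prod_congr _ _ fun c => ?_
  have e : ∀ d : ↥R ⧸ Q.subgroupOf R, (Subgroup.quotientEquivProdOfLE hQR).symm (c, d) =
      ((c.out * (d.out : G) : G) : G ⧸ Q) := fun d => by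
    conv_lhs => rw [← QuotientGroup.out_eq' d]
    rfl
  split_ifs with h
  · refine Fintype.prod_congr _ _ fun d => ?_
    rw [e d, fixTerm_mk]
    unfold fixTerm
    simp only [Subgroup.mem_subgroupOf, Subgroup.coe_mul, InvMemClass.coe_inv]
    have ee : (d.out : G)⁻¹ * (c.out⁻¹ * u * c.out) * d.out =
        (c.out * (d.out : G))⁻¹ * u * (c.out * (d.out : G)) := by group
    by_cases h1 : (c.out * (d.out : G))⁻¹ * u * (c.out * (d.out : G)) ∈ Q
    · rw [dif_pos h1, dif_pos (ee ▸ h1)]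
      simp only [MonoidHom.comp_apply, MulEquiv.coe_toMonoidHom]
      congr 1
      exact Subtype.ext (by simp [mul_assoc])
    · rw [dif_neg h1, dif_neg (fun h2 => h1 (ee ▸ h2))]
  · refine Fintype.prod_eq_one _ fun d => ?_
    rw [e d, fixTerm_mk, dif_neg]
    intro h1
    apply h
    have h2 := R.mul_mem (R.mul_mem d.out.2 (hQR h1)) (R.inv_mem d.out.2)
    simpa [mul_assoc] using h2

end FixTerm

section Diff

variable {G : Type*} [Group G] {p : ℕ} [hp : Fact p.Prime]

theorem choose_pred_prime_cast (k : ℕ) (hk : k < p) :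
    ((-1 : ℤ) ^ (p - 1 - k) * (p - 1).choose k : ZMod p) = 1 := by
  induction k with
  | zero =>
    rw [Nat.choose_zero_right, Nat.cast_one, mul_one, Nat.sub_zero]
    push_cast
    exact ZMod.pow_card_sub_one_eq_one (neg_ne_zero.2 one_ne_zero)
  | succ k ih =>
    have h1 := ih (Nat.lt_of_succ_lt hk)
    have h2 : ((p - 1).choose k : ZMod p) + ((p - 1).choose (k + 1) : ZMod p) = 0 := by
      rw [← Nat.cast_add, ← Nat.choose_succ_succ', Nat.sub_add_cancel hp.out.one_le,
        ZMod.natCast_eq_zero_iff]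
      exact hp.out.dvd_choose_self (Nat.succ_ne_zero k) hk
    have h3 : p - 1 - k = p - 1 - (k + 1) + 1 := by omega
    rw [h3, pow_succ] at h1
    push_cast at h1 ⊢
    rw [eq_neg_of_add_eq_zero_right h2]
    linear_combination h1

theorem fwdDiff_iterate_pred_prime (a : ℕ → ZMod p) (i : ℕ) :
    (fwdDiff 1)^[p - 1] a i = ∑ k ∈ Finset.range p, a (i + k) := by
  rw [fwdDiff_iter_eq_sum_shift, Nat.sub_add_cancel hp.out.one_le]
  refine Finset.sum_congr rfl fun k hk => ?_
  rw [smul_eq_mul, mul_one, zsmul_eq_mul]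
  push_cast
  have := choose_pred_prime_cast k (Finset.mem_range.1 hk)
  push_cast at this
  rw [this, one_mul]

variable {M : Subgroup G} [M.Normal]

/-- The values of `μ` on the conjugates of `m` by powers of `z`. -/
def conjSeq (μ : ↥M →* Multiplicative (ZMod p)) (z : G) (m : ↥M) (i : ℕ) : ZMod p :=
  Multiplicative.toAdd (μ ⟨(z ^ i)⁻¹ * (m : G) * z ^ i, by
    simpa using ‹M.Normal›.conj_mem _ m.2 (z ^ i)⁻¹⟩)

theorem conjSeq_congr (μ : ↥M →* Multiplicative (ZMod p)) (z : G) {m m' : ↥M}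
    (h : (m : G) = m') : conjSeq μ z m = conjSeq μ z m' := by
  rw [Subtype.ext h]

/-- The commutator with `z` acts as the forward difference. -/
theorem conjSeq_comm (μ : ↥M →* Multiplicative (ZMod p)) (z : G) (m c : ↥M)
    (hc : (c : G) = (m : G)⁻¹ * z⁻¹ * m * z) : conjSeq μ z c = fwdDiff 1 (conjSeq μ z m) := by
  funext i
  rw [fwdDiff, sub_eq_add_neg, add_comm]
  unfold conjSeq
  rw [← toAdd_inv, ← map_inv, ← toAdd_mul, ← map_mul]
  congr 2
  apply Subtype.ext
  rw [Subgroup.coe_mul, InvMemClass.coe_inv]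
  simp only [hc, pow_succ']
  group

/-- The iterated commutators with `z`. -/
def commSeq (z : G) (m : ↥M) (j : ℕ) : ↥M :=
  (fun c : ↥M => ⟨(c : G)⁻¹ * z⁻¹ * c * z, by
    have h := M.mul_mem (M.inv_mem c.2) (‹M.Normal›.conj_mem _ c.2 z⁻¹)
    simpa [mul_assoc] using h⟩)^[j] m

theorem conjSeq_commSeq (μ : ↥M →* Multiplicative (ZMod p)) (z : G) (m : ↥M) (j : ℕ) :
    conjSeq μ z (commSeq z m j) = (fwdDiff 1)^[j] (conjSeq μ z m) := by
  induction j with
  | zero => rfl
  | succ j ih =>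
    rw [Function.iterate_succ_apply', ← ih]
    refine conjSeq_comm μ z _ _ ?_
    simp only [commSeq, Function.iterate_succ_apply']

theorem coe_commSeq (z : G) (m : ↥M) (j : ℕ) :
    (commSeq z m j : G) = (fun y : G => y⁻¹ * z⁻¹ * y * z)^[j] (m : G) := by
  induction j with
  | zero => rfl
  | succ j ih => simp only [commSeq, Function.iterate_succ_apply'] at ih ⊢; rw [ih]

theorem conjSeq_periodic (μ : ↥M →* Multiplicative (ZMod p)) {z : G} (hz : z ^ p ∈ M) (m : ↥M)
    (i : ℕ) : conjSeq μ z m (i + p) = conjSeq μ z m i := by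
  unfold conjSeq
  congr 1
  have h1 : (z ^ i)⁻¹ * (m : G) * z ^ i ∈ M := by
    simpa using ‹M.Normal›.conj_mem _ m.2 (z ^ i)⁻¹
  have h2 : ∀ (h : (z ^ (i + p))⁻¹ * (m : G) * z ^ (i + p) ∈ M),
      (⟨_, h⟩ : ↥M) = ⟨z ^ p, hz⟩⁻¹ * ⟨_, h1⟩ * ⟨z ^ p, hz⟩ := fun h => Subtype.ext (by
    simp only [Subgroup.coe_mul, InvMemClass.coe_inv, pow_add, mul_inv_rev]
    group)
  rw [h2, map_mul, map_mul, map_inv, mul_comm (μ ⟨z ^ p, hz⟩)⁻¹, inv_mul_cancel_right]

theorem fwdDiff_iterate_prime (μ : ↥M →* Multiplicative (ZMod p)) {z : G} (hz : z ^ p ∈ M)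
    (m : ↥M) : (fwdDiff 1)^[p] (conjSeq μ z m) = 0 := by
  funext i
  have e : (fwdDiff 1)^[p] (conjSeq μ z m) = fwdDiff 1 ((fwdDiff 1)^[p - 1] (conjSeq μ z m)) := by
    rw [← Function.iterate_succ_apply' (f := fwdDiff 1), Nat.succ_eq_add_one]
    congr 2
    have := hp.out.one_le
    omega
  rw [e, fwdDiff, fwdDiff_iterate_pred_prime, fwdDiff_iterate_pred_prime, Pi.zero_apply, sub_eq_zero]
  have h1 := Finset.sum_range_succ' (fun k => conjSeq μ z m (i + k)) p
  have h2 := Finset.sum_range_succ (fun k => conjSeq μ z m (i + k)) p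
  rw [h2, Nat.add_zero, conjSeq_periodic μ hz m i] at h1
  have h3 := add_right_cancel h1
  rw [h3]
  exact Finset.sum_congr rfl fun k _ => by rw [add_assoc, add_comm 1 k]

end Diff

/-- **Yoshida's transfer argument**: if the normalizer of a weakly closed subgroup `W` of a Sylow
`p`-subgroup does not control transfer, some section of `S` has a regular module. -/
theorem exists_yoshida_data {G : Type*} [Group G] [Finite G] {p : ℕ} [hp : Fact p.Prime]
    (S : Sylow p G) {W : Subgroup G} (hW : Cfsg.IsWeaklyClosed W (S : Subgroup G))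
    (h : (S : Subgroup G) ⊓ commutator G ≠
      (S : Subgroup G) ⊓ ⁅Subgroup.normalizer (W : Set G), Subgroup.normalizer (W : Set G)⁆) :
    ∃ (R : Subgroup ↥(S : Subgroup G)) (M : Subgroup ↥R) (_ : M.Normal) (z : ↥R) (y : ↥M)
      (μ : ↥M →* Multiplicative (ZMod p)), W.subgroupOf (S : Subgroup G) ≤ R ∧ M.index = p ∧
      ((z : ↥(S : Subgroup G)) : G) ∈ W ∧ z ∉ M ∧ ∑ i ∈ Finset.range p, conjSeq μ z y i ≠ 0 := by
  classical
  set P : Subgroup G := (S : Subgroup G) with hP
  set N := Subgroup.normalizer (W : Set G) with hN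
  obtain ⟨hWS, hwc⟩ := hW
  have hSN : P ≤ N := le_normalizer_iff_forall.2 fun s hs =>
    hwc s ((conjS_mono s hWS).trans (conjS_mem_eq_self hs).le)
  have hPN : IsSylowOf p P N := (isSylowOf_top S).mono hSN le_top
  have hWn : ∀ g : G, conjS g W ≤ N → g ∈ N := by
    intro g hg
    obtain ⟨n, hn, hle⟩ := hPN.exists_conj_le hg ((S.isPGroup'.to_le hWS).map _)
    rw [← conjS_mul] at hle
    have h1 : n * g ∈ N := conjS_eq_self_iff.1 (hwc _ hle)
    simpa using N.mul_mem (N.inv_mem hn) h1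
  -- an element of `S ∩ G'` outside `N'`
  obtain ⟨a, haS, haG, haN⟩ : ∃ a ∈ P, a ∈ commutator G ∧ a ∉ ⁅N, N⁆ := by
    by_contra hc
    push Not at hc
    refine h (le_antisymm (fun a ha => ⟨ha.1, hc a ha.1 ha.2⟩) (inf_le_inf_left _ ?_))
    exact Lib.Transfer.commutator_subgroup_le N
  set B := Abelianization ↥N
  let ι : ↥P →* B := Abelianization.of.comp (Subgroup.inclusion hSN)
  let V : G →* B := MonoidHom.transfer (Abelianization.of (G := ↥N))
  -- the transfer does not map `S` onto the Sylow subgroup of the abelianization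
  have hBp : IsPGroup p ι.range := (S.isPGroup').of_surjective ι.rangeRestrict ι.rangeRestrict_surjective
  obtain ⟨χ, hχ, hχa⟩ : ∃ χ : B →* Multiplicative (ZMod p),
      (∀ s ∈ P, χ (V s) = 1) ∧ ∃ s : ↥P, χ (ι s) ≠ 1 := by
    obtain ⟨k, hk⟩ := IsPGroup.iff_card.1 hBp
    set m := Nat.card B / p ^ k with hm
    have hsyl : ∀ b : B, b ^ m ∈ ι.range ∧ (b ∈ ι.range → b ^ m = 1 → b = 1) := by
      have hidx : ¬ p ∣ ι.range.index := by
        have h1 : ¬ p ∣ (P.subgroupOf N).index := by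
          intro hd
          refine S.not_dvd_index (dvd_trans hd ?_)
          exact ⟨N.index, by rw [← Subgroup.relIndex, relIndex_mul_index hSN]⟩
        have h2 : ι.range = (P.subgroupOf N).map Abelianization.of := by
          rw [MonoidHom.range_eq_map, ← Subgroup.map_map, ← MonoidHom.range_eq_map,
            Subgroup.inclusion_range]
        rw [h2]
        exact fun hd => h1 (hd.trans (Subgroup.index_map_dvd _ (Quot.mk_surjective)))
      have hmi : m = ι.range.index := by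
        rw [hm, ← hk, ← Subgroup.card_mul_index ι.range, Nat.mul_div_cancel_left _ Nat.card_pos]
      intro b
      rw [hmi]
      refine ⟨Subgroup.pow_index_mem _ b, fun hb hb1 => ?_⟩
      have h2 : b ^ p ^ k = 1 := by
        have := congrArg Subtype.val (pow_card_eq_one' (x := (⟨b, hb⟩ : ι.range)))
        rwa [hk] at this
      have hco : Nat.Coprime (p ^ k) ι.range.index :=
        Nat.Coprime.pow_left _ ((hp.out.coprime_iff_not_dvd).2 hidx)
      have := (pow_gcd_eq_one.2 ⟨h2, hb1⟩ : b ^ _ = 1)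
      rwa [hco.gcd_eq_one, pow_one] at this
    let pw : B →* ι.range := (powMonoidHom m).codRestrict ι.range fun b => (hsyl b).1
    let T : Subgroup ↥ι.range := ((P.map V).map pw)
    have hT : T ≠ ⊤ := by
      intro hTtop
      apply haN
      have hker : V a = 1 := (Abelianization.commutator_subset_ker V haG)
      -- counting
      let f : ↥P →* ↥ι.range := (pw.comp V).comp P.subtype
      have hf : Function.Surjective f := by
        intro b
        obtain ⟨_, ⟨s, hs, rfl⟩, e⟩ := hTtop.ge (Subgroup.mem_top b)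
        exact ⟨⟨s, hs⟩, e⟩
      have hle : ι.ker ≤ f.ker := by
        intro s hs
        have h1 : (s : G) ∈ commutator G := by
          have h2 : Subgroup.inclusion hSN s ∈ commutator ↥N := by
            rw [← Abelianization.ker_of]; exact hs
          have h3 := Subgroup.mem_map_of_mem N.subtype h2
          rw [Subgroup.map_subtype_commutator] at h3
          exact Lib.Transfer.commutator_subgroup_le N h3
        show pw (V s) = 1
        rw [show V s = 1 from Abelianization.commutator_subset_ker V h1, map_one]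
      have heq : ι.ker = f.ker := by
        refine Subgroup.eq_of_le_of_card_ge hle ?_
        have h1 := Subgroup.card_mul_index f.ker
        have h2 := Subgroup.card_mul_index ι.ker
        rw [Subgroup.index_ker] at h1 h2
        rw [MonoidHom.range_eq_top_of_surjective f hf, Subgroup.card_top, ← h2] at h1
        exact (Nat.eq_of_mul_eq_mul_right Nat.card_pos h1).le
      have h4 : (⟨a, haS⟩ : ↥P) ∈ ι.ker := heq.ge (by show pw (V a) = 1; rw [hker, map_one])
      have h5 : Subgroup.inclusion hSN ⟨a, haS⟩ ∈ commutator ↥N := by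
        rw [← Abelianization.ker_of]; exact h4
      have h6 := Subgroup.mem_map_of_mem N.subtype h5
      rwa [Subgroup.map_subtype_commutator] at h6
    obtain ⟨X, hX, hTX⟩ := (eq_top_or_exists_le_coatom T).resolve_left hT
    obtain ⟨hXn, hXi⟩ := Lib.Transfer.index_eq_of_isCoatom hBp hX
    haveI : IsCyclic (↥ι.range ⧸ X) := isCyclic_of_prime_card (p := p) hXi
    have e : ↥ι.range ⧸ X ≃* Multiplicative (ZMod p) :=
      mulEquivOfCyclicCardEq (by rw [show Nat.card (↥ι.range ⧸ X) = p from hXi]; simp)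
    refine ⟨e.toMonoidHom.comp ((QuotientGroup.mk' X).comp pw), fun s hs => ?_, ?_⟩
    · show e (QuotientGroup.mk' X (pw (V s))) = 1
      rw [show QuotientGroup.mk' X (pw (V s)) = 1 from
        (QuotientGroup.eq_one_iff _).2 (hTX ⟨_, ⟨s, hs, rfl⟩, rfl⟩), map_one]
    · by_contra hc
      push Not at hc
      apply hX.1
      rw [eq_top_iff]
      rintro b -
      have hinj : Function.Injective (pw.comp ι.range.subtype) := by
        rw [injective_iff_map_eq_one]
        intro c hc1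
        exact Subtype.ext ((hsyl c).2 c.2 (congrArg Subtype.val hc1))
      obtain ⟨c, hcb⟩ := (Finite.injective_iff_surjective.1 hinj) b
      obtain ⟨s, hs⟩ := c.2
      have h7 := hc s
      rw [hs, MonoidHom.comp_apply, MulEquiv.coe_toMonoidHom, MulEquiv.map_eq_one_iff,
        MonoidHom.comp_apply, show pw c = b from hcb] at h7
      exact (QuotientGroup.eq_one_iff _).1 h7
  let lam : ↥N →* Multiplicative (ZMod p) := χ.comp Abelianization.of
  have hV : ∀ s ∈ P, MonoidHom.transfer lam s = 1 := by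
    intro s hs
    rw [← hχ s hs]
    simp only [V, MonoidHom.transfer, MonoidHom.coe_mk, OneHom.coe_mk]
    simp only [Subgroup.leftTransversals.diff, map_prod]
    rfl
  obtain ⟨s₀, hs₀⟩ := hχa
  -- an element of least order not killed by `lam`
  obtain ⟨x, ⟨hx, hlx⟩, hxmin⟩ := Set.Finite.exists_minimalFor orderOf
    {x : G | ∃ hx : x ∈ P, lam ⟨x, hSN hx⟩ ≠ 1} (Set.toFinite _) ⟨s₀, s₀.2, hs₀⟩
  obtain ⟨n, hn⟩ := IsPGroup.iff_orderOf.1 S.isPGroup' ⟨x, hx⟩
  rw [Subgroup.orderOf_mk] at hn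
  have hsmall : ∀ (u : G) (hu : u ∈ N), orderOf u ∣ orderOf x → orderOf u ≠ orderOf x →
      lam ⟨u, hu⟩ = 1 := by
    intro u hu hd hne
    obtain ⟨j, -, hj⟩ := (Nat.dvd_prime_pow hp.out).1 (hn ▸ hd)
    obtain ⟨c, hc, hle⟩ := hPN.exists_conj_le (Subgroup.zpowers_le.2 hu)
      (IsPGroup.of_card (by rw [Nat.card_zpowers, hj]))
    by_contra hl
    have hmem : c * u * c⁻¹ ∈ P := hle (conj_mem_conjS (Subgroup.mem_zpowers u))
    have hord : orderOf (c * u * c⁻¹) = orderOf u :=
      (MulAut.conj c).orderOf_eq u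
    have := hxmin (show c * u * c⁻¹ ∈ {x : G | ∃ hx : x ∈ P, lam ⟨x, hSN hx⟩ ≠ 1} from ⟨hmem, ?_⟩)
      (by rw [hord]; exact Nat.le_of_dvd (orderOf_pos x) hd)
    · rw [hord] at this
      exact hne (le_antisymm (Nat.le_of_dvd (orderOf_pos x) hd) this)
    · rw [show (⟨c * u * c⁻¹, hSN hmem⟩ : ↥N) = ⟨c, hc⟩ * ⟨u, hu⟩ * ⟨c, hc⟩⁻¹ from rfl, map_mul,
        map_mul, map_inv, mul_inv_cancel_comm]
      exact hl
  have hsmallk : ∀ (u : G) (k : ℕ), orderOf u = orderOf x → k ∣ orderOf u → k ≠ 1 → ∀ (m : G)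
      (hm : m⁻¹ * u ^ k * m ∈ N), lam ⟨_, hm⟩ = 1 := by
    intro u k hu hk hk1 m hm
    have hord : orderOf (m⁻¹ * u ^ k * m) = orderOf u / k := by
      have h1 := (MulAut.conj m⁻¹).orderOf_eq (u ^ k)
      rw [MulAut.conj_apply, inv_inv] at h1
      rw [h1, orderOf_pow_of_dvd (by rintro rfl; exact (orderOf_pos u).ne' (zero_dvd_iff.1 hk)) hk]
    refine hsmall _ hm ?_ ?_
    · rw [hord, ← hu]; exact Nat.div_dvd_of_dvd hk
    · rw [hord, ← hu]
      exact (Nat.div_lt_self (orderOf_pos u)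
        (lt_of_le_of_ne (Nat.one_le_iff_ne_zero.2 fun e => (orderOf_pos u).ne'
          (zero_dvd_iff.1 (e ▸ hk))) (Ne.symm hk1))).ne
  letI : Fintype (G ⧸ N) := Fintype.ofFinite _
  have htot : ∏ c : G ⧸ N, fixTerm lam x c = 1 := by
    rw [← transfer_eq_prod_fixTerm lam x fun k m hm hk hk1 => hsmallk x k rfl hk hk1 m hm]
    exact hV x hx
  -- an orbit of `S` other than the trivial one with nontrivial product
  letI : Fintype (Quotient (MulAction.orbitRel ↥P (G ⧸ N))) := Fintype.ofFinite _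
  rw [← Finset.prod_fiberwise (g := fun c : G ⧸ N =>
    (Quotient.mk'' c : Quotient (MulAction.orbitRel ↥P (G ⧸ N))))] at htot
  obtain ⟨ω, hω, hω1⟩ : ∃ ω : Quotient (MulAction.orbitRel ↥P (G ⧸ N)),
      ω ≠ Quotient.mk'' ((1 : G) : G ⧸ N) ∧
      (∏ c ∈ Finset.univ.filter (fun c : G ⧸ N =>
        (Quotient.mk'' c : Quotient (MulAction.orbitRel ↥P (G ⧸ N))) = ω), fixTerm lam x c) ≠ 1 := by
    by_contra hc
    push Not at hc
    rw [Fintype.prod_eq_single (Quotient.mk'' ((1 : G) : G ⧸ N)) hc] at htot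
    have hsingle : Finset.univ.filter (fun c : G ⧸ N =>
        (Quotient.mk'' c : Quotient (MulAction.orbitRel ↥P (G ⧸ N))) = Quotient.mk'' ((1 : G) : G ⧸ N))
          = {((1 : G) : G ⧸ N)} := by
      ext c
      simp only [Finset.mem_filter, Finset.mem_univ, true_and, Finset.mem_singleton]
      refine ⟨fun e => ?_, fun e => e ▸ rfl⟩
      obtain ⟨s, rfl⟩ := Quotient.exact' e
      show ((s : G) * 1 : G) = ((1 : G) : G ⧸ N)
      rw [QuotientGroup.eq]
      simpa using hSN s.2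
    rw [hsingle, Finset.prod_singleton, fixTerm_mk, dif_pos (by simpa using hSN hx)] at htot
    exact hlx (by simpa using htot)
  obtain ⟨c₀, rfl⟩ := Quotient.mk''_surjective ω
  obtain ⟨g, rfl⟩ := QuotientGroup.mk_surjective c₀
  have hg : g ∉ N := fun hg => hω (congrArg Quotient.mk'' (QuotientGroup.eq.2 (by simpa using hg)))
  let Q : Subgroup ↥P := (conjS g N).subgroupOf P
  have hQmem : ∀ q : ↥Q, g⁻¹ * ((q : ↥P) : G) * g ∈ N := fun q => mem_conjS.1 q.2
  let φ : ↥Q →* Multiplicative (ZMod p) :=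
    { toFun := fun q => lam ⟨_, hQmem q⟩
      map_one' := by
        rw [← map_one lam]; congr 1; exact Subtype.ext (by simp)
      map_mul' := fun q r => by
        rw [← map_mul lam]; congr 1; exact Subtype.ext (by simp [mul_assoc]) }
  letI : Fintype (↥P ⧸ Q) := Fintype.ofFinite _
  have hS1 : ∏ c : ↥P ⧸ Q, fixTerm φ (⟨x, hx⟩ : ↥P) c ≠ 1 := by
    refine fun e => hω1 (Eq.trans ?_ e)
    refine (Finset.prod_bij (fun c _ => (((c.out : G) * g : G) : G ⧸ N)) (fun c _ => ?_)
      (fun c _ d _ e => ?_) (fun c hc => ?_) (fun c _ => ?_)).symm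
    · simp only [Finset.mem_filter, Finset.mem_univ, true_and]
      exact Quotient.sound' ⟨c.out, rfl⟩
    · rw [QuotientGroup.eq] at e
      rw [← QuotientGroup.out_eq' c, ← QuotientGroup.out_eq' d, QuotientGroup.eq]
      exact mem_conjS.2 (by simpa [mul_assoc] using e)
    · simp only [Finset.mem_filter, Finset.mem_univ, true_and] at hc
      obtain ⟨s, hs⟩ := Quotient.exact' hc
      refine ⟨(s : ↥P ⧸ Q), Finset.mem_univ _, ?_⟩
      obtain ⟨q, hq⟩ := QuotientGroup.mk_out_eq_mul Q s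
      rw [← hs, hq]
      show _ = (((s : G) * g : G) : G ⧸ N)
      rw [QuotientGroup.eq]
      simpa [mul_assoc] using N.inv_mem (hQmem q)
    · conv_rhs => rw [fixTerm_mk]
      unfold fixTerm
      have ee : g⁻¹ * (((c.out⁻¹ * ⟨x, hx⟩ * c.out : ↥P)) : G) * g =
          ((c.out : G) * g)⁻¹ * x * ((c.out : G) * g) := by simp [mul_assoc]
      have hiff : (c.out⁻¹ * ⟨x, hx⟩ * c.out : ↥P) ∈ Q ↔
          ((c.out : G) * g)⁻¹ * x * ((c.out : G) * g) ∈ N := by
        rw [← ee]; exact mem_conjS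
      by_cases h1 : ((c.out : G) * g)⁻¹ * x * ((c.out : G) * g) ∈ N
      · rw [dif_pos h1, dif_pos (hiff.2 h1)]
        exact congrArg lam (Subtype.ext (by exact ee))
      · rw [dif_neg h1, dif_neg (hiff.not.2 h1)]
  -- pass to `R = QW` and a maximal subgroup containing `Q`
  let R : Subgroup ↥P := Q ⊔ W.subgroupOf P
  letI : Fintype (↥P ⧸ R) := Fintype.ofFinite _
  letI : Fintype (↥R ⧸ Q.subgroupOf R) := Fintype.ofFinite _
  rw [prod_fixTerm_trans (R := R) le_sup_left] at hS1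
  obtain ⟨c₁, -, hc₁⟩ := Finset.exists_ne_one_of_prod_ne_one hS1
  split_ifs at hc₁ with hy
  · set y₀ : ↥R := ⟨_, hy⟩ with hy₀
    set ψ := φ.comp (Subgroup.subgroupOfEquivOfLe (le_sup_left : Q ≤ R)).toMonoidHom
    have hQR : Q.subgroupOf R ≠ ⊤ := by
      intro e
      have hWQ : W.subgroupOf P ≤ Q := le_sup_right.trans (Subgroup.subgroupOf_eq_top.1 e)
      refine hg (N.inv_mem (hWn g⁻¹ ?_) |> fun t => by simpa using t)
      intro w hw
      have hw' := mem_conjS.1 hw
      rw [inv_inv] at hw'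
      have hwP : g * w * g⁻¹ ∈ P := hWS hw'
      have := mem_conjS.1 (hWQ (show (⟨_, hwP⟩ : ↥P) ∈ W.subgroupOf P from hw'))
      simpa [mul_assoc] using this
    obtain ⟨M, hM, hQM⟩ := (eq_top_or_exists_le_coatom _).resolve_left hQR
    obtain ⟨hMn, hMi⟩ := Lib.Transfer.index_eq_of_isCoatom
      ((S.isPGroup'.to_subgroup R)) hM
    obtain ⟨z, hzW, hzM⟩ : ∃ z : ↥R, ((z : ↥P) : G) ∈ W ∧ z ∉ M := by
      by_contra hc
      push Not at hc
      refine hM.1 (top_le_iff.1 ?_)
      have h1 : R ≤ M.map R.subtype := sup_le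
        (fun q hq => ⟨⟨q, (le_sup_left : Q ≤ R) hq⟩, hQM hq, rfl⟩)
        (fun w hw => ⟨⟨w, (le_sup_right : W.subgroupOf P ≤ R) hw⟩, hc ⟨w, _⟩ hw, rfl⟩)
      rintro r -
      obtain ⟨r', hr', e⟩ := h1 r.2
      rwa [Subtype.ext e] at hr'
    letI : Fintype (↥R ⧸ M) := Fintype.ofFinite _
    letI : Fintype (↥M ⧸ (Q.subgroupOf R).subgroupOf M) := Fintype.ofFinite _
    let μ : ↥M →* Multiplicative (ZMod p) :=
      MonoidHom.transfer (ψ.comp (Subgroup.subgroupOfEquivOfLe hQM).toMonoidHom)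
    have hordy : orderOf (((y₀ : ↥P)) : G) = orderOf x := by
      have h1 := (MulAut.conj (c₁.out : G)⁻¹).orderOf_eq x
      rw [MulAut.conj_apply, inv_inv] at h1
      rw [← h1]
      congr 1
    rw [prod_fixTerm_trans hQM] at hc₁
    have hμ : ∀ u : ↥M, orderOf ((((u : ↥R) : ↥P)) : G) = orderOf x →
        μ u = ∏ d : ↥M ⧸ (Q.subgroupOf R).subgroupOf M,
          fixTerm (ψ.comp (Subgroup.subgroupOfEquivOfLe hQM).toMonoidHom) u d := by
      intro u hu
      refine transfer_eq_prod_fixTerm _ u fun k m hm hk hk1 => ?_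
      have hord : orderOf u = orderOf x := by
        rw [← hu, Subgroup.orderOf_coe, Subgroup.orderOf_coe, Subgroup.orderOf_coe]
      have hmemN := hQmem ⟨(((m⁻¹ * u ^ k * m : ↥M) : ↥R) : ↥P), hm⟩
      show lam ⟨g⁻¹ * ((((m⁻¹ * u ^ k * m : ↥M) : ↥R) : ↥P) : G) * g, hmemN⟩ = 1
      have e1 : g⁻¹ * ((((m⁻¹ * u ^ k * m : ↥M) : ↥R) : ↥P) : G) * g =
          ((((m : ↥R) : ↥P) : G) * g)⁻¹ * ((((u : ↥R) : ↥P) : G)) ^ k * ((((m : ↥R) : ↥P) : G) * g) := by
        simp [mul_assoc]
      have hmem' := e1 ▸ hmemN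
      rw [show (⟨_, hmemN⟩ : ↥N) = ⟨_, hmem'⟩ from Subtype.ext e1]
      exact hsmallk _ k hu (by rw [hu, ← hord]; exact hk) hk1 _ hmem'
    obtain ⟨c₂, -, hc₂⟩ := Finset.exists_ne_one_of_prod_ne_one hc₁
    split_ifs at hc₂ with hy₂
    · have hyM : y₀ ∈ M := by
        have := hMn.conj_mem _ hy₂ c₂.out
        simpa [mul_assoc] using this
      refine ⟨R, M, hMn, z, ⟨y₀, hyM⟩, μ, le_sup_right, hMi, hzW, hzM, fun hsum => hc₁ ?_⟩
      have hzi : Function.Bijective fun i : Fin p => ((z ^ (i : ℕ) : ↥R) : ↥R ⧸ M) := by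
        refine (Fintype.bijective_iff_injective_and_card _).2 ⟨?_, ?_⟩
        · have hz1 : QuotientGroup.mk' M z ≠ 1 := fun e => hzM ((QuotientGroup.eq_one_iff z).1 e)
          have hoz : orderOf (QuotientGroup.mk' M z) = p :=
            orderOf_eq_prime (by
              rw [← show Nat.card (↥R ⧸ M) = p from hMi]; exact pow_card_eq_one') hz1
          intro i j e
          have e' : QuotientGroup.mk' M z ^ (i : ℕ) = QuotientGroup.mk' M z ^ (j : ℕ) := by
            rw [← map_pow, ← map_pow]; exact e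
          exact Fin.ext (pow_injOn_Iio_orderOf (Set.mem_Iio.2 (lt_of_lt_of_eq i.2 hoz.symm)) (Set.mem_Iio.2 (lt_of_lt_of_eq j.2 hoz.symm)) e')
        · rw [Fintype.card_fin, ← Nat.card_eq_fintype_card]
          exact hMi.symm
      rw [← hzi.prod_comp]
      have hterm : ∀ (c : ↥R ⧸ M) (r : ↥R), (r : ↥R ⧸ M) = c →
          ∀ (hr : r⁻¹ * y₀ * r ∈ M) (hc : c.out⁻¹ * y₀ * c.out ∈ M),
            μ ⟨_, hc⟩ = μ ⟨_, hr⟩ := by
        rintro c r rfl hr hc
        obtain ⟨m, hm⟩ := QuotientGroup.mk_out_eq_mul M r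
        rw [show (⟨_, hc⟩ : ↥M) = m⁻¹ * ⟨_, hr⟩ * m from Subtype.ext (by simp [hm, mul_assoc]),
          map_mul, map_mul, map_inv, mul_comm (μ m)⁻¹, inv_mul_cancel_right]
      have hconjM : ∀ r : ↥R, r⁻¹ * y₀ * r ∈ M := fun r => by
        simpa using hMn.conj_mem _ hyM r⁻¹
      apply Multiplicative.toAdd.injective
      rw [toAdd_prod, toAdd_one, ← hsum,
        ← Fin.sum_univ_eq_sum_range (conjSeq μ z ⟨y₀, hyM⟩)]
      refine Finset.sum_congr rfl fun i _ => ?_
      rw [dif_pos (hconjM _), ← hμ _ ?_, hterm _ (z ^ (i : ℕ)) rfl (hconjM _)]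
      · rfl
      · show orderOf ((((_ : ↥R)⁻¹ * y₀ * _ : ↥R) : ↥P) : G) = _
        rw [← hordy]
        have h1 := (MulAut.conj ((((((z ^ (i : ℕ) : ↥R) : ↥R ⧸ M).out : ↥R) : ↥P) : G))⁻¹).orderOf_eq
          ((y₀ : ↥P) : G)
        rw [MulAut.conj_apply, inv_inv] at h1
        rw [← h1]
        congr 1
    · exact absurd rfl hc₂
  · exact absurd rfl hc₁

end Cfsg.Agent.Lib.LocalEven
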